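import Mathlib
import Cfsg.Agent.Helper2.SylU

/-! Piece [P11] of helper2's plan for S4349. -/

set_option autoImplicit false

namespace Cfsg.Agent.Helper6.S4349k

open Cfsg.Agent.Helper2.SylU

variable {α : Type*} [Fintype α] [DecidableEq α]

theorem good_of_trans (z : Equiv.Perm α) (S : Finset α)
    (h : ∀ a ∈ S, ∀ b ∈ S, ∃ j : ℕ, (z ^ j) a = b) : Good z S := by
  refine ⟨fun a ha b hb _ _ _ => ?_, fun a ha b hb c hc hfa _ _ => Or.inl ?_⟩
  · obtain ⟨j, hj⟩ := h a ha b hb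
    exact ⟨(j : ℤ), by rw [zpow_natCast]; exact hj⟩
  · obtain ⟨j, hj⟩ := h a ha b hb
    rw [← hj]
    exact (Equiv.Perm.pow_apply_eq_self_of_apply_eq_self hfa j).symm

theorem trans_sq (y : Equiv.Perm α) (S T : Finset α) (hST : ∀ a ∈ S, y a ∈ T)
    (hTS : ∀ a ∈ T, y a ∈ S) (hdisj : ∀ a ∈ S, a ∉ T)
    (htr : ∀ a ∈ S, ∀ b ∈ S, y.SameCycle a b) :
    ∀ a ∈ S, ∀ b ∈ S, ∃ j : ℕ, ((y * y) ^ j) a = b := by
  intro a ha b hb
  have key : ∀ n : ℕ, (y ^ (2 * n)) a ∈ S ∧ (y ^ (2 * n + 1)) a ∈ T := by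
    intro n
    induction n with
    | zero =>
      refine ⟨by simpa using ha, by simpa using hST a ha⟩
    | succ n ih =>
      have h1 : (y ^ (2 * (n + 1))) a = y ((y ^ (2 * n + 1)) a) := by
        rw [show 2 * (n + 1) = (2 * n + 1) + 1 by ring, pow_succ', Equiv.Perm.mul_apply]
      have h2 : (y ^ (2 * (n + 1) + 1)) a = y ((y ^ (2 * (n + 1))) a) := by
        rw [pow_succ', Equiv.Perm.mul_apply]
      have h3 : (y ^ (2 * (n + 1))) a ∈ S := by rw [h1]; exact hTS _ ih.2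
      exact ⟨h3, by rw [h2]; exact hST _ h3⟩
  obtain ⟨i, hi⟩ := (htr a ha b hb).exists_nat_pow_eq
  rcases Nat.even_or_odd' i with ⟨j, rfl | rfl⟩
  · exact ⟨j, by rw [← hi, ← pow_two, ← pow_mul]⟩
  · exfalso
    exact hdisj b hb (hi ▸ (key j).2)

theorem typeA (D : Subgroup (Equiv.Perm α)) (O B : Finset α) (hO : IsOrb D O)
    (hB : IsHalf D O B) (h2 : 2 ≤ O.card) (y : Equiv.Perm α) (hy : y ∈ D)
    (htr : ∀ a ∈ O, ∀ b ∈ O, y.SameCycle a b) :
    y * y ∈ stab D B ∧ Good (y * y) B ∧ Good (y * y) (O \ B) := by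
  obtain ⟨hBO, hcard, hblock⟩ := hB
  have hc2 : (O \ B).card = B.card := by
    have h3 := Finset.card_sdiff_add_card_eq_card hBO
    omega
  have hBne : B.Nonempty := Finset.card_pos.1 (by omega)
  have hCne : (O \ B).Nonempty := Finset.card_pos.1 (by omega)
  obtain ⟨a0, ha0⟩ := hBne
  obtain ⟨b0, hb0⟩ := hCne
  -- y maps B off B
  have hoff : ∀ a ∈ B, y a ∉ B := by
    rcases hblock y hy with h | h
    · exfalso
      have hpow : ∀ n : ℕ, (y ^ n) a0 ∈ B := by
        intro n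
        induction n with
        | zero => simpa using ha0
        | succ n ih =>
          rw [pow_succ', Equiv.Perm.mul_apply]
          exact h _ ih
      obtain ⟨i, hi⟩ := (htr a0 (hBO ha0) b0 (Finset.mem_sdiff.1 hb0).1).exists_nat_pow_eq
      exact (Finset.mem_sdiff.1 hb0).2 (hi ▸ hpow i)
    · exact h
  have hST : ∀ a ∈ B, y a ∈ O \ B := fun a ha =>
    Finset.mem_sdiff.2 ⟨hO.1 y hy a (hBO ha), hoff a ha⟩
  have himg : B.image y = O \ B := by
    apply Finset.eq_of_subset_of_card_le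
    · intro c hc
      obtain ⟨a, ha, rfl⟩ := Finset.mem_image.1 hc
      exact hST a ha
    · rw [Finset.card_image_of_injective B y.injective, hc2]
  have hTS : ∀ a ∈ O \ B, y a ∈ B := by
    intro c hc
    by_contra hn
    have h4 : y c ∈ B.image y := by
      rw [himg]
      exact Finset.mem_sdiff.2 ⟨hO.1 y hy c (Finset.mem_sdiff.1 hc).1, hn⟩
    obtain ⟨a, ha, hac⟩ := Finset.mem_image.1 h4
    have h5 : a = c := y.injective hac
    exact (Finset.mem_sdiff.1 hc).2 (h5 ▸ ha)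
  have hin : ∀ a ∈ B, (y * y) a ∈ B := fun a ha => by
    rw [Equiv.Perm.mul_apply]
    exact hTS _ (hST a ha)
  have himg2 : B.image (y * y) = B := by
    apply Finset.eq_of_subset_of_card_le
    · intro c hc
      obtain ⟨a, ha, rfl⟩ := Finset.mem_image.1 hc
      exact hin a ha
    · rw [Finset.card_image_of_injective B (y * y).injective]
  refine ⟨(mem_stab D B (y * y)).2 ⟨D.mul_mem hy hy, fun a => ⟨hin a, fun ha => ?_⟩⟩, ?_, ?_⟩
  · rw [← himg2] at ha
    obtain ⟨b, hb, hba⟩ := Finset.mem_image.1 ha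
    have h6 : b = a := (y * y).injective hba
    exact h6 ▸ hb
  · exact good_of_trans (y * y) B (trans_sq y B (O \ B) hST hTS
      (fun a ha h => (Finset.mem_sdiff.1 h).2 ha)
      (fun a ha b hb => htr a (hBO ha) b (hBO hb)))
  · exact good_of_trans (y * y) (O \ B) (trans_sq y (O \ B) B hTS hST
      (fun a ha h => (Finset.mem_sdiff.1 ha).2 h)
      (fun a ha b hb => htr a (Finset.mem_sdiff.1 ha).1 b (Finset.mem_sdiff.1 hb).1))

end Cfsg.Agent.Helper6.S4349k
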