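import Mathlib
import Cfsg.Agent.Helper2.SylU

/-! Piece [P12] of helper2's plan for S4349. -/

set_option autoImplicit false

namespace Cfsg.Agent.Helper6.S4349l

open Cfsg.Agent.Helper2.SylU

variable {α : Type*} [Fintype α] [DecidableEq α]

theorem good_mono (y : Equiv.Perm α) (S O : Finset α) (h : S ⊆ O) (hg : Good y O) : Good y S :=
  ⟨fun a ha b hb => hg.1 a (h ha) b (h hb),
    fun a ha b hb c hc => hg.2 a (h ha) b (h hb) c (h hc)⟩

theorem typeB (D : Subgroup (Equiv.Perm α)) (O B : Finset α) (hO : IsOrb D O)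
    (hB : IsHalf D O B) (y : Equiv.Perm α) (hy : y ∈ D) (hgood : Good y O) (β : α)
    (hβ : β ∈ O) (hfix : y β = β) : y ∈ stab D B ∧ Good y B ∧ Good y (O \ B) := by
  obtain ⟨hBO, hcard, hblock⟩ := hB
  refine ⟨?_, good_mono y B O hBO hgood, good_mono y (O \ B) O Finset.sdiff_subset hgood⟩
  have hin : ∀ a ∈ B, y a ∈ B := by
    rcases hblock y hy with h | h
    · exact h
    · exfalso
      have himg : B.image y ⊆ O \ B := by
        intro c hc
        obtain ⟨a, ha, rfl⟩ := Finset.mem_image.1 hc
        exact Finset.mem_sdiff.2 ⟨hO.1 y hy a (hBO ha), h a ha⟩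
      have hc1 : (B.image y).card = B.card := Finset.card_image_of_injective B y.injective
      have hc2 : (O \ B).card = B.card := by
        have h3 := Finset.card_sdiff_add_card_eq_card hBO
        omega
      have heq : B.image y = O \ B :=
        Finset.eq_of_subset_of_card_le himg (by rw [hc1, hc2])
      by_cases hβB : β ∈ B
      · exact h β hβB (by rw [hfix]; exact hβB)
      · have h4 : β ∈ B.image y := by rw [heq]; exact Finset.mem_sdiff.2 ⟨hβ, hβB⟩
        obtain ⟨a, ha, hab⟩ := Finset.mem_image.1 h4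
        have h5 : a = β := y.injective (hab.trans hfix.symm)
        exact hβB (h5 ▸ ha)
  have himg2 : B.image y = B := by
    apply Finset.eq_of_subset_of_card_le
    · intro c hc
      obtain ⟨a, ha, rfl⟩ := Finset.mem_image.1 hc
      exact hin a ha
    · rw [Finset.card_image_of_injective B y.injective]
  refine (mem_stab D B y).2 ⟨hy, fun a => ⟨hin a, fun ha => ?_⟩⟩
  rw [← himg2] at ha
  obtain ⟨b, hb, hba⟩ := Finset.mem_image.1 ha
  have h6 : b = a := y.injective hba
  exact h6 ▸ hb

end Cfsg.Agent.Helper6.S4349l
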