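import Mathlib

/-!
Piece [C] for S3767 (helper9's plan): an isometry acting irreducibly on a nondegenerate
subspace of an alternating space over `ZMod p` satisfies `x ^ (p ^ j + 1) = 1` there.
-/

namespace Cfsg.Agent.Helper6.ESC

open Polynomial

variable {p : ℕ} [Fact p.Prime] {V : Type*} [AddCommGroup V] [Module (ZMod p) V] [Finite V]

omit [Finite V] in
theorem skew (B : V →ₗ[ZMod p] V →ₗ[ZMod p] ZMod p) (halt : ∀ v, B v v = 0) (u v : V) :
    B u v = - B v u := by
  have h := halt (u + v)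
  simp only [map_add, LinearMap.add_apply, halt, zero_add, add_zero] at h
  exact eq_neg_of_add_eq_zero_right h

theorem pow_eq_one_of_inj {R M : Type*} [Ring R] [AddCommGroup M] [Module R M] [Finite M]
    (a : Module.End R M) (ha : Function.Injective a) : ∃ k, 0 < k ∧ a ^ k = 1 := by
  have hb : Function.Bijective a := Finite.injective_iff_bijective.1 ha
  let e : Equiv.Perm M := Equiv.ofBijective a hb
  refine ⟨orderOf e, orderOf_pos e, ?_⟩
  refine LinearMap.ext fun w => ?_
  have h1 : (e ^ orderOf e) w = w := by rw [pow_orderOf_eq_one]; rfl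
  have h2 : ∀ n : ℕ, ∀ w, (e ^ n) w = (a ^ n) w := by
    intro n
    induction n with
    | zero => intro w; rfl
    | succ n ih =>
      intro w
      rw [pow_succ, pow_succ, Equiv.Perm.mul_apply, Module.End.mul_apply, ih]
      rfl
  rw [← h2]
  exact h1

omit [Finite V] in
theorem adj_aeval (B : V →ₗ[ZMod p] V →ₗ[ZMod p] ZMod p) (W : Submodule (ZMod p) V)
    (y z : Module.End (ZMod p) W)
    (h : ∀ u v : W, B (y u : V) (v : V) = B (u : V) (z v : V)) (g : (ZMod p)[X]) :
    ∀ u v : W, B ((aeval y g) u : V) (v : V) = B (u : V) ((aeval z g) v : V) := by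
  refine Polynomial.induction_on g ?_ ?_ ?_
  · intro a u v
    simp [Module.algebraMap_end_apply]
  · intro f g hf hg u v
    simp [hf u v, hg u v]
  · intro n a ih u v
    have e1 : aeval y (C a * X ^ (n + 1)) = aeval y (C a * X ^ n) * y := by
      rw [pow_succ, ← mul_assoc, map_mul, aeval_X]
    have e2 : aeval z (C a * X ^ (n + 1)) = z * aeval z (C a * X ^ n) := by
      rw [pow_succ, ← mul_assoc, mul_comm (C a * X ^ n) X, map_mul, aeval_X]
    rw [e1, e2, Module.End.mul_apply, Module.End.mul_apply, ih (y u) v, h]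

theorem field_step {K : Type*} [Field K] [Finite K] [Algebra (ZMod p) K]
    (σ : K →ₐ[ZMod p] K) (a : K) (ha : a ≠ 0) (hσ : σ a = a⁻¹) :
    ∃ n : ℕ, a ^ (p ^ n + 1) = 1 := by
  obtain ⟨n, hn⟩ := (FiniteField.bijective_frobeniusAlgHom_pow (ZMod p) K).2 σ
  refine ⟨n, ?_⟩
  have hn' : FiniteField.frobeniusAlgHom (ZMod p) K ^ (n : ℕ) = σ := hn
  have h1 : σ a = a ^ (p ^ (n : ℕ)) := by
    rw [← hn', AlgHom.coe_pow, FiniteField.coe_frobeniusAlgHom, pow_iterate, ZMod.card]
  rw [pow_succ, ← h1, hσ, inv_mul_cancel₀ ha]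

theorem irr_isom (B : V →ₗ[ZMod p] V →ₗ[ZMod p] ZMod p) (halt : ∀ v, B v v = 0)
    (x : V ≃ₗ[ZMod p] V) (hx : ∀ u v, B (x u) (x v) = B u v) (W : Submodule (ZMod p) V)
    (hWinv : ∀ w ∈ W, x w ∈ W) (hWne : W ≠ ⊥)
    (hWmin : ∀ U : Submodule (ZMod p) V, U ≤ W → (∀ u ∈ U, x u ∈ U) → U = ⊥ ∨ U = W)
    (hWnd : ∀ u ∈ W, (∀ v ∈ W, B u v = 0) → u = 0) :
    ∃ j : ℕ, ∀ w ∈ W, (x ^ (p ^ j + 1)) w = w := by
  classical
  let y : Module.End (ZMod p) W := (x : V →ₗ[ZMod p] V).restrict hWinv
  have hy : ∀ w : W, ((y w : W) : V) = x (w : V) := fun w => rfl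
  haveI hnt : Nontrivial W := (Submodule.nontrivial_iff_ne_bot).2 hWne
  obtain ⟨w0, hw0⟩ := exists_ne (0 : W)
  have h01 : (1 : Module.End (ZMod p) W) ≠ 0 := by
    intro h
    apply hw0
    have := congrArg (fun f : Module.End (ZMod p) W => f w0) h
    simpa using this
  haveI : Nontrivial (Module.End (ZMod p) W) := ⟨⟨1, 0, h01⟩⟩
  have hy0 : y ≠ 0 := by
    intro h
    apply hw0
    have h1 : ((y w0 : W) : V) = 0 := by rw [h]; rfl
    rw [hy] at h1
    have h2 : (w0 : V) = 0 := x.injective (h1.trans (map_zero x).symm)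
    exact Subtype.ext h2
  have hcomm : ∀ g : (ZMod p)[X], aeval y g * y = y * aeval y g := by
    intro g
    calc aeval y g * y = aeval y g * aeval y X := by rw [aeval_X]
      _ = aeval y (g * X) := (map_mul _ _ _).symm
      _ = aeval y (X * g) := by rw [mul_comm]
      _ = aeval y X * aeval y g := map_mul _ _ _
      _ = y * aeval y g := by rw [aeval_X]
  have hinj : ∀ g : (ZMod p)[X], aeval y g ≠ 0 → Function.Injective (aeval y g) := by
    intro g hg
    let U : Submodule (ZMod p) V := (LinearMap.ker (aeval y g)).map W.subtype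
    have hUW : U ≤ W := Submodule.map_subtype_le W _
    have hUx : ∀ u ∈ U, x u ∈ U := by
      intro u hu
      obtain ⟨w, hw, rfl⟩ := Submodule.mem_map.1 hu
      refine Submodule.mem_map.2 ⟨y w, ?_, rfl⟩
      rw [LinearMap.mem_ker] at hw ⊢
      have := congrArg (fun f : Module.End (ZMod p) W => f w) (hcomm g)
      simp only [Module.End.mul_apply] at this
      rw [this, hw, map_zero]
    rcases hWmin U hUW hUx with h | h
    · refine (injective_iff_map_eq_zero (aeval y g)).2 ?_
      intro w hw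
      have : (w : V) ∈ U := Submodule.mem_map.2 ⟨w, LinearMap.mem_ker.2 hw, rfl⟩
      rw [h, Submodule.mem_bot] at this
      exact Subtype.ext this
    · exfalso
      apply hg
      refine LinearMap.ext fun w => ?_
      have : (w : V) ∈ U := by rw [h]; exact w.2
      obtain ⟨w', hw', e⟩ := Submodule.mem_map.1 this
      have : w' = w := Subtype.ext e
      subst this
      exact LinearMap.mem_ker.1 hw'
  let I : Ideal (ZMod p)[X] :=
    RingHom.ker (aeval y : (ZMod p)[X] →ₐ[ZMod p] Module.End (ZMod p) W)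
  have hI : ∀ g, g ∈ I ↔ aeval y g = 0 := fun g => RingHom.mem_ker
  have hmax : I.IsMaximal := by
    rw [Ideal.isMaximal_iff]
    refine ⟨?_, ?_⟩
    · rw [hI, map_one]; exact h01
    · intro J g hIJ hgI hgJ
      have hg0 : aeval y g ≠ 0 := fun h => hgI ((hI g).2 h)
      obtain ⟨k, hk, hk1⟩ := pow_eq_one_of_inj (aeval y g) (hinj g hg0)
      have h1 : g ^ k - 1 ∈ I := by
        rw [hI, map_sub, map_pow, map_one, hk1, sub_self]
      have h2 : g ^ k ∈ J := Ideal.pow_mem_of_mem J hgJ k hk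
      have h3 := J.sub_mem h2 (hIJ h1)
      rwa [sub_sub_cancel] at h3
  haveI := hmax
  letI : Field ((ZMod p)[X] ⧸ I) := Ideal.Quotient.field I
  let φ : ((ZMod p)[X] ⧸ I) →ₐ[ZMod p] Module.End (ZMod p) W :=
    Ideal.Quotient.liftₐ I (aeval y) (fun g hg => (hI g).1 hg)
  have hφ : ∀ g, φ (Ideal.Quotient.mk I g) = aeval y g := fun g => rfl
  have hφinj : Function.Injective φ :=
    (φ : ((ZMod p)[X] ⧸ I) →+* Module.End (ZMod p) W).injective
  haveI : Finite (Module.End (ZMod p) W) :=
    Finite.of_injective (fun f : Module.End (ZMod p) W => (f : W → W)) DFunLike.coe_injective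
  haveI : Finite ((ZMod p)[X] ⧸ I) := Finite.of_injective φ hφinj
  let yb : (ZMod p)[X] ⧸ I := Ideal.Quotient.mk I X
  have hyb : φ yb = y := by rw [hφ, aeval_X]
  have hyb0 : yb ≠ 0 := by
    intro h
    apply hy0
    rw [← hyb, h, map_zero]
  let z : Module.End (ZMod p) W := φ yb⁻¹
  have hyz : y * z = 1 := by
    rw [← hyb, ← map_mul, mul_inv_cancel₀ hyb0, map_one]
  have hadj0 : ∀ u v : W, B (y u : V) (v : V) = B (u : V) (z v : V) := by
    intro u v
    have h1 : y (z v) = v := by
      have := congrArg (fun f : Module.End (ZMod p) W => f v) hyz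
      simpa [Module.End.mul_apply] using this
    conv_lhs => rw [← h1]
    rw [hy, hy, hx]
  have hadj := adj_aeval B W y z hadj0
  have hker : ∀ g : (ZMod p)[X], aeval y g = 0 → aeval z g = 0 := by
    intro g hg
    refine LinearMap.ext fun v => ?_
    have h1 : ∀ u : W, B (u : V) ((aeval z g) v : V) = 0 := by
      intro u
      rw [← hadj g u v, hg]
      simp
    have h2 : (((aeval z g) v : W) : V) = 0 := by
      apply hWnd _ ((aeval z g) v).2
      intro u hu
      rw [skew B halt, neg_eq_zero]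
      exact h1 ⟨u, hu⟩
    exact Subtype.ext h2
  let σ : ((ZMod p)[X] ⧸ I) →ₐ[ZMod p] ((ZMod p)[X] ⧸ I) :=
    Ideal.Quotient.liftₐ I (aeval yb⁻¹) (by
      intro g hg
      apply hφinj
      rw [map_zero, ← Polynomial.aeval_algHom_apply]
      exact hker g ((hI g).1 hg))
  have hσ : σ yb = yb⁻¹ := by
    have : σ (Ideal.Quotient.mk I X) = aeval yb⁻¹ X := rfl
    show σ (Ideal.Quotient.mk I X) = _
    rw [this, aeval_X]
  obtain ⟨n, hn⟩ := field_step σ yb hyb0 hσ
  refine ⟨n, ?_⟩
  have hyp : y ^ (p ^ n + 1) = 1 := by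
    rw [← hyb, ← map_pow, hn, map_one]
  have hpow : ∀ k : ℕ, ∀ w : W, (((y ^ k) w : W) : V) = (x ^ k) (w : V) := by
    intro k
    induction k with
    | zero => intro w; rfl
    | succ k ih =>
      intro w
      rw [pow_succ, pow_succ, Module.End.mul_apply, ih, hy]
      rfl
  intro w hw
  have := hpow (p ^ n + 1) ⟨w, hw⟩
  rw [hyp] at this
  exact this.symm

end Cfsg.Agent.Helper6.ESC
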