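import Mathlib
import Cfsg.Prelude.Def_Transfer

/-!
Piece [E] (backup copy) for S3767 (helper9's plan): translation of the extraspecial
setting into a symplectic `ZMod p`-module with a fixed-point-free isometry.
-/

namespace Cfsg.Agent.Helper6.ESE

universe u v

open scoped commutatorElement

theorem layer1 {Q : Type u} [CommGroup Q] [Finite Q] {C : Type v} [Group C] {p : ℕ}
    [Fact p.Prime] (hC : Nat.card C = p) (hQp : ∀ q : Q, q ^ p = 1)
    (β : Q → Q → C) (hβl : ∀ u u' v, β (u * u') v = β u v * β u' v)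
    (hβr : ∀ u v v', β u (v * v') = β u v * β u v')
    (hβalt : ∀ u, β u u = 1) (hβnd : ∀ u, (∀ v, β u v = 1) → u = 1)
    (τ : Q ≃* Q) (hτβ : ∀ u v, β (τ u) (τ v) = β u v)
    (h : ℕ) (hτh : ∀ u, (⇑τ)^[h] u = u)
    (hfree : ∀ i, 0 < i → i < h → ∀ u, (⇑τ)^[i] u = u → u = 1)
    (N : ℕ) (hcard : Nat.card Q = N) :
    ∃ (V : Type u) (_ : AddCommGroup V) (_ : Module (ZMod p) V) (_ : Finite V)
      (B : V →ₗ[ZMod p] V →ₗ[ZMod p] ZMod p) (x : V ≃ₗ[ZMod p] V),
      (∀ v, B v v = 0) ∧ (∀ u, (∀ v, B u v = 0) → u = 0) ∧ (∀ u v, B (x u) (x v) = B u v) ∧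
      x ^ h = 1 ∧ (∀ i, 0 < i → i < h → ∀ v, (x ^ i) v = v → v = 0) ∧
      Nat.card V = N := by
  classical
  subst hC
  haveI hcyc : IsCyclic C := isCyclic_of_prime_card (p := Nat.card C) rfl
  let e : Multiplicative (ZMod (Nat.card C)) ≃* C := zmodCyclicMulEquiv hcyc
  let lg : C → ZMod (Nat.card C) := fun c => Multiplicative.toAdd (e.symm c)
  have lg_mul : ∀ c c', lg (c * c') = lg c + lg c' := by
    intro c c'
    show Multiplicative.toAdd (e.symm (c * c')) = _
    rw [map_mul]; rfl
  have lg_one : lg 1 = 0 := by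
    show Multiplicative.toAdd (e.symm 1) = _
    rw [map_one]; rfl
  have lg_eq_zero : ∀ c, lg c = 0 → c = 1 := by
    intro c hc
    have h1 : e.symm c = 1 := hc
    have h2 := congrArg e h1
    rwa [MulEquiv.apply_symm_apply, map_one] at h2
  haveI mod : Module (ZMod (Nat.card C)) (Additive Q) := AddCommGroup.zmodModule (by
    intro v
    have := congrArg Additive.ofMul (hQp (Additive.toMul v))
    simpa using this)
  have hadd_r : ∀ u v v' : Additive Q,
      lg (β (Additive.toMul u) (Additive.toMul (v + v'))) =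
        lg (β (Additive.toMul u) (Additive.toMul v)) +
          lg (β (Additive.toMul u) (Additive.toMul v')) := by
    intro u v v'
    have h1 : Additive.toMul (v + v') = Additive.toMul v * Additive.toMul v' := rfl
    rw [h1, hβr, lg_mul]
  have hadd_l : ∀ u u' v : Additive Q,
      lg (β (Additive.toMul (u + u')) (Additive.toMul v)) =
        lg (β (Additive.toMul u) (Additive.toMul v)) +
          lg (β (Additive.toMul u') (Additive.toMul v)) := by
    intro u u' v
    have h1 : Additive.toMul (u + u') = Additive.toMul u * Additive.toMul u' := rfl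
    rw [h1, hβl, lg_mul]
  let fr : Additive Q → (Additive Q →+ ZMod (Nat.card C)) := fun u =>
    AddMonoidHom.mk' (fun v => lg (β (Additive.toMul u) (Additive.toMul v)))
      (fun v v' => hadd_r u v v')
  let fl : Additive Q → (Additive Q →+ ZMod (Nat.card C)) := fun v =>
    AddMonoidHom.mk' (fun u => lg (β (Additive.toMul u) (Additive.toMul v)))
      (fun u u' => hadd_l u u' v)
  let B : Additive Q →ₗ[ZMod (Nat.card C)] Additive Q →ₗ[ZMod (Nat.card C)] ZMod (Nat.card C) :=
    LinearMap.mk₂ (ZMod (Nat.card C))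
      (fun u v => lg (β (Additive.toMul u) (Additive.toMul v)))
      (fun u u' v => hadd_l u u' v)
      (fun c u v => ZMod.map_smul (fl v) c u)
      (fun u v v' => hadd_r u v v')
      (fun c u v => ZMod.map_smul (fr u) c v)
  have hB : ∀ u v, B u v = lg (β (Additive.toMul u) (Additive.toMul v)) := fun u v => rfl
  let xf : Additive Q →+ Additive Q := MonoidHom.toAdditive (τ : Q →* Q)
  let xg : Additive Q →+ Additive Q := MonoidHom.toAdditive (τ.symm : Q →* Q)
  let x : Additive Q ≃ₗ[ZMod (Nat.card C)] Additive Q :=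
    LinearEquiv.ofLinearMap (xf.toZModLinearMap (Nat.card C)) (xg.toZModLinearMap (Nat.card C))
      (LinearMap.ext fun v => congrArg Additive.ofMul (τ.apply_symm_apply (Additive.toMul v)))
      (LinearMap.ext fun v => congrArg Additive.ofMul (τ.symm_apply_apply (Additive.toMul v)))
  have hx : ∀ v, x v = Additive.ofMul (τ (Additive.toMul v)) := fun v => rfl
  have hxpow : ∀ (i : ℕ) (v : Additive Q),
      (x ^ i) v = Additive.ofMul ((⇑τ)^[i] (Additive.toMul v)) := by
    intro i
    induction i with
    | zero => intro v; rfl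
    | succ i ih =>
      intro v
      rw [pow_succ, LinearEquiv.mul_apply, ih, hx, Function.iterate_succ_apply]
      try rfl
  refine ⟨Additive Q, inferInstance, mod, inferInstance, B, x, ?_, ?_, ?_, ?_, ?_, hcard⟩
  · intro v; rw [hB, hβalt, lg_one]
  · intro u hu
    have h1 : Additive.toMul u = 1 := hβnd _ (fun v => lg_eq_zero _ (by
      have h2 := hu (Additive.ofMul v)
      rw [hB] at h2
      exact h2))
    exact congrArg Additive.ofMul h1
  · intro u v
    rw [hB, hB, hx, hx]
    show lg (β (τ (Additive.toMul u)) (τ (Additive.toMul v))) = _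
    rw [hτβ]
  · refine LinearEquiv.ext fun v => ?_
    rw [hxpow, hτh]; rfl
  · intro i hi hih v hv
    rw [hxpow] at hv
    have h1 : (⇑τ)^[i] (Additive.toMul v) = Additive.toMul v := congrArg Additive.toMul hv
    have h2 := hfree i hi hih _ h1
    exact congrArg Additive.ofMul h2

theorem layer2 {P : Type u} [Group P] [Finite P] {p : ℕ} [Fact p.Prime]
    (hP : Cfsg.IsExtraspecial p P) (n : ℕ) (hn : Nat.card P = p ^ (2 * n + 1))
    (α : P ≃* P) (h : ℕ) (hh : 0 < h) (hαh : ∀ a, (⇑α)^[h] a = a) (hcop : h.Coprime p)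
    (hfix : ∀ i, 0 < i → i < h → ∀ a : P, (⇑α)^[i] a = a ↔ a ∈ Subgroup.center P) :
    ∃ (V : Type u) (_ : AddCommGroup V) (_ : Module (ZMod p) V) (_ : Finite V)
      (B : V →ₗ[ZMod p] V →ₗ[ZMod p] ZMod p) (x : V ≃ₗ[ZMod p] V),
      (∀ v, B v v = 0) ∧ (∀ u, (∀ v, B u v = 0) → u = 0) ∧ (∀ u v, B (x u) (x v) = B u v) ∧
      x ^ h = 1 ∧ (∀ i, 0 < i → i < h → ∀ v, (x ^ i) v = v → v = 0) ∧
      Nat.card V = p ^ (2 * n) := by
  classical
  obtain ⟨⟨hpg, hfr, hcm⟩, hZ⟩ := hP
  have hcz : ∀ a b : P, ⁅a, b⁆ ∈ Subgroup.center P := by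
    intro a b
    have h1 : ⁅a, b⁆ ∈ commutator P :=
      Subgroup.commutator_mem_commutator (Subgroup.mem_top a) (Subgroup.mem_top b)
    rw [hcm] at h1; exact h1
  have hcc : ∀ a b g : P, g * ⁅a, b⁆ = ⁅a, b⁆ * g :=
    fun a b g => Subgroup.mem_center_iff.1 (hcz a b) g
  have hml : ∀ a a' b : P, ⁅a * a', b⁆ = ⁅a, b⁆ * ⁅a', b⁆ := by
    intro a a' b
    have key : ⁅a * a', b⁆ = a * ⁅a', b⁆ * a⁻¹ * ⁅a, b⁆ := by
      simp only [commutatorElement_def]; group
    rw [key, hcc a' b a, mul_inv_cancel_right]
    exact hcc a b _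
  have hmr : ∀ a b b' : P, ⁅a, b * b'⁆ = ⁅a, b⁆ * ⁅a, b'⁆ := by
    intro a b b'
    have key : ⁅a, b * b'⁆ = ⁅a, b⁆ * (b * ⁅a, b'⁆ * b⁻¹) := by
      simp only [commutatorElement_def]; group
    rw [key, hcc a b' b, mul_inv_cancel_right]
  have hcl : ∀ z ∈ Subgroup.center P, ∀ g : P, ⁅z, g⁆ = 1 := fun z hz g =>
    commutatorElement_eq_one_iff_commute.2 (Subgroup.mem_center_iff.1 hz g).symm
  have hcr : ∀ z ∈ Subgroup.center P, ∀ g : P, ⁅g, z⁆ = 1 := fun z hz g =>
    commutatorElement_eq_one_iff_commute.2 (Subgroup.mem_center_iff.1 hz g)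
  have hZp : ∀ c : P, c ∈ Subgroup.center P → c ^ p = 1 := by
    intro c hc
    have h1 := pow_card_eq_one' (G := Subgroup.center P) (x := ⟨c, hc⟩)
    rw [hZ] at h1
    simpa using congrArg Subtype.val h1
  have hpowl : ∀ (k : ℕ) (a b : P), ⁅a ^ k, b⁆ = ⁅a, b⁆ ^ k := by
    intro k a b
    induction k with
    | zero => simp
    | succ k ih => rw [pow_succ, hml, ih, pow_succ]
  have hpz : ∀ a : P, a ^ p ∈ Subgroup.center P := by
    intro a
    rw [Subgroup.mem_center_iff]
    intro b
    have h1 : ⁅a ^ p, b⁆ = 1 := by rw [hpowl, hZp _ (hcz a b)]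
    exact (commutatorElement_eq_one_iff_commute.1 h1).eq.symm
  -- facts about the quotient
  have hQcomm : ∀ u v : P ⧸ Subgroup.center P, u * v = v * u := by
    intro u v
    induction u using QuotientGroup.induction_on with
    | H a =>
      induction v using QuotientGroup.induction_on with
      | H b =>
        rw [← QuotientGroup.mk_mul, ← QuotientGroup.mk_mul, QuotientGroup.eq]
        have h1 : (a * b)⁻¹ * (b * a) = ⁅b⁻¹, a⁻¹⁆ := by
          simp only [commutatorElement_def]; group
        rw [h1]; exact hcz _ _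
  have hQp : ∀ q : P ⧸ Subgroup.center P, q ^ p = 1 := by
    intro q
    induction q using QuotientGroup.induction_on with
    | H a =>
      rw [← QuotientGroup.mk_pow]
      exact (QuotientGroup.eq_one_iff _).2 (hpz a)
  let β : (P ⧸ Subgroup.center P) → (P ⧸ Subgroup.center P) → Subgroup.center P :=
    fun u v => ⟨⁅u.out, v.out⁆, hcz _ _⟩
  have hβmk : ∀ a b : P, β (QuotientGroup.mk a) (QuotientGroup.mk b) = ⟨⁅a, b⁆, hcz a b⟩ := by
    intro a b
    obtain ⟨z1, h1⟩ := QuotientGroup.mk_out_eq_mul (Subgroup.center P) a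
    obtain ⟨z2, h2⟩ := QuotientGroup.mk_out_eq_mul (Subgroup.center P) b
    apply Subtype.ext
    show ⁅(QuotientGroup.mk a : P ⧸ Subgroup.center P).out,
      (QuotientGroup.mk b : P ⧸ Subgroup.center P).out⁆ = ⁅a, b⁆
    rw [h1, h2]
    simp only [hml, hmr, hcr _ z2.2, hcl _ z1.2, mul_one]
  have hβl : ∀ u u' v, β (u * u') v = β u v * β u' v := by
    intro u u' v
    induction u using QuotientGroup.induction_on with
    | H a =>
      induction u' using QuotientGroup.induction_on with
      | H a' =>
        induction v using QuotientGroup.induction_on with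
        | H b =>
          rw [← QuotientGroup.mk_mul, hβmk, hβmk, hβmk]
          exact Subtype.ext (hml a a' b)
  have hβr : ∀ u v v', β u (v * v') = β u v * β u v' := by
    intro u v v'
    induction u using QuotientGroup.induction_on with
    | H a =>
      induction v using QuotientGroup.induction_on with
      | H b =>
        induction v' using QuotientGroup.induction_on with
        | H b' =>
          rw [← QuotientGroup.mk_mul, hβmk, hβmk, hβmk]
          exact Subtype.ext (hmr a b b')
  have hβalt : ∀ u, β u u = 1 := by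
    intro u
    induction u using QuotientGroup.induction_on with
    | H a =>
      rw [hβmk]
      exact Subtype.ext (commutatorElement_self a)
  have hβnd : ∀ u, (∀ v, β u v = 1) → u = 1 := by
    intro u
    induction u using QuotientGroup.induction_on with
    | H a =>
      intro hu
      rw [QuotientGroup.eq_one_iff, Subgroup.mem_center_iff]
      intro b
      have h1 := hu (QuotientGroup.mk b)
      rw [hβmk] at h1
      have h2 : ⁅a, b⁆ = 1 := congrArg Subtype.val h1
      exact (commutatorElement_eq_one_iff_commute.1 h2).eq.symm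
  -- the automorphism
  have hαc : ∀ a : P, a ∈ Subgroup.center P → α a ∈ Subgroup.center P := by
    intro a ha
    rw [Subgroup.mem_center_iff] at ha ⊢
    intro b
    have h1 := ha (α.symm b)
    have h2 := congrArg α h1
    rwa [map_mul, map_mul, MulEquiv.apply_symm_apply] at h2
  have hαc' : ∀ a : P, a ∈ Subgroup.center P → α.symm a ∈ Subgroup.center P := by
    intro a ha
    rw [Subgroup.mem_center_iff] at ha ⊢
    intro b
    have h1 := ha (α b)
    have h2 := congrArg α.symm h1
    rwa [map_mul, map_mul, MulEquiv.symm_apply_apply] at h2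
  let τf : P ⧸ Subgroup.center P →* P ⧸ Subgroup.center P :=
    QuotientGroup.map (Subgroup.center P) (Subgroup.center P) (α : P →* P) (fun a ha => hαc a ha)
  let τg : P ⧸ Subgroup.center P →* P ⧸ Subgroup.center P :=
    QuotientGroup.map (Subgroup.center P) (Subgroup.center P) (α.symm : P →* P)
      (fun a ha => hαc' a ha)
  have hτf : ∀ a : P, τf (QuotientGroup.mk a) = QuotientGroup.mk (α a) := fun a => rfl
  have hτg : ∀ a : P, τg (QuotientGroup.mk a) = QuotientGroup.mk (α.symm a) := fun a => rfl
  let τ : (P ⧸ Subgroup.center P) ≃* (P ⧸ Subgroup.center P) :=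
    MonoidHom.toMulEquiv τf τg
      (MonoidHom.ext fun u => by
        induction u using QuotientGroup.induction_on with
        | H a =>
          show τg (τf (QuotientGroup.mk a)) = QuotientGroup.mk a
          rw [hτf, hτg, MulEquiv.symm_apply_apply])
      (MonoidHom.ext fun u => by
        induction u using QuotientGroup.induction_on with
        | H a =>
          show τf (τg (QuotientGroup.mk a)) = QuotientGroup.mk a
          rw [hτg, hτf, MulEquiv.apply_symm_apply])
  have hτ : ∀ a : P, τ (QuotientGroup.mk a) = QuotientGroup.mk (α a) := fun a => rfl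
  have hτit : ∀ (i : ℕ) (a : P), (⇑τ)^[i] (QuotientGroup.mk a) = QuotientGroup.mk ((⇑α)^[i] a) := by
    intro i a
    induction i with
    | zero => rfl
    | succ i ih => rw [Function.iterate_succ_apply', ih, hτ, Function.iterate_succ_apply']
  have hαZ : ∀ c : P, c ∈ Subgroup.center P → α c = c := by
    intro c hc
    rcases Nat.lt_or_ge 1 h with h1 | h1
    · exact (hfix 1 one_pos h1 c).2 hc
    · have h2 : h = 1 := le_antisymm h1 hh
      have h3 := hαh c
      rw [h2] at h3
      exact h3
  have hτβ : ∀ u v, β (τ u) (τ v) = β u v := by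
    intro u v
    induction u using QuotientGroup.induction_on with
    | H a =>
      induction v using QuotientGroup.induction_on with
      | H b =>
        rw [hτ, hτ, hβmk, hβmk]
        apply Subtype.ext
        show ⁅α a, α b⁆ = ⁅a, b⁆
        rw [← map_commutatorElement]
        exact hαZ _ (hcz a b)
  have hτh : ∀ u, (⇑τ)^[h] u = u := by
    intro u
    induction u using QuotientGroup.induction_on with
    | H a => rw [hτit, hαh]
  have hitmul : ∀ (i : ℕ) (a b : P), (⇑α)^[i] (a * b) = (⇑α)^[i] a * (⇑α)^[i] b := by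
    intro i a b
    induction i with
    | zero => rfl
    | succ i ih => simp only [Function.iterate_succ_apply', ih, map_mul]
  have hfree : ∀ i, 0 < i → i < h → ∀ u, (⇑τ)^[i] u = u → u = 1 := by
    intro i hi hih u
    induction u using QuotientGroup.induction_on with
    | H a =>
      intro hu
      rw [hτit, eq_comm, QuotientGroup.eq] at hu
      -- c := a⁻¹ * α^[i] a is central
      set c : P := a⁻¹ * (⇑α)^[i] a with hc
      have hγa : (⇑α)^[i] a = a * c := by rw [hc, mul_inv_cancel_left]
      have hγZ : ∀ z : P, z ∈ Subgroup.center P → (⇑α)^[i] z = z :=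
        fun z hz => (hfix i hi hih z).2 hz
      have hit : ∀ m : ℕ, ((⇑α)^[i])^[m] a = a * c ^ m := by
        intro m
        induction m with
        | zero => simp
        | succ m ih =>
          rw [Function.iterate_succ_apply', ih, hitmul, hγa,
            hγZ _ (Subgroup.pow_mem _ hu m), pow_succ', mul_assoc]
      have h1 : ((⇑α)^[i])^[h] a = a := by
        rw [← Function.iterate_mul, mul_comm, Function.iterate_mul]
        exact Function.iterate_fixed (hαh a) i
      rw [hit] at h1
      have h2 : c ^ h = 1 := by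
        have := mul_left_cancel (a := a) (b := c ^ h) (c := 1) (by rw [h1, mul_one])
        exact this
      have h3 : c ^ p = 1 := hZp c hu
      have h4 : orderOf c ∣ Nat.gcd h p :=
        Nat.dvd_gcd (orderOf_dvd_of_pow_eq_one h2) (orderOf_dvd_of_pow_eq_one h3)
      rw [hcop, Nat.dvd_one, orderOf_eq_one_iff] at h4
      have h5 : (⇑α)^[i] a = a := by rw [hγa, h4, mul_one]
      exact (QuotientGroup.eq_one_iff _).2 ((hfix i hi hih a).1 h5)
  have hcard : Nat.card (P ⧸ Subgroup.center P) = p ^ (2 * n) := by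
    have h1 := Subgroup.card_eq_card_quotient_mul_card_subgroup (Subgroup.center P)
    rw [hn, hZ, pow_succ] at h1
    exact (Nat.eq_of_mul_eq_mul_right (Fact.out (p := p.Prime)).pos h1).symm
  letI cg : CommGroup (P ⧸ Subgroup.center P) :=
    { (inferInstance : Group (P ⧸ Subgroup.center P)) with mul_comm := hQcomm }
  exact layer1 (Q := P ⧸ Subgroup.center P) (C := Subgroup.center P) hZ hQp β hβl hβr hβalt hβnd
    τ hτβ h hτh hfree (p ^ (2 * n)) hcard

theorem transl {G : Type u} [Group G] [Finite G] {p : ℕ} [Fact p.Prime] (P H : Subgroup G)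
    (hP : Cfsg.IsExtraspecial p ↥P) (n : ℕ) (hn : Nat.card P = p ^ (2 * n + 1))
    (hH : IsCyclic H) (hcop : (Nat.card H).Coprime p)
    (hHP : H ≤ Subgroup.normalizer (P : Set G))
    (hfix : ∀ x ∈ H, x ≠ 1 →
      P ⊓ Subgroup.centralizer {x} = (Subgroup.center ↥P).map P.subtype) :
    ∃ (V : Type u) (_ : AddCommGroup V) (_ : Module (ZMod p) V) (_ : Finite V)
      (B : V →ₗ[ZMod p] V →ₗ[ZMod p] ZMod p) (x : V ≃ₗ[ZMod p] V),
      (∀ v, B v v = 0) ∧ (∀ u, (∀ v, B u v = 0) → u = 0) ∧ (∀ u v, B (x u) (x v) = B u v) ∧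
      x ^ (Nat.card H) = 1 ∧ (∀ i, 0 < i → i < Nat.card H → ∀ v, (x ^ i) v = v → v = 0) ∧
      Nat.card V = p ^ (2 * n) := by
  classical
  obtain ⟨g, hg⟩ := hH.exists_generator
  have hord : orderOf g = Nat.card H := orderOf_eq_card_of_forall_mem_zpowers hg
  have hg0 : (g : G) ∈ Subgroup.normalizer (P : Set G) := hHP g.2
  have hnorm : ∀ a : G, a ∈ P ↔ (g : G) * a * (g : G)⁻¹ ∈ P :=
    fun a => Subgroup.mem_normalizer_iff.1 hg0 a
  let α : P ≃* P :=
    { toFun := fun a => ⟨(g : G) * a * (g : G)⁻¹, (hnorm a).1 a.2⟩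
      invFun := fun a => ⟨(g : G)⁻¹ * a * (g : G), (hnorm _).2 (by
        have h1 : (g : G) * ((g : G)⁻¹ * a * (g : G)) * (g : G)⁻¹ = a := by group
        rw [h1]; exact a.2)⟩
      left_inv := fun a => Subtype.ext (by
        show (g : G)⁻¹ * ((g : G) * a * (g : G)⁻¹) * (g : G) = a
        group)
      right_inv := fun a => Subtype.ext (by
        show (g : G) * ((g : G)⁻¹ * a * (g : G)) * (g : G)⁻¹ = a
        group)
      map_mul' := fun a b => Subtype.ext (by
        show (g : G) * ((a : G) * b) * (g : G)⁻¹ = (g : G) * a * (g : G)⁻¹ * ((g : G) * b * (g : G)⁻¹)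
        group) }
  have hα : ∀ a : P, ((α a : P) : G) = (g : G) * a * (g : G)⁻¹ := fun a => rfl
  have hαit : ∀ (i : ℕ) (a : P), (((⇑α)^[i] a : P) : G) = (g : G) ^ i * a * ((g : G) ^ i)⁻¹ := by
    intro i a
    induction i with
    | zero => simp
    | succ i ih =>
      rw [Function.iterate_succ_apply', hα, ih, pow_succ']
      group
  have hgpow : (g : G) ^ Nat.card H = 1 := by
    have h1 : g ^ Nat.card H = 1 := pow_card_eq_one'
    have h2 : ((g ^ Nat.card H : H) : G) = ((1 : H) : G) := congrArg Subtype.val h1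
    rwa [Subgroup.coe_pow, Subgroup.coe_one] at h2
  have hαh : ∀ a : P, (⇑α)^[Nat.card H] a = a := by
    intro a
    apply Subtype.ext
    rw [hαit, hgpow]
    simp
  have hfix' : ∀ i, 0 < i → i < Nat.card H → ∀ a : P,
      (⇑α)^[i] a = a ↔ a ∈ Subgroup.center ↥P := by
    intro i hi hih a
    have hy1 : (g : G) ^ i ≠ 1 := by
      intro h1
      have h2 : g ^ i = 1 := Subtype.ext (by simpa using h1)
      exact pow_ne_one_of_lt_orderOf hi.ne' (hord ▸ hih) h2
    have hyH : (g : G) ^ i ∈ H := H.pow_mem g.2 i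
    have hE := hfix _ hyH hy1
    have hmem : (a : G) ∈ P ⊓ Subgroup.centralizer {(g : G) ^ i} ↔ (⇑α)^[i] a = a := by
      rw [Subgroup.mem_inf, Subgroup.mem_centralizer_iff]
      constructor
      · rintro ⟨-, h1⟩
        apply Subtype.ext
        rw [hαit]
        have h2 := h1 _ (Set.mem_singleton _)
        rw [h2, mul_inv_cancel_right]
      · intro h1
        refine ⟨a.2, ?_⟩
        intro y hy
        rw [Set.mem_singleton_iff] at hy
        subst hy
        have h2 := congrArg Subtype.val h1
        rw [hαit] at h2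
        exact mul_inv_eq_iff_eq_mul.1 h2
    rw [← hmem, hE, Subgroup.mem_map]
    constructor
    · rintro ⟨b, hb, hba⟩
      have : b = a := Subtype.ext hba
      rw [← this]; exact hb
    · intro ha
      exact ⟨a, ha, rfl⟩
  exact layer2 hP n hn α (Nat.card H) Nat.card_pos hαh hcop hfix'

end Cfsg.Agent.Helper6.ESE
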