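import Mathlib
import Cfsg.Agent.Helper25.DihedralFusion
import Cfsg.Agent.Helper6.QDFus3

set_option autoImplicit false
set_option linter.unusedSectionVars false

/-!
# Simplicity of the 2-fusion system of a group with quasi-dihedral Sylow 2-subgroups

General criterion (`FS.simple_of_sc_inn`), auxiliary lemmas on automorphisms of odd order, and the
theorem `FS.simple_of_QD`: a finite group with quasi-dihedral Sylow 2-subgroup and no subgroup of
index 2 has a simple 2-fusion system.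
-/

namespace Cfsg.Agent.Helper6
namespace FS

open Cfsg Cfsg.FusionSystem Cfsg.Agent.Helper26 Cfsg.Agent.Helper25

/-- criterion for simplicity of the `2`-fusion system of `G`: no proper nontrivial strongly closed
subgroup, and `N_G(S)` acts on `S` through `2`-elements. -/
theorem simple_of_sc_inn {G : Type*} [Group G] [Finite G] (S : Sylow 2 G)
    (hS1 : (S : Subgroup G) ≠ ⊥)
    (hsc : ∀ T : Subgroup G, T ≤ (S : Subgroup G) → T ≠ ⊥ →
      (∀ t ∈ T, ∀ g : G, g * t * g⁻¹ ∈ (S : Subgroup G) → g * t * g⁻¹ ∈ T) →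
      T = (S : Subgroup G))
    (hN : ∀ g ∈ Subgroup.normalizer ((S : Subgroup G) : Set G),
      ∃ g' ∈ Subgroup.normalizer ((S : Subgroup G) : Set G), (∃ k : ℕ, orderOf g' = 2 ^ k) ∧
        ∀ s ∈ (S : Subgroup G), g * s * g⁻¹ = g' * s * g'⁻¹) :
    (groupFusionSystem (S : Subgroup G)).IsSimple 2 := by
  have hSp : IsPGroup 2 (S : Subgroup G) := S.isPGroup'
  refine Cfsg.Agent.S5160.result 2 S hS1 ?_ ?_
  · intro T hT
    by_cases hT1 : T = ⊥
    · exact Or.inl hT1
    right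
    obtain ⟨hTS, hTsc⟩ := hT
    apply hsc T hTS hT1
    intro t htT g hg
    have hle : Subgroup.zpowers t ≤ T := (Subgroup.zpowers_le).2 htT
    have hφ : conjHom (Subgroup.zpowers t) g ∈
        (groupFusionSystem (S : Subgroup G)).Hom (Subgroup.zpowers t) := by
      refine ⟨hle.trans hTS, ?_, g, fun x => rfl⟩
      rintro ⟨_, i, rfl⟩
      show g * t ^ i * g⁻¹ ∈ (S : Subgroup G)
      have h1 : g * t ^ i * g⁻¹ = (g * t * g⁻¹) ^ i := by rw [conj_zpow]
      rw [h1]; exact Subgroup.zpow_mem _ hg i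
    exact hTsc _ hle _ hφ ⟨t, Subgroup.mem_zpowers t⟩
  · apply le_antisymm
    · have hR : (groupFusionSystem (S : Subgroup G)).IsFullyNormalized (S : Subgroup G) ∧
          (groupFusionSystem (S : Subgroup G)).IsRadical 2 (S : Subgroup G) ∧
          (groupFusionSystem (S : Subgroup G)).IsCentric (S : Subgroup G) :=
        ⟨top_fullyNormalized _, top_radical hSp _ (groupFusionSystem_isSaturated 2 S),
          top_centric _⟩
      refine le_trans ?_ (le_iSup₂_of_le (S : Subgroup G) hR le_rfl)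
      intro α hα
      obtain ⟨g, -, hg⟩ := (Helper26.mem_autInducedBy_iff _ _ α).1 hα
      have hgN : g ∈ Subgroup.normalizer ((S : Subgroup G) : Set G) :=
        (mem_normalizerIn_of_aut (S := ⊤) (Subgroup.mem_top g) hg).2
      obtain ⟨g', hg'N, hg'2, hgg'⟩ := hN g hgN
      exact (Helper26.mem_autInducedBy_iff _ _ α).2
        ⟨g', Subgroup.subset_closure ⟨hg'N, hg'2⟩, fun x => by rw [hg x, hgg' x x.2]⟩
    · refine iSup₂_le fun R hR => ?_
      intro α hα
      obtain ⟨g, -, hg⟩ := (Helper26.mem_autInducedBy_iff _ _ α).1 hα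
      exact (Helper26.mem_autInducedBy_iff _ _ α).2 ⟨g, Subgroup.mem_top g, hg⟩

/-- if every element of odd order of `N_G(S)` centralizes `S`, then `N_G(S)` acts on `S` through
`2`-elements. -/
theorem inn_of_odd_cent {G : Type*} [Group G] [Finite G] (S : Sylow 2 G)
    (hc : ∀ h ∈ Subgroup.normalizer ((S : Subgroup G) : Set G), Odd (orderOf h) →
      ∀ s ∈ (S : Subgroup G), h * s * h⁻¹ = s) :
    ∀ g ∈ Subgroup.normalizer ((S : Subgroup G) : Set G),
      ∃ g' ∈ Subgroup.normalizer ((S : Subgroup G) : Set G), (∃ k : ℕ, orderOf g' = 2 ^ k) ∧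
        ∀ s ∈ (S : Subgroup G), g * s * g⁻¹ = g' * s * g'⁻¹ := by
  intro g hg
  have hpos : orderOf g ≠ 0 := (orderOf_pos g).ne'
  obtain ⟨a, m, hm, ham⟩ := Nat.exists_eq_two_pow_mul_odd hpos
  have hcop : Nat.gcd (2 ^ a) m = 1 := Nat.Coprime.pow_left a (Nat.coprime_two_left.2 hm)
  have hbez := Nat.gcd_eq_gcd_ab (2 ^ a) m
  rw [hcop] at hbez
  obtain ⟨A, hA⟩ : ∃ A : ℤ, A = Nat.gcdA (2 ^ a) m := ⟨_, rfl⟩
  obtain ⟨B, hB⟩ : ∃ B : ℤ, B = Nat.gcdB (2 ^ a) m := ⟨_, rfl⟩
  rw [← hA, ← hB] at hbez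
  obtain ⟨c, hcdef⟩ : ∃ c : G, c = g ^ (((2 ^ a : ℕ) : ℤ) * A) := ⟨_, rfl⟩
  obtain ⟨g', hg'def⟩ : ∃ g' : G, g' = g ^ ((m : ℤ) * B) := ⟨_, rfl⟩
  have hgcg' : c * g' = g := by
    rw [hcdef, hg'def, ← zpow_add, ← hbez]; simp
  have hgm : g ^ (2 ^ a * m) = 1 := by rw [← ham]; exact pow_orderOf_eq_one g
  have hcm : c ^ m = 1 := by
    rw [hcdef, ← zpow_natCast, ← zpow_mul]
    have e : ((2 ^ a : ℕ) : ℤ) * A * (m : ℤ) = ((2 ^ a * m : ℕ) : ℤ) * A := by push_cast; ring
    rw [e, zpow_mul, zpow_natCast, hgm, one_zpow]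
  have hg'2 : g' ^ (2 ^ a) = 1 := by
    rw [hg'def, ← zpow_natCast, ← zpow_mul]
    have e : (m : ℤ) * B * ((2 ^ a : ℕ) : ℤ) = ((2 ^ a * m : ℕ) : ℤ) * B := by push_cast; ring
    rw [e, zpow_mul, zpow_natCast, hgm, one_zpow]
  have hcN : c ∈ Subgroup.normalizer ((S : Subgroup G) : Set G) := by
    rw [hcdef]; exact Subgroup.zpow_mem _ hg _
  have hg'N : g' ∈ Subgroup.normalizer ((S : Subgroup G) : Set G) := by
    rw [hg'def]; exact Subgroup.zpow_mem _ hg _
  have hcodd : Odd (orderOf c) := Odd.of_dvd_nat hm (orderOf_dvd_of_pow_eq_one hcm)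
  refine ⟨g', hg'N, ?_, ?_⟩
  · obtain ⟨j, -, hj⟩ := (Nat.dvd_prime_pow Nat.prime_two).1 (orderOf_dvd_of_pow_eq_one hg'2)
    exact ⟨j, hj⟩
  · intro s hs
    have hs' : g' * s * g'⁻¹ ∈ (S : Subgroup G) := (Subgroup.mem_normalizer_iff.1 hg'N s).1 hs
    have h1 := hc c hcN hcodd _ hs'
    calc g * s * g⁻¹ = c * (g' * s * g'⁻¹) * c⁻¹ := by rw [← hgcg']; group
      _ = g' * s * g'⁻¹ := h1

theorem conj_pow_mul {G : Type*} [Group G] {h s w : G} (hs : h * s * h⁻¹ = w * s)
    (hw : h * w * h⁻¹ = w) (k : ℕ) : h ^ k * s * (h ^ k)⁻¹ = w ^ k * s := by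
  induction k with
  | zero => simp
  | succ k ih =>
    have e : h ^ (k + 1) * s * (h ^ (k + 1))⁻¹ = h * (h ^ k * s * (h ^ k)⁻¹) * h⁻¹ := by
      rw [pow_succ']; group
    have e2 : h * (w ^ k * s) * h⁻¹ = (h * w * h⁻¹) ^ k * (h * s * h⁻¹) := by
      rw [conj_pow]; group
    rw [e, ih, e2, hw, hs, pow_succ, mul_assoc]

/-- an element `h` of odd order with `h s h⁻¹ = w s`, where `w` is a `2`-element centralized by
`h`, centralizes `s`. -/
theorem odd_fix {G : Type*} [Group G] {h s w : G} (hs : h * s * h⁻¹ = w * s)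
    (hw : h * w * h⁻¹ = w) (hodd : Odd (orderOf h)) {k : ℕ} (hw2 : w ^ 2 ^ k = 1) :
    h * s * h⁻¹ = s := by
  have h1 := conj_pow_mul hs hw (orderOf h)
  rw [pow_orderOf_eq_one] at h1
  have h2 : w ^ orderOf h = 1 := by
    have e : w ^ orderOf h * s = 1 * s := by rw [← h1]; group
    exact mul_right_cancel e
  have h3 : orderOf w ∣ Nat.gcd (orderOf h) (2 ^ k) :=
    Nat.dvd_gcd (orderOf_dvd_of_pow_eq_one h2) (orderOf_dvd_of_pow_eq_one hw2)
  have h4 : Nat.gcd (orderOf h) (2 ^ k) = 1 :=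
    Nat.Coprime.pow_right k (Nat.coprime_two_right.2 hodd)
  rw [h4] at h3
  have h5 : w = 1 := orderOf_eq_one_iff.1 (Nat.dvd_one.1 h3)
  rw [hs, h5, one_mul]

/-- an element of odd order normalizing a cyclic `2`-group centralizes it. -/
theorem odd_cent_cyclic {G : Type*} [Group G] {h c : G} (hodd : Odd (orderOf h)) {k : ℕ}
    (hc : orderOf c = 2 ^ k) (hmem : h * c * h⁻¹ ∈ Subgroup.zpowers c) : h * c * h⁻¹ = c := by
  have hfin : IsOfFinOrder c := orderOf_pos_iff.1 (by rw [hc]; positivity)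
  obtain ⟨j, hj⟩ := (Submonoid.mem_powers_iff _ _).1 (hfin.mem_powers_iff_mem_zpowers.2 hmem)
  have hit : ∀ i : ℕ, h ^ i * c * (h ^ i)⁻¹ = c ^ (j ^ i) := by
    intro i
    induction i with
    | zero => simp
    | succ i ih =>
      have e : h ^ (i + 1) * c * (h ^ (i + 1))⁻¹ = h * (h ^ i * c * (h ^ i)⁻¹) * h⁻¹ := by
        rw [pow_succ']; group
      rw [e, ih, ← conj_pow, ← hj, ← pow_mul, pow_succ']
  have h1 := hit (orderOf h)
  rw [pow_orderOf_eq_one] at h1
  have h2 : c ^ (j ^ orderOf h) = c ^ 1 := by rw [← h1]; group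
  have h3 : j ^ orderOf h ≡ 1 [MOD 2 ^ k] := by rw [← hc]; exact pow_eq_pow_iff_modEq.1 h2
  have h4 : ((j : ZMod (2 ^ k))) ^ orderOf h = 1 := by
    have h := (ZMod.natCast_eq_natCast_iff _ _ _).2 h3
    simpa using h
  have hm0 : orderOf h ≠ 0 := by rcases hodd with ⟨t, ht⟩; omega
  obtain ⟨u, hu'⟩ := IsUnit.of_pow_eq_one h4 hm0
  have h5 : u ^ orderOf h = 1 := by
    apply Units.ext; rw [Units.val_pow_eq_pow_val, hu']; exact h4
  have h6 : u ^ Nat.totient (2 ^ k) = 1 := ZMod.pow_totient u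
  have h7 : orderOf u ∣ Nat.gcd (orderOf h) (Nat.totient (2 ^ k)) :=
    Nat.dvd_gcd (orderOf_dvd_of_pow_eq_one h5) (orderOf_dvd_of_pow_eq_one h6)
  have h8 : Nat.gcd (orderOf h) (Nat.totient (2 ^ k)) = 1 := by
    have hd : Nat.totient (2 ^ k) ∣ 2 ^ k := by
      rcases k with _ | k'
      · simp
      · rw [Nat.totient_prime_pow_succ Nat.prime_two]; simp [pow_succ]
    exact Nat.Coprime.coprime_dvd_right hd
      (Nat.Coprime.pow_right k (Nat.coprime_two_right.2 hodd))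
  rw [h8] at h7
  have h9 : u = 1 := orderOf_eq_one_iff.1 (Nat.dvd_one.1 h7)
  have h10 : (j : ZMod (2 ^ k)) = ((1 : ℕ) : ZMod (2 ^ k)) := by rw [← hu', h9]; simp
  have h11 : j ≡ 1 [MOD 2 ^ k] := (ZMod.natCast_eq_natCast_iff _ _ _).1 h10
  have h12 : c ^ j = c ^ 1 := pow_eq_pow_iff_modEq.2 (by rw [hc]; exact h11)
  rw [← hj, h12, pow_one]

/-- a normal subgroup of index a proper power of `2` gives a subgroup of index `2`. -/
theorem exists_index_two_of_normal {G : Type*} [Group G] [Finite G] (K : Subgroup G) [K.Normal]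
    {j : ℕ} (hj : K.index = 2 ^ (j + 1)) : ∃ H : Subgroup G, H.index = 2 := by
  have hcard : Nat.card (G ⧸ K) = 2 ^ (j + 1) := by rw [← hj, Subgroup.index_eq_card]
  obtain ⟨H', hH'⟩ := Sylow.exists_subgroup_card_pow_prime (G := G ⧸ K) 2 (n := j)
    (by rw [hcard]; exact pow_dvd_pow 2 (Nat.le_succ j))
  refine ⟨H'.comap (QuotientGroup.mk' K), ?_⟩
  rw [Subgroup.index_comap_of_surjective _ (QuotientGroup.mk'_surjective K)]
  have h1 := Subgroup.card_mul_index H'
  rw [hH', hcard] at h1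
  have h2 : 2 ^ j * H'.index = 2 ^ j * 2 := by rw [h1, pow_succ]
  exact Nat.eq_of_mul_eq_mul_left (by positivity) h2

/-- if the focal subgroup of a Sylow `2`-subgroup `S` lies in a subgroup of index `2` of `S`, then
`G` has a subgroup of index `2`. -/
theorem exists_index_two_of_focal {G : Type*} [Group G] [Finite G] (S : Sylow 2 G)
    (M : Subgroup G) (hfoc : (S : Subgroup G).focalSubgroup ≤ M) (hMS : M ≤ (S : Subgroup G))
    (hM : M.relIndex (S : Subgroup G) = 2) : ∃ H : Subgroup G, H.index = 2 := by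
  obtain ⟨K, hKn, -, hKi⟩ := Fus.exists_transfer_kernel S
  have := hKn
  have h1 := Subgroup.relIndex_mul_relIndex _ _ _ hfoc hMS
  rw [hM] at h1
  have h2 : (S : Subgroup G).focalSubgroup.relIndex (S : Subgroup G) ∣ Nat.card (S : Subgroup G) :=
    Subgroup.relIndex_dvd_card _ _
  obtain ⟨a, ha⟩ := IsPGroup.iff_card.1 S.isPGroup'
  rw [ha] at h2
  obtain ⟨i, -, hi⟩ := (Nat.dvd_prime_pow Nat.prime_two).1 h2
  rcases i with _ | i'
  · exfalso
    rw [hi] at h1
    omega
  · exact exists_index_two_of_normal K (j := i') (by rw [hKi, hi])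

section QDsec

open QD Fus QDF

variable {G : Type*} [Group G] [Finite G] (S : Sylow 2 G)

set_option quotPrecheck false in
local notation "ι" => (Subtype.val : ↥(S : Subgroup G) → G)

/-- a finite group with quasi-dihedral Sylow `2`-subgroup and no subgroup of index `2` has a
simple `2`-fusion system. -/
theorem simple_of_QD (hS : Cfsg.IsQuasiDihedral (S : Subgroup G))
    (hidx : ∀ H : Subgroup G, H.index ≠ 2) :
    (groupFusionSystem (S : Subgroup G)).IsSimple 2 := by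
  obtain ⟨n, x, y, hD⟩ := exists_data hS
  have hn3 := hD.hn3
  have hn1 := hD.hn1
  have hT : ∃ (u : G) (c : ZMod (2 ^ n)),
      u * ι (E x (hh n)) * u⁻¹ = ι (E x (2 * c) * y) := by
    by_contra hcon
    have hTf : ∀ (g : G) (d : ZMod (2 ^ n)), g * ι (E x (hh n)) * g⁻¹ ≠ ι (E x d * y) := by
      intro g d hgd
      have hz' : ι (E x (hh n)) * ι (E x (hh n)) = 1 := congrArg Subtype.val (E_hh_sq hD)
      have h2 : E x d * y * (E x d * y) = 1 := by
        apply Subtype.ext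
        show ι (E x d * y) * ι (E x d * y) = 1
        rw [← hgd]
        calc g * ι (E x (hh n)) * g⁻¹ * (g * ι (E x (hh n)) * g⁻¹)
            = g * (ι (E x (hh n)) * ι (E x (hh n))) * g⁻¹ := by group
          _ = 1 := by rw [hz']; group
      obtain ⟨c, hc⟩ := (I2_Ey hD d).1 h2
      exact hcon ⟨g, c, by rw [hgd, hc]⟩
    obtain ⟨H, hH⟩ := exists_index_two_of_focal S _ (focal_le_MM1 hD hTf)
      (Subgroup.map_subtype_le _) (by rw [relIndex_map_subtype', index_MM])
    exact hidx H hH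
  have hQ : ∃ (u : G) (c : ZMod (2 ^ n)),
      u * ι (E x (qq n)) * u⁻¹ = ι (E x (2 * c + 1) * y) := by
    by_contra hcon
    have hQf : ∀ (g : G) (d : ZMod (2 ^ n)), g * ι (E x (qq n)) * g⁻¹ ≠ ι (E x d * y) := by
      intro g d hgd
      obtain ⟨c, hc | hc⟩ := even_or_odd d
      · have h2 : orderOf (ι (E x d * y)) = 2 := by
          rw [hc, Subgroup.orderOf_coe]; exact orderOf_Ey_even hD c
        have h4 : orderOf (g * ι (E x (qq n)) * g⁻¹) = 4 := by
          rw [orderOf_conj', Subgroup.orderOf_coe]; exact orderOf_E_qq hD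
        rw [hgd, h2] at h4
        omega
      · exact hcon ⟨g, c, by rw [hgd, hc]⟩
    obtain ⟨H, hH⟩ := exists_index_two_of_focal S _ (focal_le_MM0 hD hQf)
      (Subgroup.map_subtype_le _) (by rw [relIndex_map_subtype', index_MM])
    exact hidx H hH
  obtain ⟨u₁, c₁, hu₁⟩ := hT
  obtain ⟨u₂, c₂, hu₂⟩ := hQ
  apply simple_of_sc_inn S
  · intro h
    have h1 : Nat.card (S : Subgroup G) = 1 := Subgroup.card_eq_one.2 h
    have h2 := orderOf_dvd_natCard x
    rw [hD.hx, h1] at h2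
    have h3 : 1 < 2 ^ n := Nat.one_lt_two_pow (by omega)
    have h4 := Nat.dvd_one.1 h2
    omega
  · intro T hTS hT1 hsc
    have hSp : IsPGroup 2 (S : Subgroup G) := S.isPGroup'
    have hTp : IsPGroup 2 T := hSp.to_le hTS
    obtain ⟨k, hk⟩ := IsPGroup.iff_card.1 hTp
    have hk0 : k ≠ 0 := by
      rintro rfl
      rw [pow_zero] at hk
      exact hT1 (Subgroup.card_eq_one.1 hk)
    have hdvd : 2 ∣ Nat.card T := by rw [hk]; exact dvd_pow_self 2 hk0
    obtain ⟨t', ht'⟩ := exists_prime_orderOf_dvd_card' 2 hdvd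
    obtain ⟨t, htT, ht2⟩ : ∃ t ∈ T, orderOf t = 2 :=
      ⟨t', t'.2, by rw [Subgroup.orderOf_coe]; exact ht'⟩
    have hcl : ∀ t ∈ T, ∀ (g : G) (b : ↥(S : Subgroup G)), g * t * g⁻¹ = ι b → ι b ∈ T := by
      intro t ht g b h
      rw [← h]; exact hsc t ht g (by rw [h]; exact b.2)
    have hcl' : ∀ (a b : ↥(S : Subgroup G)) (g : G), g * ι a * g⁻¹ = ι b → ι b ∈ T →
        ι a ∈ T := by
      intro a b g h hb
      have e : g⁻¹ * ι b * g⁻¹⁻¹ = ι a := by rw [← h]; group
      exact hcl _ hb g⁻¹ a e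
    have hclS : ∀ (σ a b : ↥(S : Subgroup G)), σ * a * σ⁻¹ = b → ι a ∈ T → ι b ∈ T := by
      intro σ a b h ha
      exact hcl _ ha (ι σ) b (congrArg Subtype.val h)
    have hzT : ι (E x (hh n)) ∈ T := by
      rcases inv_cases hD t ht2 with hc | hc
      · obtain ⟨g, hg⟩ := isConj_iff.1 hc
        exact hcl t htT g _ hg
      · obtain ⟨g, hg⟩ := isConj_iff.1 hc
        have h1 : ι (E x (2 * (0 : ZMod (2 ^ n))) * y) ∈ T := hcl t htT g _ hg
        obtain ⟨σ, hσ⟩ := conj_Ey_shift hD (2 * (0 : ZMod (2 ^ n))) c₁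
        have h2 : ι (E x (2 * 0 + 2 * c₁) * y) ∈ T := hclS σ _ _ hσ h1
        have e : (2 : ZMod (2 ^ n)) * 0 + 2 * c₁ = 2 * c₁ := by ring
        rw [e] at h2
        exact hcl' _ _ u₁ hu₁ h2
    have hy1 : ι (E x (2 * c₁) * y) ∈ T := hcl _ hzT u₁ _ hu₁
    have hev : ∀ c : ZMod (2 ^ n), ι (E x (2 * c) * y) ∈ T := by
      intro c
      obtain ⟨σ, hσ⟩ := conj_Ey_shift hD (2 * c₁) (c - c₁)
      have h2 := hclS σ _ _ hσ hy1
      have e : (2 : ZMod (2 ^ n)) * c₁ + 2 * (c - c₁) = 2 * c := by ring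
      rw [e] at h2; exact h2
    have h0 : ∀ c : ZMod (2 ^ n), ι (E x (2 * c)) ∈ T := by
      intro c
      have h1 := T.mul_mem (hev c) (T.inv_mem (hev 0))
      have e0 : E x (2 * c) * y * (E x (2 * (0 : ZMod (2 ^ n))) * y)⁻¹ = E x (2 * c) := by
        rw [mul_zero, E_zero, one_mul, mul_inv_cancel_right]
      have e : ι (E x (2 * c) * y) * (ι (E x (2 * (0 : ZMod (2 ^ n))) * y))⁻¹ =
          ι (E x (2 * c)) := congrArg Subtype.val e0
      rw [e] at h1; exact h1
    obtain ⟨e₀, he₀⟩ := qq_even hn3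
    have hqT : ι (E x (qq n)) ∈ T := by rw [he₀]; exact h0 e₀
    have hy2 : ι (E x (2 * c₂ + 1) * y) ∈ T := hcl _ hqT u₂ _ hu₂
    exact le_antisymm hTS (S_le_of hD T h0 ⟨c₁, hy1⟩ ⟨c₂, hy2⟩)
  · apply inn_of_odd_cent S
    intro h hhN hodd
    have hconjS : ∀ s : ↥(S : Subgroup G), h * ι s * h⁻¹ ∈ (S : Subgroup G) :=
      fun s => (Subgroup.mem_normalizer_iff.1 hhN _).1 s.2
    have hx : h * ι x * h⁻¹ = ι x := by
      apply odd_cent_cyclic hodd (k := n)
      · rw [Subgroup.orderOf_coe]; exact hD.hx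
      · rcases cases hD ⟨_, hconjS x⟩ with ⟨a, ha⟩ | ⟨a, ha⟩
        · have e : h * ι x * h⁻¹ = ι (E x a) := congrArg Subtype.val ha
          rw [e]
          have h1 : E x a ∈ Subgroup.zpowers x := E_mem_Cx x a
          obtain ⟨i, hi⟩ := Subgroup.mem_zpowers_iff.1 h1
          exact Subgroup.mem_zpowers_iff.2 ⟨i, by rw [← hi]; simp⟩
        · exfalso
          have e : h * ι x * h⁻¹ = ι (E x a * y) := congrArg Subtype.val ha
          have h4 : (E x a * y) ^ 4 = 1 := Ey_pow_four hD a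
          have h5 : (h * ι x * h⁻¹) ^ 4 = 1 := by
            rw [e]; exact congrArg Subtype.val h4
          rw [conj_pow] at h5
          have h6 : ι x ^ 4 = 1 := by
            have e2 : ι x ^ 4 = h⁻¹ * (h * ι x ^ 4 * h⁻¹) * h := by group
            rw [e2, h5]; group
          have h7 : orderOf (ι x) ∣ 4 := orderOf_dvd_of_pow_eq_one h6
          rw [Subgroup.orderOf_coe, hD.hx] at h7
          have h8 : 2 ^ 3 ∣ 2 ^ n := pow_dvd_pow 2 hn3
          have h9 := Nat.le_of_dvd (by norm_num) (h8.trans h7)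
          norm_num at h9
    have hE : ∀ a : ZMod (2 ^ n), h * ι (E x a) * h⁻¹ = ι (E x a) := by
      intro a
      have h1 : E x a ∈ Subgroup.zpowers x := E_mem_Cx x a
      obtain ⟨i, hi⟩ := Subgroup.mem_zpowers_iff.1 h1
      have e : ι (E x a) = ι x ^ i := by rw [← hi]; simp
      rw [e, ← conj_zpow, hx]
    have hy : h * ι y * h⁻¹ = ι y := by
      rcases cases hD ⟨_, hconjS y⟩ with ⟨a, ha⟩ | ⟨a, ha⟩
      · exfalso
        have e : h * ι y * h⁻¹ = ι (E x a) := congrArg Subtype.val ha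
        have e2 : ι y = ι (E x a) := by
          have e3 : ι y = h⁻¹ * (h * ι y * h⁻¹) * h := by group
          rw [e3, e]
          have h3 := hE a
          calc h⁻¹ * ι (E x a) * h = h⁻¹ * (h * ι (E x a) * h⁻¹) * h := by rw [h3]
            _ = ι (E x a) := by group
        have e3 : y = E x a := Subtype.ext e2
        exact E_ne_Ey hD a 0 (by rw [E_zero, one_mul]; exact e3.symm)
      · have e : h * ι y * h⁻¹ = ι (E x a) * ι y := congrArg Subtype.val ha
        have h2 : ι (E x a) ^ 2 ^ n = 1 := by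
          have h3 : E x a ^ 2 ^ n = 1 := by
            rw [E_pow hD.hx, ZMod.natCast_self, zero_mul, E_zero]
          exact congrArg Subtype.val h3
        exact odd_fix e (hE a) hodd h2
    intro s hs
    rcases cases hD ⟨s, hs⟩ with ⟨a, ha⟩ | ⟨a, ha⟩
    · have e : s = ι (E x a) := congrArg Subtype.val ha
      rw [e]; exact hE a
    · have e : s = ι (E x a) * ι y := congrArg Subtype.val ha
      rw [e]
      calc h * (ι (E x a) * ι y) * h⁻¹ = (h * ι (E x a) * h⁻¹) * (h * ι y * h⁻¹) := by group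
        _ = ι (E x a) * ι y := by rw [hE a, hy]

end QDsec

end FS
end Cfsg.Agent.Helper6
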