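import Mathlib

set_option autoImplicit false

/-!
General counting lemmas for a subgroup `A` of a finite group which is the centraliser of each of
its non-identity elements: the number of elements conjugate into `A \ 1`, and Sylow-theoretic
consequences.
-/

namespace Cfsg.Agent.Helper6.GrpClass

open scoped Pointwise

variable {G : Type*} [Group G]

theorem cent_conj_iff (t h u : G) :
    h ∈ Subgroup.centralizer ({u} : Set G) ↔
      t * h * t⁻¹ ∈ Subgroup.centralizer ({t * u * t⁻¹} : Set G) := by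
  rw [Subgroup.mem_centralizer_singleton_iff, Subgroup.mem_centralizer_singleton_iff]
  constructor
  · intro e
    calc t * h * t⁻¹ * (t * u * t⁻¹) = t * (h * u) * t⁻¹ := by group
      _ = t * (u * h) * t⁻¹ := by rw [e]
      _ = t * u * t⁻¹ * (t * h * t⁻¹) := by group
  · intro e
    have h1 : t * (h * u) * t⁻¹ = t * (u * h) * t⁻¹ := by
      calc t * (h * u) * t⁻¹ = t * h * t⁻¹ * (t * u * t⁻¹) := by group
        _ = t * u * t⁻¹ * (t * h * t⁻¹) := e
        _ = t * (u * h) * t⁻¹ := by group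
    exact mul_left_cancel (mul_right_cancel h1)

theorem card_cent_conj (k y : G) :
    Nat.card (Subgroup.centralizer ({k * y * k⁻¹} : Set G)) =
      Nat.card (Subgroup.centralizer ({y} : Set G)) :=
  (Nat.card_congr (Equiv.subtypeEquiv (MulAut.conj k).toEquiv
    (fun h => cent_conj_iff k h y))).symm

/-- The number of elements conjugate into `A \ 1`, for `A` the centraliser of each of its
non-identity elements. -/
theorem card_class [Finite G] (A : Subgroup G)
    (hTI : ∀ u ∈ A, u ≠ 1 → Subgroup.centralizer ({u} : Set G) = A) :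
    {y : G | y ≠ 1 ∧ ∃ k : G, k * y * k⁻¹ ∈ A}.ncard *
        Nat.card (Subgroup.normalizer (A : Set G)) = Nat.card G * (Nat.card A - 1) := by
  classical
  haveI : Fintype G := Fintype.ofFinite G
  let r : G → G → Prop := fun k y => y ≠ 1 ∧ k * y * k⁻¹ ∈ A
  have hb := Finset.sum_card_bipartiteAbove_eq_sum_card_bipartiteBelow r
    (s := (Finset.univ : Finset G)) (t := (Finset.univ : Finset G))
  have hleft : ∀ k : G, (Finset.bipartiteAbove r Finset.univ k).card = Nat.card A - 1 := by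
    intro k
    have h1 : (Finset.bipartiteAbove r Finset.univ k).card =
        ((Finset.univ.filter (fun u : G => u ∈ A)).erase 1).card := by
      apply Finset.card_equiv (MulAut.conj k).toEquiv
      intro y
      have e : (MulAut.conj k).toEquiv y = k * y * k⁻¹ := rfl
      rw [e]
      simp only [Finset.mem_bipartiteAbove, Finset.mem_filter, Finset.mem_univ, true_and,
        Finset.mem_erase]
      constructor
      · rintro ⟨h1, h2⟩
        exact ⟨fun h => h1 (conj_eq_one_iff.mp h), h2⟩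
      · rintro ⟨h1, h2⟩
        exact ⟨fun h => h1 (conj_eq_one_iff.mpr h), h2⟩
    rw [h1, Finset.card_erase_of_mem (Finset.mem_filter.mpr ⟨Finset.mem_univ _, A.one_mem⟩),
      ← Fintype.card_subtype, ← Nat.card_eq_fintype_card]
  have hright : ∀ y : G, (Finset.bipartiteBelow r Finset.univ y).card =
      if (y ≠ 1 ∧ ∃ k : G, k * y * k⁻¹ ∈ A) then Nat.card (Subgroup.normalizer (A : Set G))
      else 0 := by
    intro y
    split_ifs with hy
    · obtain ⟨hy1, k₀, hk₀⟩ := hy
      have h1 : (Finset.bipartiteBelow r Finset.univ y).card =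
          (Finset.univ.filter (fun n : G => n ∈ Subgroup.normalizer (A : Set G))).card := by
        apply Finset.card_equiv (Equiv.mulRight k₀⁻¹)
        intro k
        have e : (Equiv.mulRight k₀⁻¹) k = k * k₀⁻¹ := rfl
        rw [e]
        simp only [Finset.mem_bipartiteBelow, Finset.mem_filter, Finset.mem_univ, true_and]
        have hu1 : k₀ * y * k₀⁻¹ ≠ 1 := fun h => hy1 (conj_eq_one_iff.mp h)
        have hconj : (k * k₀⁻¹) * (k₀ * y * k₀⁻¹) * (k * k₀⁻¹)⁻¹ = k * y * k⁻¹ := by group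
        constructor
        · rintro ⟨-, hk⟩
          have hk' : (k * k₀⁻¹) * (k₀ * y * k₀⁻¹) * (k * k₀⁻¹)⁻¹ ∈ A := by
            rw [hconj]; exact hk
          have hu1' : (k * k₀⁻¹) * (k₀ * y * k₀⁻¹) * (k * k₀⁻¹)⁻¹ ≠ 1 :=
            fun h => hu1 (conj_eq_one_iff.mp h)
          rw [Subgroup.mem_set_normalizer_iff]
          intro h
          show h ∈ A ↔ k * k₀⁻¹ * h * (k * k₀⁻¹)⁻¹ ∈ A
          have e1 := hTI _ hk₀ hu1
          have e2 := hTI _ hk' hu1'
          have key := cent_conj_iff (k * k₀⁻¹) h (k₀ * y * k₀⁻¹)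
          rw [e1, e2] at key
          exact key
        · intro hn
          refine ⟨hy1, ?_⟩
          have h2 := (Subgroup.mem_set_normalizer_iff.mp hn (k₀ * y * k₀⁻¹)).mp hk₀
          rw [hconj] at h2
          exact h2
      rw [h1, ← Fintype.card_subtype, ← Nat.card_eq_fintype_card]
    · rw [Finset.card_eq_zero, Finset.eq_empty_iff_forall_notMem]
      intro k hk
      rw [Finset.mem_bipartiteBelow] at hk
      exact hy ⟨hk.2.1, k, hk.2.2⟩
  have hL : ∑ k ∈ (Finset.univ : Finset G), (Finset.bipartiteAbove r Finset.univ k).card =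
      Fintype.card G * (Nat.card A - 1) := by
    rw [Finset.sum_congr rfl (fun k _ => hleft k), Finset.sum_const, Finset.card_univ,
      smul_eq_mul]
  have hR : ∑ y ∈ (Finset.univ : Finset G), (Finset.bipartiteBelow r Finset.univ y).card =
      (Finset.univ.filter (fun y : G => y ≠ 1 ∧ ∃ k : G, k * y * k⁻¹ ∈ A)).card *
        Nat.card (Subgroup.normalizer (A : Set G)) := by
    rw [Finset.sum_congr rfl (fun y _ => hright y), Finset.sum_ite, Finset.sum_const_zero,
      add_zero, Finset.sum_const, smul_eq_mul]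
  rw [hL, hR] at hb
  rw [Set.ncard_eq_toFinset_card', Set.toFinset_setOf, Nat.card_eq_fintype_card (α := G)]
  exact hb.symm

/-- Every element of order `p` is conjugate into a given Sylow `p`-subgroup. -/
theorem conj_mem_sylow [Finite G] {p : ℕ} [Fact p.Prime] (P : Sylow p G) {z : G}
    (hz : orderOf z = p) : ∃ k : G, k * z * k⁻¹ ∈ (P : Subgroup G) := by
  have hzp : IsPGroup p (Subgroup.zpowers z) :=
    IsPGroup.of_card (n := 1) (by rw [Nat.card_zpowers, hz, pow_one])
  obtain ⟨Q, hQ⟩ := hzp.exists_le_sylow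
  obtain ⟨k, hk⟩ := MulAction.exists_smul_eq G Q P
  subst hk
  refine ⟨k, ?_⟩
  show k * z * k⁻¹ ∈ MulAut.conj k • (Q : Subgroup G)
  rw [Subgroup.mem_pointwise_smul_iff_inv_smul_mem]
  have hzQ : z ∈ (Q : Subgroup G) := hQ (Subgroup.mem_zpowers z)
  have e : (MulAut.conj k)⁻¹ • (k * z * k⁻¹) = z := by
    show k⁻¹ * (k * z * k⁻¹) * k = z
    group
  rw [e]
  exact hzQ

/-- Two such subgroups whose orders have a common prime factor `p`, with commutative Sylow
`p`-subgroups, are conjugate. -/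
theorem rel_of_prime [Finite G] {p : ℕ} [Fact p.Prime] (P : Sylow p G)
    (hP : ∀ a ∈ (P : Subgroup G), ∀ b ∈ (P : Subgroup G), a * b = b * a)
    (A B : Subgroup G) (hTI : ∀ u ∈ A, u ≠ 1 → Subgroup.centralizer ({u} : Set G) = A)
    (hA : p ∣ Nat.card A) (hB : p ∣ Nat.card B) :
    ∃ u ∈ B, u ≠ 1 ∧ ∃ k : G, k * u * k⁻¹ ∈ A := by
  obtain ⟨z, hz⟩ := exists_prime_orderOf_dvd_card' p hA
  obtain ⟨z', hz'⟩ := exists_prime_orderOf_dvd_card' p hB
  have hp := (Fact.out : p.Prime)
  have hzo : orderOf (z : G) = p := by rw [Subgroup.orderOf_coe]; exact hz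
  have hzo' : orderOf (z' : G) = p := by rw [Subgroup.orderOf_coe]; exact hz'
  have hz1 : (z : G) ≠ 1 := by
    intro h
    rw [h, orderOf_one] at hzo
    exact hp.one_lt.ne hzo
  have hz1' : (z' : G) ≠ 1 := by
    intro h
    rw [h, orderOf_one] at hzo'
    exact hp.one_lt.ne hzo'
  obtain ⟨k₁, hk₁⟩ := conj_mem_sylow P hzo
  obtain ⟨k₂, hk₂⟩ := conj_mem_sylow P hzo'
  have hc := hP _ hk₂ _ hk₁
  refine ⟨z', z'.2, hz1', k₁⁻¹ * k₂, ?_⟩
  have e := hTI (z : G) z.2 hz1
  have hmem : k₁⁻¹ * k₂ * (z' : G) * (k₁⁻¹ * k₂)⁻¹ ∈ Subgroup.centralizer ({(z : G)} : Set G) := by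
    rw [Subgroup.mem_centralizer_singleton_iff]
    calc k₁⁻¹ * k₂ * (z' : G) * (k₁⁻¹ * k₂)⁻¹ * (z : G)
        = k₁⁻¹ * (k₂ * (z' : G) * k₂⁻¹ * (k₁ * (z : G) * k₁⁻¹)) * k₁ := by group
      _ = k₁⁻¹ * ((k₁ * (z : G) * k₁⁻¹) * (k₂ * (z' : G) * k₂⁻¹)) * k₁ := by rw [hc]
      _ = (z : G) * (k₁⁻¹ * k₂ * (z' : G) * (k₁⁻¹ * k₂)⁻¹) := by group
  rw [e] at hmem
  exact hmem

/-- A commutative Sylow `p`-subgroup embeds into such a subgroup of order divisible by `p`. -/
theorem sylow_card_dvd [Finite G] {p : ℕ} [Fact p.Prime] (P : Sylow p G)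
    (hP : ∀ a ∈ (P : Subgroup G), ∀ b ∈ (P : Subgroup G), a * b = b * a)
    (A : Subgroup G) (hTI : ∀ u ∈ A, u ≠ 1 → Subgroup.centralizer ({u} : Set G) = A)
    (hA : p ∣ Nat.card A) : Nat.card (P : Subgroup G) ∣ Nat.card A := by
  obtain ⟨z, hz⟩ := exists_prime_orderOf_dvd_card' p hA
  have hp := (Fact.out : p.Prime)
  have hzo : orderOf (z : G) = p := by rw [Subgroup.orderOf_coe]; exact hz
  have hz1 : (z : G) ≠ 1 := by
    intro h
    rw [h, orderOf_one] at hzo
    exact hp.one_lt.ne hzo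
  obtain ⟨k, hk⟩ := conj_mem_sylow P hzo
  have e := hTI (z : G) z.2 hz1
  have hmem : ∀ u : ↥(P : Subgroup G), k⁻¹ * (u : G) * k ∈ A := by
    intro u
    have hc := hP _ u.2 _ hk
    have h1 : k⁻¹ * (u : G) * k ∈ Subgroup.centralizer ({(z : G)} : Set G) := by
      rw [Subgroup.mem_centralizer_singleton_iff]
      calc k⁻¹ * (u : G) * k * (z : G) = k⁻¹ * ((u : G) * (k * (z : G) * k⁻¹)) * k := by group
        _ = k⁻¹ * ((k * (z : G) * k⁻¹) * (u : G)) * k := by rw [hc]
        _ = (z : G) * (k⁻¹ * (u : G) * k) := by group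
    rw [e] at h1
    exact h1
  let f : ↥(P : Subgroup G) →* ↥A :=
    { toFun := fun u => ⟨k⁻¹ * (u : G) * k, hmem u⟩
      map_one' := Subtype.ext (by
        show k⁻¹ * ((1 : ↥(P : Subgroup G)) : G) * k = 1
        rw [Subgroup.coe_one]; group)
      map_mul' := fun u v => Subtype.ext (by
        show k⁻¹ * ((u * v : ↥(P : Subgroup G)) : G) * k =
          k⁻¹ * (u : G) * k * (k⁻¹ * (v : G) * k)
        rw [Subgroup.coe_mul]; group) }
  have hinj : Function.Injective f := by
    intro u v h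
    have h' : k⁻¹ * (u : G) * k = k⁻¹ * (v : G) * k := congrArg Subtype.val h
    exact Subtype.ext (mul_left_cancel (mul_right_cancel h'))
  exact Subgroup.card_dvd_of_injective f hinj

end Cfsg.Agent.Helper6.GrpClass
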