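import Mathlib

/-! Piece [D1] of helper21's plan for S1011. -/

set_option autoImplicit false

namespace Cfsg.Agent.Helper6.O504D1

open scoped Pointwise

theorem card_syl2_504 {G : Type*} [Group G] [Finite G] (h : Nat.card G = 504) (T : Sylow 2 G) :
    Nat.card ↥(T : Subgroup G) = 8 := by
  obtain ⟨k, hk⟩ := IsPGroup.iff_card.mp T.isPGroup'
  have hmul : Nat.card ↥(T : Subgroup G) * (T : Subgroup G).index = 504 := by
    rw [Subgroup.card_mul_index, h]
  have hnd : ¬ 2 ∣ (T : Subgroup G).index := T.not_dvd_index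
  rw [hk] at hmul ⊢
  have hk4 : k < 4 := by
    by_contra hge
    have h16 : 2 ^ 4 ∣ 2 ^ k := Nat.pow_dvd_pow 2 (by omega)
    have h504 : 2 ^ 4 ∣ 504 := by
      rw [← hmul]; exact Dvd.dvd.mul_right h16 _
    norm_num at h504
  interval_cases k
  · exfalso; apply hnd; norm_num at hmul; omega
  · exfalso; apply hnd; norm_num at hmul; omega
  · exfalso; apply hnd; norm_num at hmul; omega
  · norm_num

/-- a nonabelian group of order 8 with a central element `t ≠ 1`: the centre is `{1, t}` and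
all squares are central -/
theorem order8 {H : Type*} [Group H] [Finite H] (hcard : Nat.card H = 8)
    (hna : ¬ ∀ a b : H, a * b = b * a) (t : H) (ht1 : t ≠ 1) (htc : ∀ a : H, a * t = t * a) :
    (∀ z : H, (∀ a : H, a * z = z * a) → z = 1 ∨ z = t) ∧ ∀ g : H, g ^ 2 = 1 ∨ g ^ 2 = t := by
  haveI : Fact (Nat.Prime 2) := ⟨Nat.prime_two⟩
  have hnc : ¬ IsCyclic (H ⧸ Subgroup.center H) := by
    intro hc
    exact hna (fun a b => commutative_of_cyclic_center_quotient
      (QuotientGroup.mk' (Subgroup.center H)) (by rw [QuotientGroup.ker_mk']) a b)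
  obtain ⟨k, hk0, hk⟩ := IsPGroup.card_center_eq_prime_pow (p := 2) (n := 3)
    (by rw [hcard]; norm_num) (by norm_num)
  have hmul := Subgroup.card_eq_card_quotient_mul_card_subgroup (Subgroup.center H)
  rw [hcard, hk] at hmul
  have hk3 : k ≤ 3 := by
    by_contra hlt
    push_neg at hlt
    have h16 : 2 ^ 4 ≤ 2 ^ k := Nat.pow_le_pow_right (by norm_num) hlt
    have hpos : 0 < Nat.card (H ⧸ Subgroup.center H) := Nat.card_pos
    nlinarith
  have hk1 : k = 1 := by
    by_contra hne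
    have hk23 : k = 2 ∨ k = 3 := by omega
    rcases hk23 with rfl | rfl
    · have hq : Nat.card (H ⧸ Subgroup.center H) = 2 := by norm_num at hmul; omega
      exact hnc (isCyclic_of_prime_card (p := 2) hq)
    · have hq : Nat.card (H ⧸ Subgroup.center H) = 1 := by norm_num at hmul; omega
      exact hnc (isCyclic_of_orderOf_eq_card (1 : H ⧸ Subgroup.center H)
        (by rw [orderOf_one, hq]))
  subst hk1
  have hZ2 : Nat.card (Subgroup.center H) = 2 := by simpa using hk
  have hq4 : Nat.card (H ⧸ Subgroup.center H) = 4 := by norm_num at hmul; omega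
  have htZ : t ∈ Subgroup.center H := Subgroup.mem_center_iff.2 htc
  have hZ : ∀ z ∈ Subgroup.center H, z = 1 ∨ z = t := by
    intro z hz
    by_contra hcon
    push_neg at hcon
    obtain ⟨b, hb, huniq⟩ := (Nat.card_eq_two_iff' (1 : ↥(Subgroup.center H))).1 hZ2
    have h1 : (⟨t, htZ⟩ : ↥(Subgroup.center H)) = b :=
      huniq _ (fun h => ht1 (congrArg Subtype.val h))
    have h2 : (⟨z, hz⟩ : ↥(Subgroup.center H)) = b :=
      huniq _ (fun h => hcon.1 (congrArg Subtype.val h))
    exact hcon.2 (congrArg Subtype.val (h2.trans h1.symm))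
  refine ⟨fun z hz => hZ z (Subgroup.mem_center_iff.2 hz), fun g => ?_⟩
  apply hZ
  have key : ∀ o : ℕ, o ∣ 4 → o ≠ 4 → o ∣ 2 := by
    intro o ho hne
    have hle := Nat.le_of_dvd (by norm_num) ho
    interval_cases o <;>
      first | decide | (exfalso; revert ho; decide) | exact absurd rfl hne
  have ho : orderOf (QuotientGroup.mk g : H ⧸ Subgroup.center H) ∣ 4 := by
    rw [← hq4]; exact orderOf_dvd_natCard _
  have hne : orderOf (QuotientGroup.mk g : H ⧸ Subgroup.center H) ≠ 4 := by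
    intro h4
    exact hnc (isCyclic_of_orderOf_eq_card _ (by rw [h4, hq4]))
  have h3 : (QuotientGroup.mk g : H ⧸ Subgroup.center H) ^ 2 = 1 :=
    orderOf_dvd_iff_pow_eq_one.1 (key _ ho hne)
  rw [← QuotientGroup.mk_pow, QuotientGroup.eq_one_iff] at h3
  exact h3

variable {G : Type*} [Group G] [Finite G] [IsSimpleGroup G]

theorem nonab_facts (h : Nat.card G = 504)
    (hcen : ∀ u : G, orderOf u = 2 →
      ∃ T : Sylow 2 G, (T : Subgroup G) ≤ Subgroup.centralizer ({u} : Set G))
    (t : G) (ht : orderOf t = 2) (T₀ : Sylow 2 G)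
    (hT₀ : Subgroup.centralizer ({t} : Set G) = (T₀ : Subgroup G))
    (hna : ¬ ∀ a ∈ (T₀ : Subgroup G), ∀ b ∈ (T₀ : Subgroup G), a * b = b * a) :
    (∀ u : G, orderOf u = 2 → ∃ g : G, g * t * g⁻¹ = u) ∧
      (∀ g ∈ (T₀ : Subgroup G), g ^ 2 = 1 ∨ g ^ 2 = t) ∧ ∃ v : G, v ^ 2 = t := by
  haveI : Fact (Nat.Prime 2) := ⟨Nat.prime_two⟩
  have hcard : Nat.card ↥(T₀ : Subgroup G) = 8 := card_syl2_504 h T₀
  have htT : t ∈ (T₀ : Subgroup G) := by
    rw [← hT₀]
    exact Subgroup.mem_centralizer_iff.2 (fun x hx => by rw [Set.mem_singleton_iff.1 hx])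
  have hcomm_t : ∀ a ∈ (T₀ : Subgroup G), a * t = t * a := by
    intro a ha
    rw [← hT₀] at ha
    exact ((Subgroup.mem_centralizer_iff.1 ha) t (Set.mem_singleton t)).symm
  have ht1 : t ≠ 1 := by
    intro h1
    rw [h1, orderOf_one] at ht
    omega
  have hna' : ¬ ∀ a b : ↥(T₀ : Subgroup G), a * b = b * a := by
    intro hab
    exact hna (fun a ha b hb => congrArg Subtype.val (hab ⟨a, ha⟩ ⟨b, hb⟩))
  obtain ⟨hZ, hsq'⟩ := order8 hcard hna' (⟨t, htT⟩ : ↥(T₀ : Subgroup G))
    (fun h1 => ht1 (congrArg Subtype.val h1)) (fun a => Subtype.ext (hcomm_t a.1 a.2))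
  have hcentre : ∀ z ∈ (T₀ : Subgroup G), (∀ a ∈ (T₀ : Subgroup G), a * z = z * a) →
      z = 1 ∨ z = t := by
    intro z hz hzc
    rcases hZ ⟨z, hz⟩ (fun a => Subtype.ext (hzc a.1 a.2)) with h1 | h1
    · exact Or.inl (congrArg Subtype.val h1)
    · exact Or.inr (congrArg Subtype.val h1)
  have hsq : ∀ g ∈ (T₀ : Subgroup G), g ^ 2 = 1 ∨ g ^ 2 = t := by
    intro g hg
    rcases hsq' ⟨g, hg⟩ with h1 | h1
    · exact Or.inl (congrArg Subtype.val h1)
    · exact Or.inr (congrArg Subtype.val h1)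
  have hv : ∃ v : G, v ^ 2 = t := by
    by_contra hno
    push_neg at hno
    apply hna
    intro a ha b hb
    have ha2 : a * a = 1 := by
      rcases hsq a ha with h1 | h1
      · rw [← pow_two]; exact h1
      · exact absurd h1 (hno a)
    have hb2 : b * b = 1 := by
      rcases hsq b hb with h1 | h1
      · rw [← pow_two]; exact h1
      · exact absurd h1 (hno b)
    have hab2 : a * b * (a * b) = 1 := by
      rcases hsq (a * b) ((T₀ : Subgroup G).mul_mem ha hb) with h1 | h1
      · rw [← pow_two]; exact h1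
      · exact absurd h1 (hno (a * b))
    calc a * b = a * (a * b * (a * b)) * b := by rw [hab2, mul_one]
      _ = (a * a) * (b * a) * (b * b) := by group
      _ = b * a := by rw [ha2, hb2, one_mul, mul_one]
  refine ⟨?_, hsq, hv⟩
  intro u hu
  obtain ⟨T', hT'⟩ := hcen u hu
  obtain ⟨g, hg⟩ := MulAction.exists_smul_eq G T₀ T'
  subst hg
  have hconjmem : ∀ a ∈ (T₀ : Subgroup G), g * a * g⁻¹ ∈ ((g • T₀ : Sylow 2 G) : Subgroup G) := by
    intro a ha
    show g * a * g⁻¹ ∈ MulAut.conj g • (T₀ : Subgroup G)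
    rw [Subgroup.mem_pointwise_smul_iff_inv_smul_mem]
    have e : (MulAut.conj g)⁻¹ • (g * a * g⁻¹) = a := by
      show g⁻¹ * (g * a * g⁻¹) * g = a
      group
    rw [e]
    exact ha
  have hw : ∀ a ∈ (T₀ : Subgroup G), a * (g⁻¹ * u * g) = (g⁻¹ * u * g) * a := by
    intro a ha
    have h1 := (Subgroup.mem_centralizer_iff.1 (hT' (hconjmem a ha))) u (Set.mem_singleton u)
    calc a * (g⁻¹ * u * g) = g⁻¹ * ((g * a * g⁻¹) * u) * g := by group
      _ = g⁻¹ * (u * (g * a * g⁻¹)) * g := by rw [h1]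
      _ = (g⁻¹ * u * g) * a := by group
  have hwT : g⁻¹ * u * g ∈ (T₀ : Subgroup G) := by
    rw [← hT₀]
    exact Subgroup.mem_centralizer_iff.2 (fun x hx => by
      rw [Set.mem_singleton_iff.1 hx]; exact hw t htT)
  rcases hcentre _ hwT hw with h1 | h1
  · exfalso
    have hu1 : u = 1 := by
      have h2 : u = g * (g⁻¹ * u * g) * g⁻¹ := by group
      rw [h2, h1]; group
    rw [hu1, orderOf_one] at hu
    omega
  · exact ⟨g, by rw [← h1]; group⟩

end Cfsg.Agent.Helper6.O504D1
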