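import Mathlib

set_option autoImplicit false

/-!
Field algebra behind the Suzuki groups `Sz(q)` realised as the stabiliser of the Suzuki–Tits ovoid:
a finite field of characteristic two with an additive map `x ↦ x ^ s` squaring to the Frobenius map.
-/

namespace Cfsg.Agent.Helper6.Sz

variable {F : Type*} [Field F] [Fintype F]

/-- The field data behind the Suzuki groups. -/
structure SzData (F : Type*) [Field F] [Fintype F] (s : ℕ) : Prop where
  two : (2 : F) = 0
  add : ∀ x y : F, (x + y) ^ s = x ^ s + y ^ s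
  sq : ∀ x : F, (x ^ s) ^ s = x ^ 2
  four : 4 ≤ s
  card : s + 2 < Fintype.card F

theorem szData {m : ℕ} (hm : 1 ≤ m) (hF : Fintype.card F = 2 ^ (2 * m + 1)) :
    SzData F (2 ^ (m + 1)) := by
  have h2 : (2 : F) = 0 := by
    have h := FiniteField.cast_card_eq_zero F
    rw [hF] at h
    have h' : (2 : F) ^ (2 * m + 1) = 0 := by exact_mod_cast h
    exact (pow_eq_zero_iff (by omega : 2 * m + 1 ≠ 0)).mp h'
  haveI : CharP F 2 := CharTwo.of_one_ne_zero_of_two_eq_zero one_ne_zero h2
  haveI : Fact (Nat.Prime 2) := ⟨Nat.prime_two⟩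
  have hle : 2 ≤ 2 ^ m := by
    calc 2 = 2 ^ 1 := by norm_num
      _ ≤ 2 ^ m := Nat.pow_le_pow_right (by norm_num) hm
  have hsplit : 2 ^ (2 * m + 1) = 2 ^ (m + 1) * 2 ^ m := by
    rw [← pow_add]; congr 1; omega
  refine ⟨h2, fun x y => add_pow_char_pow .., fun x => ?_, ?_, ?_⟩
  · rw [← pow_mul, ← pow_add, show m + 1 + (m + 1) = (2 * m + 1) + 1 by omega, pow_succ, pow_mul,
      ← hF, FiniteField.pow_card]
  · calc 4 = 2 ^ 2 := by norm_num
      _ ≤ 2 ^ (m + 1) := Nat.pow_le_pow_right (by norm_num) (by omega)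
  · rw [hF, hsplit]
    have h4 : 4 ≤ 2 ^ (m + 1) := by
      calc 4 = 2 ^ 2 := by norm_num
        _ ≤ 2 ^ (m + 1) := Nat.pow_le_pow_right (by norm_num) (by omega)
    nlinarith

/-- the defining function of the Suzuki–Tits ovoid -/
def fz (s : ℕ) (x y : F) : F := x * y + x ^ (s + 2) + y ^ s

/-- A sparse polynomial function of degree less than the field order vanishing identically has zero
coefficients. -/
theorem sparse_zero {k : ℕ} (c : Fin k → F) (e : Fin k → ℕ) (he : Function.Injective e)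
    (hlt : ∀ i, e i < Fintype.card F) (h : ∀ x : F, ∑ i, c i * x ^ e i = 0) : ∀ i, c i = 0 := by
  classical
  have hp : (∑ i, Polynomial.C (c i) * Polynomial.X ^ e i : Polynomial F) = 0 := by
    apply Polynomial.eq_zero_of_natDegree_lt_card_of_eval_eq_zero _ Function.injective_id
    · intro x
      simp only [id, Polynomial.eval_finset_sum, Polynomial.eval_mul, Polynomial.eval_C,
        Polynomial.eval_pow, Polynomial.eval_X]
      exact h x
    · have hpos : 0 < Fintype.card F := Fintype.card_pos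
      refine lt_of_le_of_lt (Polynomial.natDegree_sum_le_of_forall_le (n := Fintype.card F - 1)
        Finset.univ _ ?_) (by omega)
      intro i _
      exact (Polynomial.natDegree_C_mul_X_pow_le _ _).trans (by have := hlt i; omega)
  intro i
  have h2 := congrArg (fun r : Polynomial F => r.coeff (e i)) hp
  simp only [Polynomial.finset_sum_coeff, Polynomial.coeff_C_mul, Polynomial.coeff_X_pow,
    Polynomial.coeff_zero] at h2
  rw [Finset.sum_eq_single i] at h2
  · simpa using h2
  · intro j _ hji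
    rw [if_neg (fun hh => hji (he hh).symm), mul_zero]
  · intro hi; exact absurd (Finset.mem_univ i) hi

namespace SzData

variable {s : ℕ} (D : SzData F s)
include D

theorem s_ne : s ≠ 0 := by have := D.four; omega

theorem neg (x : F) : -x = x := by linear_combination (-x) * D.two

theorem sub (x y : F) : x - y = x + y := by linear_combination (-y) * D.two

theorem add_self (x : F) : x + x = 0 := by linear_combination x * D.two

theorem inj {x y : F} (h : x ^ s = y ^ s) : x = y := by
  have h1 : (x + y) ^ s = 0 := by rw [D.add, h]; exact D.add_self _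
  have h2 : x + y = 0 := (pow_eq_zero_iff D.s_ne).mp h1
  linear_combination h2 - y * D.two

theorem surj (y : F) : ∃ x : F, x ^ s = y :=
  (Finite.injective_iff_surjective.mp (fun _ _ h => D.inj h)) y

theorem sqrt (y : F) : ∃ x : F, x ^ 2 = y := by
  obtain ⟨u, hu⟩ := D.surj y
  obtain ⟨x, hx⟩ := D.surj u
  exact ⟨x, by rw [← D.sq, hx, hu]⟩

theorem sq_inj {x y : F} (h : x ^ 2 = y ^ 2) : x = y :=
  D.inj (D.inj (by rw [D.sq, D.sq, h]))

theorem pow2 (x : F) : (x ^ 2) ^ s = (x ^ s) ^ 2 := pow_right_comm x 2 s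

theorem one_of_sq {c : F} (h : c ^ 2 = 1) : c = 1 := D.sq_inj (by rw [h, one_pow])

theorem one_of_pow_succ {c : F} (h : c ^ (s + 1) = 1) : c = 1 := by
  have h1 : c ^ s * c = 1 := by rw [← pow_succ]; exact h
  have h2 : (c ^ s * c) ^ s = 1 := by rw [h1, one_pow]
  rw [mul_pow, D.sq] at h2
  linear_combination h2 - c * h1

theorem one_of_pow_s {c : F} (h : c ^ s = 1) : c = 1 := D.inj (by rw [h, one_pow])

theorem fz_zero : fz s (0 : F) 0 = 0 := by
  simp [fz, D.s_ne]

theorem fz_add (a b x y : F) :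
    fz s (x + a) (y + b + a ^ s * x) = fz s x y + a * y + (b + a ^ (s + 1)) * x + fz s a b := by
  have h1 : (x + a) ^ (s + 2) = (x ^ s + a ^ s) * (x + a) ^ 2 := by rw [pow_add, D.add]
  have h2 : (y + b + a ^ s * x) ^ s = y ^ s + b ^ s + a ^ 2 * x ^ s := by
    rw [D.add, D.add, mul_pow, D.sq]
  unfold fz
  rw [h1, h2]
  linear_combination (a * a^s * x + a * x * x^s + a^2 * x^s + a^s * x^2) * D.two

theorem fz_eq_zero {x y : F} (h : fz s x y = 0) : x = 0 ∧ y = 0 := by
  by_cases hx : x = 0
  · subst hx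
    refine ⟨rfl, ?_⟩
    have h' : y ^ s = 0 := by simpa [fz, D.s_ne] using h
    exact (pow_eq_zero_iff D.s_ne).mp h'
  · exfalso
    obtain ⟨w, hw⟩ : ∃ w : F, y = x ^ (s + 1) * w := ⟨y / x ^ (s + 1), by field_simp⟩
    subst hw
    have hws : (x ^ (s + 1) * w) ^ s = x ^ (s + 2) * w ^ s := by
      rw [mul_pow, pow_succ x s, mul_pow, D.sq]; ring
    unfold fz at h
    rw [hws] at h
    have he : x ^ (s + 2) * (1 + w + w ^ s) = 0 := by linear_combination h
    have he' : 1 + w + w ^ s = 0 := (mul_eq_zero.mp he).resolve_left (pow_ne_zero _ hx)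
    have he2 : (1 + w + w ^ s) ^ s = 0 := by rw [he']; exact zero_pow D.s_ne
    rw [D.add, D.add, one_pow, D.sq] at he2
    have h3 : w * (w + 1) = 0 := by linear_combination he' + he2 - (1 + w ^ s) * D.two
    rcases mul_eq_zero.mp h3 with h4 | h4
    · subst h4
      simp [D.s_ne] at he'
    · have hw1 : w = 1 := by linear_combination h4 - D.two
      subst hw1
      rw [one_pow] at he'
      have : (1 : F) = 0 := by linear_combination he' - D.two
      exact one_ne_zero this

theorem fz_ne {x y : F} (h : ¬ (x = 0 ∧ y = 0)) : fz s x y ≠ 0 := fun h0 => h (D.fz_eq_zero h0)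

theorem fz_pow (x y : F) :
    (fz s x y) ^ s = x ^ s * y ^ s + x ^ 2 * (x ^ s) ^ 2 + y ^ 2 := by
  unfold fz
  rw [D.add, D.add, mul_pow, pow_add x s 2, mul_pow, D.pow2]
  simp only [D.sq]

theorem fz_inv {x y : F} (hz : fz s x y ≠ 0) :
    fz s x y * fz s (y / fz s x y) (x / fz s x y) = 1 := by
  have hzs := D.fz_pow x y
  have hP : y ^ (s + 2) + x * y * (fz s x y) ^ s + x ^ s * (fz s x y) ^ 2 =
      (fz s x y) ^ s * fz s x y := by
    rw [hzs]; unfold fz
    linear_combination (x * x^s * y * y^s + x^3 * (x^s)^2 * y) * D.two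
  have key : (fz s x y) ^ (s + 1) * (fz s x y * fz s (y / fz s x y) (x / fz s x y)) =
      (fz s x y) ^ (s + 1) * 1 := by
    clear hzs
    generalize fz s x y = z at hz hP ⊢
    have e1 : z ^ (s + 1) * (z * fz s (y / z) (x / z)) =
        y ^ (s + 2) + x * y * z ^ s + x ^ s * z ^ 2 := by
      unfold fz
      rw [div_pow, div_pow]
      field_simp
      ring
    rw [e1, hP]; ring
  exact mul_left_cancel₀ (pow_ne_zero _ hz) key

theorem pow_torus (c : F) : (c ^ (2 * s + 2)) ^ s = c ^ (2 * s + 4) := by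
  have h : c ^ (2 * s + 2) = (c ^ s) ^ 2 * c ^ 2 := by ring
  rw [h, mul_pow, D.pow2, D.pow2, D.sq]; ring

theorem fz_torus (c x y : F) :
    fz s (c ^ 2 * x) (c ^ (2 * s + 2) * y) = c ^ (2 * s + 4) * fz s x y := by
  unfold fz
  rw [mul_pow (c ^ (2 * s + 2)) y s, D.pow_torus]; ring

theorem poly4 (c1 c2 c3 c4 : F)
    (h : ∀ x : F, c1 * x ^ (s + 2) + c2 * x ^ s + c3 * x ^ 2 + c4 * x = 0) :
    c1 = 0 ∧ c2 = 0 ∧ c3 = 0 ∧ c4 = 0 := by
  have h4 := D.four
  have hc := D.card
  have key := sparse_zero ![c1, c2, c3, c4] ![s + 2, s, 2, 1] ?_ ?_ ?_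
  · exact ⟨key 0, key 1, key 2, key 3⟩
  · intro i j hij
    fin_cases i <;> fin_cases j <;> simp at hij ⊢ <;> omega
  · intro i
    fin_cases i <;> simp <;> omega
  · intro x
    simpa [Fin.sum_univ_four] using h x

end SzData

end Cfsg.Agent.Helper6.Sz
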