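import Mathlib
import Cfsg.Prelude.Def_LieExceptional
import Cfsg.Agent.Helper6.SzAlg

set_option autoImplicit false

/-!
Explicit elements of the Suzuki group `Sz(q)` (stabiliser of the Suzuki–Tits ovoid in `SL₄`):
translations `tS a b`, the torus `hS c` and the inversion `wS`, with their action on the ovoid.
-/

namespace Cfsg.Agent.Helper6.Sz

open Matrix
open scoped Pointwise

variable {F : Type*} [Field F] [Fintype F] {s : ℕ}

/-- translation matrices -/
def tM (s : ℕ) (a b : F) : Matrix (Fin 4) (Fin 4) F :=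
  !![1, a, b + a ^ (s + 1), fz s a b; 0, 1, a ^ s, b; 0, 0, 1, a; 0, 0, 0, 1]

/-- torus matrices -/
def hM (s : ℕ) (c : F) : Matrix (Fin 4) (Fin 4) F :=
  !![c ^ (s + 2), 0, 0, 0; 0, c ^ s, 0, 0; 0, 0, c⁻¹ ^ s, 0; 0, 0, 0, c⁻¹ ^ (s + 2)]

/-- the inversion matrix -/
def wM (F : Type*) [Field F] : Matrix (Fin 4) (Fin 4) F :=
  !![0, 0, 0, 1; 0, 0, 1, 0; 0, 1, 0, 0; 1, 0, 0, 0]

omit [Fintype F] in
theorem tM_det (a b : F) : (tM s a b).det = 1 := by
  rw [Matrix.det_of_isUpperTriangular]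
  · simp [Fin.prod_univ_four, tM]
  · intro i j hij
    fin_cases i <;> fin_cases j <;> first | rfl | (simp at hij)

omit [Fintype F] in
theorem hM_det {c : F} (hc : c ≠ 0) : (hM s c).det = 1 := by
  rw [Matrix.det_of_isUpperTriangular]
  · have h1 : c ^ s * c⁻¹ ^ s = 1 := by rw [← mul_pow, mul_inv_cancel₀ hc, one_pow]
    have h2 : c ^ (s + 2) * c⁻¹ ^ (s + 2) = 1 := by rw [← mul_pow, mul_inv_cancel₀ hc, one_pow]
    rw [Fin.prod_univ_four]
    show c ^ (s + 2) * c ^ s * c⁻¹ ^ s * c⁻¹ ^ (s + 2) = 1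
    linear_combination (c ^ (s + 2) * c⁻¹ ^ (s + 2)) * h1 + h2
  · intro i j hij
    fin_cases i <;> fin_cases j <;> first | rfl | (simp at hij)

omit [Fintype F] in
theorem wM_mul_self : wM F * wM F = 1 := by
  ext i j
  fin_cases i <;> fin_cases j <;> simp [wM, Matrix.mul_apply, Fin.sum_univ_four]

theorem wM_det (D : SzData F s) : (wM F).det = 1 :=
  D.one_of_sq (by rw [sq, ← Matrix.det_mul, wM_mul_self, Matrix.det_one])

theorem tM_mul (D : SzData F s) (a b c d : F) :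
    tM s a b * tM s c d = tM s (a + c) (b + d + a ^ s * c) := by
  have h02 : b + d + a ^ s * c + (a + c) ^ (s + 1) =
      d + c ^ (s + 1) + a * c ^ s + (b + a ^ (s + 1)) := by
    rw [pow_succ (a + c), D.add]; linear_combination (a ^ s * c) * D.two
  have h03 : fz s (a + c) (b + d + a ^ s * c) =
      fz s c d + a * d + (b + a ^ (s + 1)) * c + fz s a b := by
    have h := D.fz_add a b c d
    rw [show c + a = a + c from add_comm _ _,
      show d + b + a ^ s * c = b + d + a ^ s * c by ring] at h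
    exact h
  have h12 : (a + c) ^ s = c ^ s + a ^ s := by rw [D.add]; ring
  have hR : tM s (a + c) (b + d + a ^ s * c) =
      !![1, a + c, d + c ^ (s + 1) + a * c ^ s + (b + a ^ (s + 1)),
          fz s c d + a * d + (b + a ^ (s + 1)) * c + fz s a b;
         0, 1, c ^ s + a ^ s, b + d + a ^ s * c; 0, 0, 1, a + c; 0, 0, 0, 1] := by
    unfold tM; rw [h02, h03, h12]
  rw [hR]
  ext i j
  fin_cases i <;> fin_cases j <;> simp [tM, Matrix.mul_apply, Fin.sum_univ_four] <;> ring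

theorem tM_zero (D : SzData F s) : tM s (0 : F) 0 = 1 := by
  ext i j
  fin_cases i <;> fin_cases j <;> simp [tM, D.fz_zero, D.s_ne]

omit [Fintype F] in
theorem hM_mul (c d : F) : hM s c * hM s d = hM s (c * d) := by
  ext i j
  fin_cases i <;> fin_cases j <;> simp [hM, Matrix.mul_apply, Fin.sum_univ_four, mul_pow] <;>
    try ring

omit [Fintype F] in
theorem hM_one : hM s (1 : F) = 1 := by
  ext i j
  fin_cases i <;> fin_cases j <;> simp [hM]

omit [Fintype F] in
theorem wM_hM (c : F) : wM F * hM s c * wM F = hM s c⁻¹ := by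
  ext i j
  fin_cases i <;> fin_cases j <;> simp [hM, wM, Matrix.mul_apply, Fin.sum_univ_four]

theorem tM_torus (D : SzData F s) (c a b : F) :
    tM s (c ^ 2 * a) (c ^ (2 * s + 2) * b) =
      !![1, c ^ 2 * a, c ^ (2 * s + 2) * (b + a ^ (s + 1)), c ^ (2 * s + 4) * fz s a b;
         0, 1, c ^ (2 * s) * a ^ s, c ^ (2 * s + 2) * b; 0, 0, 1, c ^ 2 * a; 0, 0, 0, 1] := by
  ext i j
  fin_cases i <;> fin_cases j <;> simp [tM, D.fz_torus] <;> ring

theorem hM_tM (D : SzData F s) {c : F} (hc : c ≠ 0) (a b : F) :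
    hM s c * tM s a b = tM s (c ^ 2 * a) (c ^ (2 * s + 2) * b) * hM s c := by
  rw [tM_torus D]
  ext i j
  fin_cases i <;> fin_cases j <;> simp [hM, tM, Matrix.mul_apply, Fin.sum_univ_four] <;>
    (try field_simp) <;> (try ring)

/-! ### elements of `SL₄` -/

/-- `SL₄(F)` -/
abbrev SL4 (F : Type*) [Field F] := Matrix.SpecialLinearGroup (Fin 4) F

/-- translations -/
def tS (s : ℕ) (a b : F) : SL4 F := ⟨tM s a b, tM_det a b⟩

/-- torus elements -/
def hS (s : ℕ) (c : Fˣ) : SL4 F := ⟨hM s (c : F), hM_det c.ne_zero⟩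

/-- the inversion -/
def wS (D : SzData F s) : SL4 F := ⟨wM F, wM_det D⟩

theorem tS_mul (D : SzData F s) (a b c d : F) :
    tS s a b * tS s c d = tS s (a + c) (b + d + a ^ s * c) :=
  Subtype.ext (tM_mul D a b c d)

theorem tS_zero (D : SzData F s) : tS s (0 : F) 0 = 1 := Subtype.ext (tM_zero D)

theorem tS_inv (D : SzData F s) (a b : F) : (tS s a b)⁻¹ = tS s a (b + a ^ (s + 1)) := by
  apply inv_eq_of_mul_eq_one_right
  rw [tS_mul D]
  have h1 : a + a = 0 := D.add_self a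
  have h2 : b + (b + a ^ (s + 1)) + a ^ s * a = 0 := by
    rw [pow_succ]; linear_combination (b + a ^ s * a) * D.two
  rw [h1, h2, tS_zero D]

omit [Fintype F] in
theorem hS_mul (c d : Fˣ) : hS s (c * d) = hS s c * hS s d :=
  Subtype.ext (by
    show hM s ((c * d : Fˣ) : F) = hM s (c : F) * hM s (d : F)
    rw [hM_mul, Units.val_mul])

omit [Fintype F] in
theorem hS_one : hS s (1 : Fˣ) = 1 :=
  Subtype.ext (by show hM s ((1 : Fˣ) : F) = 1; rw [Units.val_one, hM_one])

omit [Fintype F] in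
theorem hS_inv (c : Fˣ) : (hS s c)⁻¹ = hS s c⁻¹ := by
  apply inv_eq_of_mul_eq_one_right
  rw [← hS_mul, mul_inv_cancel, hS_one]

theorem wS_mul_self (D : SzData F s) : wS D * wS D = 1 := Subtype.ext wM_mul_self

theorem wS_inv (D : SzData F s) : (wS D)⁻¹ = wS D := inv_eq_of_mul_eq_one_right (wS_mul_self D)

theorem wS_hS (D : SzData F s) (c : Fˣ) : wS D * hS s c * wS D = hS s c⁻¹ :=
  Subtype.ext (by
    show wM F * hM s (c : F) * wM F = hM s ((c⁻¹ : Fˣ) : F)
    rw [wM_hM, Units.val_inv_eq_inv_val])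

theorem hS_tS (D : SzData F s) (c : Fˣ) (a b : F) :
    hS s c * tS s a b = tS s ((c : F) ^ 2 * a) ((c : F) ^ (2 * s + 2) * b) * hS s c :=
  Subtype.ext (hM_tM D c.ne_zero a b)

/-! ### vectors and points -/

/-- the affine ovoid vectors -/
def pv (s : ℕ) (x y : F) : Fin 4 → F := ![fz s x y, y, x, 1]

omit [Fintype F] in
theorem pv_ne (x y : F) : pv s x y ≠ 0 := fun h => by simpa [pv] using congrFun h 3

omit [Fintype F] in
theorem e0_ne : (![1, 0, 0, 0] : Fin 4 → F) ≠ 0 := fun h => by simpa using congrFun h 0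

omit [Fintype F] in
theorem e3_ne : (![0, 0, 0, 1] : Fin 4 → F) ≠ 0 := fun h => by simpa using congrFun h 3

/-- the point at infinity -/
def Pinf (F : Type*) [Field F] : Projectivization F (Fin 4 → F) :=
  Projectivization.mk F ![1, 0, 0, 0] e0_ne

/-- the origin -/
def P0 (F : Type*) [Field F] : Projectivization F (Fin 4 → F) :=
  Projectivization.mk F ![0, 0, 0, 1] e3_ne

/-- the affine points -/
def Paff (s : ℕ) (x y : F) : Projectivization F (Fin 4 → F) :=
  Projectivization.mk F (pv s x y) (pv_ne x y)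

omit [Fintype F] in
theorem Pinf_eq : Cfsg.suzukiPointInfinity F = Pinf F := rfl

omit [Fintype F] in
theorem P0_eq : Cfsg.suzukiPointZero F = P0 F := rfl

instance finiteProj : Finite (Projectivization F (Fin 4 → F)) :=
  Finite.of_surjective (fun v : {v : Fin 4 → F // v ≠ 0} => Projectivization.mk F v.1 v.2)
    (fun p => ⟨⟨p.rep, p.rep_nonzero⟩, p.mk_rep⟩)

omit [Fintype F] in
theorem smul_mk' (g : SL4 F) {v w : Fin 4 → F} (hv : v ≠ 0) (hw : w ≠ 0) (l : F)
    (h : (g : Matrix (Fin 4) (Fin 4) F) *ᵥ v = l • w) :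
    g • Projectivization.mk F v hv = Projectivization.mk F w hw := by
  rw [Projectivization.smul_mk, Projectivization.mk_eq_mk_iff']
  exact ⟨l, h.symm⟩

omit [Fintype F] in
theorem of_smul_mk (g : SL4 F) {v w : Fin 4 → F} (hv : v ≠ 0) (hw : w ≠ 0)
    (h : g • Projectivization.mk F v hv = Projectivization.mk F w hw) :
    ∃ l : F, (g : Matrix (Fin 4) (Fin 4) F) *ᵥ v = l • w := by
  rw [Projectivization.smul_mk, Projectivization.mk_eq_mk_iff'] at h
  obtain ⟨l, hl⟩ := h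
  exact ⟨l, hl.symm⟩

omit [Fintype F] in
theorem mk_congr {v w : Fin 4 → F} (h : v = w) (hv : v ≠ 0) (hw : w ≠ 0) :
    Projectivization.mk F v hv = Projectivization.mk F w hw := by subst h; rfl

theorem tM_mulVec_pv (D : SzData F s) (a b x y : F) :
    tM s a b *ᵥ pv s x y = pv s (x + a) (y + b + a ^ s * x) := by
  have h := D.fz_add a b x y
  have hR : pv s (x + a) (y + b + a ^ s * x) =
      ![fz s x y + a * y + (b + a ^ (s + 1)) * x + fz s a b, y + b + a ^ s * x, x + a, 1] := by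
    unfold pv; rw [h]
  rw [hR]
  funext i
  fin_cases i <;> simp [tM, pv, Matrix.mulVec, dotProduct, Fin.sum_univ_four] <;> ring

omit [Fintype F] in
theorem tM_mulVec_e0 (a b : F) : tM s a b *ᵥ ![1, 0, 0, 0] = ![1, 0, 0, 0] := by
  funext i
  fin_cases i <;> simp [tM, Matrix.mulVec, dotProduct, Fin.sum_univ_four]

theorem hM_mulVec_pv (D : SzData F s) {c : F} (hc : c ≠ 0) (x y : F) :
    hM s c *ᵥ pv s x y = c⁻¹ ^ (s + 2) • pv s (c ^ 2 * x) (c ^ (2 * s + 2) * y) := by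
  have hR : pv s (c ^ 2 * x) (c ^ (2 * s + 2) * y) =
      ![c ^ (2 * s + 4) * fz s x y, c ^ (2 * s + 2) * y, c ^ 2 * x, 1] := by
    unfold pv; rw [D.fz_torus]
  rw [hR]
  funext i
  fin_cases i <;> simp [hM, pv, Matrix.mulVec, dotProduct, Fin.sum_univ_four] <;>
    (try field_simp) <;> (try ring)

omit [Fintype F] in
theorem hM_mulVec_e0 (c : F) : hM s c *ᵥ ![1, 0, 0, 0] = c ^ (s + 2) • ![1, 0, 0, 0] := by
  funext i
  fin_cases i <;> simp [hM, Matrix.mulVec, dotProduct, Fin.sum_univ_four]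

omit [Fintype F] in
theorem wM_mulVec_pv (x y : F) : wM F *ᵥ pv s x y = ![1, x, y, fz s x y] := by
  funext i
  fin_cases i <;> simp [wM, pv, Matrix.mulVec, dotProduct, Fin.sum_univ_four]

omit [Fintype F] in
theorem wM_mulVec_e0 : wM F *ᵥ ![1, 0, 0, 0] = ![0, 0, 0, 1] := by
  funext i
  fin_cases i <;> simp [wM, Matrix.mulVec, dotProduct, Fin.sum_univ_four]

omit [Fintype F] in
theorem wM_mulVec_e3 : wM F *ᵥ ![0, 0, 0, 1] = ![1, 0, 0, 0] := by
  funext i
  fin_cases i <;> simp [wM, Matrix.mulVec, dotProduct, Fin.sum_univ_four]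

theorem pv_zero (D : SzData F s) : pv s (0 : F) 0 = ![0, 0, 0, 1] := by
  unfold pv; rw [D.fz_zero]

theorem Paff_zero (D : SzData F s) : Paff s (0 : F) 0 = P0 F := mk_congr (pv_zero D) _ _

omit [Fintype F] in
theorem tS_inf (a b : F) : tS s a b • Pinf F = Pinf F :=
  smul_mk' _ _ _ 1 (by rw [one_smul]; exact tM_mulVec_e0 a b)

theorem tS_aff (D : SzData F s) (a b x y : F) :
    tS s a b • Paff s x y = Paff s (x + a) (y + b + a ^ s * x) :=
  smul_mk' _ _ _ 1 (by rw [one_smul]; exact tM_mulVec_pv D a b x y)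

omit [Fintype F] in
theorem hS_inf (c : Fˣ) : hS s c • Pinf F = Pinf F :=
  smul_mk' _ _ _ _ (hM_mulVec_e0 (c : F))

theorem hS_aff (D : SzData F s) (c : Fˣ) (x y : F) :
    hS s c • Paff s x y = Paff s ((c : F) ^ 2 * x) ((c : F) ^ (2 * s + 2) * y) :=
  smul_mk' _ _ _ _ (hM_mulVec_pv D c.ne_zero x y)

theorem wS_inf (D : SzData F s) : wS D • Pinf F = P0 F :=
  smul_mk' _ _ _ 1 (by rw [one_smul]; exact wM_mulVec_e0)

theorem wS_zero (D : SzData F s) : wS D • P0 F = Pinf F :=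
  smul_mk' _ _ _ 1 (by rw [one_smul]; exact wM_mulVec_e3)

theorem wS_aff (D : SzData F s) {x y : F} (h : ¬ (x = 0 ∧ y = 0)) :
    wS D • Paff s x y = Paff s (y / fz s x y) (x / fz s x y) := by
  have hz := D.fz_ne h
  have h1 := D.fz_inv hz
  refine smul_mk' _ _ _ (fz s x y) ?_
  show wM F *ᵥ pv s x y = _
  rw [wM_mulVec_pv]
  funext i
  fin_cases i
  · show (1 : F) = fz s x y * fz s (y / fz s x y) (x / fz s x y); exact h1.symm
  · show x = fz s x y * (x / fz s x y); field_simp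
  · show y = fz s x y * (y / fz s x y); field_simp
  · show fz s x y = fz s x y * 1; ring

/-! ### the ovoid and its stabiliser -/

/-- the Suzuki–Tits ovoid -/
def ov (F : Type*) [Field F] (s : ℕ) : Set (Projectivization F (Fin 4 → F)) :=
  {p | ∃ (v : Fin 4 → F) (hv : v ≠ 0), p = Projectivization.mk F v hv ∧
    (v = ![1, 0, 0, 0] ∨ ∃ x y : F, v = ![x * y + x ^ (s + 2) + y ^ s, y, x, 1])}

omit [Fintype F] in
theorem ov_eq (m : ℕ) : Cfsg.suzukiOvoid F m = ov F (2 ^ (m + 1)) := rfl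

omit [Fintype F] in
theorem mem_ov {p : Projectivization F (Fin 4 → F)} :
    p ∈ ov F s ↔ p = Pinf F ∨ ∃ x y, p = Paff s x y := by
  constructor
  · rintro ⟨v, hv, rfl, rfl | ⟨x, y, rfl⟩⟩
    · exact Or.inl rfl
    · exact Or.inr ⟨x, y, rfl⟩
  · rintro (rfl | ⟨x, y, rfl⟩)
    · exact ⟨_, e0_ne, rfl, Or.inl rfl⟩
    · exact ⟨_, pv_ne x y, rfl, Or.inr ⟨x, y, rfl⟩⟩

omit [Fintype F] in
theorem inf_mem : Pinf F ∈ ov F s := mem_ov.mpr (Or.inl rfl)

omit [Fintype F] in
theorem aff_mem (x y : F) : Paff s x y ∈ ov F s := mem_ov.mpr (Or.inr ⟨x, y, rfl⟩)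

theorem zero_mem (D : SzData F s) : P0 F ∈ ov F s := by
  rw [← Paff_zero D]; exact aff_mem 0 0

omit [Fintype F] in
theorem Paff_inj {x y x' y' : F} (h : Paff s x y = Paff s x' y') : x = x' ∧ y = y' := by
  unfold Paff at h
  rw [Projectivization.mk_eq_mk_iff'] at h
  obtain ⟨a, ha⟩ := h
  have h3 : a = 1 := by simpa [pv] using congrFun ha 3
  subst h3
  have h1 := congrFun ha 1
  have h2 := congrFun ha 2
  simp [pv] at h1 h2
  exact ⟨h2.symm, h1.symm⟩

omit [Fintype F] in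
theorem Paff_ne_inf (x y : F) : Paff s x y ≠ Pinf F := by
  intro h
  unfold Paff Pinf at h
  rw [Projectivization.mk_eq_mk_iff'] at h
  obtain ⟨a, ha⟩ := h
  have h3 := congrFun ha 3
  simp [pv] at h3

omit [Fintype F] in
theorem P0_ne_inf : P0 F ≠ Pinf F := by
  intro h
  unfold P0 Pinf at h
  rw [Projectivization.mk_eq_mk_iff'] at h
  obtain ⟨a, ha⟩ := h
  have h3 := congrFun ha 3
  simp at h3

/-- the Suzuki group: the stabiliser of the ovoid in `SL₄` -/
def SzG (F : Type*) [Field F] (s : ℕ) : Subgroup (SL4 F) :=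
  MulAction.stabilizer (SL4 F) (ov F s)

omit [Fintype F] in
theorem SzG_eq (m : ℕ) : Cfsg.Sz F m = SzG F (2 ^ (m + 1)) := rfl

theorem mem_SzG_of (g : SL4 F) (h : ∀ p ∈ ov F s, g • p ∈ ov F s) : g ∈ SzG F s := by
  unfold SzG
  rw [MulAction.mem_stabilizer_set_iff_smul_set_subset (Set.toFinite _)]
  rintro _ ⟨p, hp, rfl⟩
  exact h p hp

omit [Fintype F] in
theorem smul_mem_ov {g : SL4 F} (hg : g ∈ SzG F s) {p : Projectivization F (Fin 4 → F)}
    (hp : p ∈ ov F s) : g • p ∈ ov F s := by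
  have h : g • ov F s = ov F s := hg
  rw [← h]; exact Set.smul_mem_smul_set hp

theorem tS_mem (D : SzData F s) (a b : F) : tS s a b ∈ SzG F s := by
  apply mem_SzG_of
  intro p hp
  rcases mem_ov.mp hp with rfl | ⟨x, y, rfl⟩
  · rw [tS_inf]; exact inf_mem
  · rw [tS_aff D]; exact aff_mem _ _

theorem hS_mem (D : SzData F s) (c : Fˣ) : hS s c ∈ SzG F s := by
  apply mem_SzG_of
  intro p hp
  rcases mem_ov.mp hp with rfl | ⟨x, y, rfl⟩
  · rw [hS_inf]; exact inf_mem
  · rw [hS_aff D]; exact aff_mem _ _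

theorem wS_mem (D : SzData F s) : wS D ∈ SzG F s := by
  apply mem_SzG_of
  intro p hp
  rcases mem_ov.mp hp with rfl | ⟨x, y, rfl⟩
  · rw [wS_inf]; exact zero_mem D
  · by_cases h : x = 0 ∧ y = 0
    · obtain ⟨rfl, rfl⟩ := h
      rw [Paff_zero D, wS_zero]; exact inf_mem
    · rw [wS_aff D h]; exact aff_mem _ _

end Cfsg.Agent.Helper6.Sz
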