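import Mathlib
import Cfsg.Agent.Helper6.SzMat

set_option autoImplicit false

/-!
Point stabilisers in the Suzuki group `Sz(q)` (stabiliser of the Suzuki–Tits ovoid in `SL₄`):
the stabiliser of `∞` and `0` is the torus, the stabiliser of `∞` is `U ⋊ H`, and the group is
doubly transitive on the ovoid.
-/

namespace Cfsg.Agent.Helper6.Sz

open Matrix
open scoped Pointwise

variable {F : Type*} [Field F] [Fintype F] {s : ℕ}

omit [Fintype F] in
theorem ext4 {A B : Matrix (Fin 4) (Fin 4) F}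
    (h00 : A 0 0 = B 0 0) (h01 : A 0 1 = B 0 1) (h02 : A 0 2 = B 0 2) (h03 : A 0 3 = B 0 3)
    (h10 : A 1 0 = B 1 0) (h11 : A 1 1 = B 1 1) (h12 : A 1 2 = B 1 2) (h13 : A 1 3 = B 1 3)
    (h20 : A 2 0 = B 2 0) (h21 : A 2 1 = B 2 1) (h22 : A 2 2 = B 2 2) (h23 : A 2 3 = B 2 3)
    (h30 : A 3 0 = B 3 0) (h31 : A 3 1 = B 3 1) (h32 : A 3 2 = B 3 2) (h33 : A 3 3 = B 3 3) :
    A = B := by
  ext i j
  fin_cases i <;> fin_cases j <;> assumption

omit [Fintype F] in
theorem mulVec_pv_apply (M : Matrix (Fin 4) (Fin 4) F) (x y : F) (i : Fin 4) :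
    (M *ᵥ pv s x y) i = M i 0 * fz s x y + M i 1 * y + M i 2 * x + M i 3 := by
  simp [Matrix.mulVec, dotProduct, Fin.sum_univ_four, pv]

omit [Fintype F] in
theorem mulVec_e0_apply (M : Matrix (Fin 4) (Fin 4) F) (i : Fin 4) :
    (M *ᵥ ![1, 0, 0, 0]) i = M i 0 := by
  simp [Matrix.mulVec, dotProduct, Fin.sum_univ_four]

omit [Fintype F] in
theorem mulVec_e3_apply (M : Matrix (Fin 4) (Fin 4) F) (i : Fin 4) :
    (M *ᵥ ![0, 0, 0, 1]) i = M i 3 := by
  simp [Matrix.mulVec, dotProduct, Fin.sum_univ_four]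

/-- The stabiliser of `∞` and `0` is the torus. -/
theorem stab_two (D : SzData F s) {g : SL4 F} (hg : g ∈ SzG F s) (h1 : g • Pinf F = Pinf F)
    (h2 : g • P0 F = P0 F) : ∃ c : Fˣ, g = hS s c := by
  obtain ⟨G, hGdef⟩ : ∃ G : Matrix (Fin 4) (Fin 4) F, G = (g : Matrix (Fin 4) (Fin 4) F) :=
    ⟨_, rfl⟩
  -- first column
  obtain ⟨l1, hl1⟩ := of_smul_mk g e0_ne e0_ne h1
  rw [← hGdef] at hl1
  have hc0 : ∀ i, G i 0 = (l1 • (![1, 0, 0, 0] : Fin 4 → F)) i := fun i => by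
    rw [← hl1, mulVec_e0_apply]
  have h10 : G 1 0 = 0 := by simpa using hc0 1
  have h20 : G 2 0 = 0 := by simpa using hc0 2
  have h30 : G 3 0 = 0 := by simpa using hc0 3
  -- last column
  obtain ⟨l2, hl2⟩ := of_smul_mk g e3_ne e3_ne h2
  rw [← hGdef] at hl2
  have hc3 : ∀ i, G i 3 = (l2 • (![0, 0, 0, 1] : Fin 4 → F)) i := fun i => by
    rw [← hl2, mulVec_e3_apply]
  have h03 : G 0 3 = 0 := by simpa using hc3 0
  have h13 : G 1 3 = 0 := by simpa using hc3 1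
  have h23 : G 2 3 = 0 := by simpa using hc3 2
  -- the action on affine points
  have key : ∀ x y : F, ∃ l x' y' : F, l ≠ 0 ∧
      G 3 0 * fz s x y + G 3 1 * y + G 3 2 * x + G 3 3 = l ∧
      G 2 0 * fz s x y + G 2 1 * y + G 2 2 * x + G 2 3 = l * x' ∧
      G 1 0 * fz s x y + G 1 1 * y + G 1 2 * x + G 1 3 = l * y' ∧
      G 0 0 * fz s x y + G 0 1 * y + G 0 2 * x + G 0 3 = l * fz s x' y' := by
    intro x y
    have hmem := smul_mem_ov hg (aff_mem (s := s) x y)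
    rcases mem_ov.mp hmem with hinf | ⟨x', y', hxy⟩
    · exfalso
      have h : g • Paff s x y = g • Pinf F := by rw [hinf, h1]
      exact Paff_ne_inf x y (MulAction.injective g h)
    · obtain ⟨l, hl⟩ := of_smul_mk g (pv_ne x y) (pv_ne x' y') hxy
      refine ⟨l, x', y', ?_, ?_, ?_, ?_, ?_⟩
      · rintro rfl
        rw [zero_smul] at hl
        exact pv_ne x y ((smul_eq_zero_iff_eq g).mp hl)
      · rw [hGdef]
        exact ((mulVec_pv_apply _ x y 3).symm.trans (congrFun hl 3)).trans (mul_one l)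
      · rw [hGdef]; exact (mulVec_pv_apply _ x y 2).symm.trans (congrFun hl 2)
      · rw [hGdef]; exact (mulVec_pv_apply _ x y 1).symm.trans (congrFun hl 1)
      · rw [hGdef]; exact (mulVec_pv_apply _ x y 0).symm.trans (congrFun hl 0)
  have h31 : G 3 1 = 0 := by
    by_contra hne
    obtain ⟨l, x', y', hl0, e3, -⟩ := key 0 (-(G 3 3) / G 3 1)
    apply hl0
    have h : G 3 1 * (-(G 3 3) / G 3 1) = -(G 3 3) := by field_simp
    rw [← e3, h30, h]; ring
  have h32 : G 3 2 = 0 := by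
    by_contra hne
    obtain ⟨l, x', y', hl0, e3, -⟩ := key (-(G 3 3) / G 3 2) 0
    apply hl0
    have h : G 3 2 * (-(G 3 3) / G 3 2) = -(G 3 3) := by field_simp
    rw [← e3, h30, h]; ring
  have hd : G 3 3 ≠ 0 := by
    obtain ⟨l, x', y', hl0, e3, -⟩ := key 0 0
    rw [h30, h31, h32] at e3
    intro h
    apply hl0
    rw [← e3, h]; ring
  have Estar : ∀ x y : F,
      G 3 3 ^ s * (G 2 1 * y + G 2 2 * x) * (G 1 1 * y + G 1 2 * x) +
        (G 2 1 * y + G 2 2 * x) ^ (s + 2) + G 3 3 ^ 2 * (G 1 1 * y + G 1 2 * x) ^ s =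
      G 3 3 ^ (s + 1) * (G 0 0 * fz s x y + G 0 1 * y + G 0 2 * x) := by
    intro x y
    obtain ⟨l, x', y', hl0, e3, e2, e1, e0⟩ := key x y
    rw [h30, h31, h32] at e3
    have hl : l = G 3 3 := by rw [← e3]; ring
    subst hl
    rw [h20, h23] at e2
    rw [h10, h13] at e1
    rw [h03] at e0
    have hX : G 2 1 * y + G 2 2 * x = G 3 3 * x' := by linear_combination e2
    have hY : G 1 1 * y + G 1 2 * x = G 3 3 * y' := by linear_combination e1
    have hZ : G 0 0 * fz s x y + G 0 1 * y + G 0 2 * x = G 3 3 * fz s x' y' := by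
      linear_combination e0
    rw [hX, hY, hZ]; unfold fz; ring
  have hfz0 : ∀ x : F, fz s x 0 = x ^ (s + 2) := fun x => by simp [fz, D.s_ne]
  have hfz0' : ∀ y : F, fz s 0 y = y ^ s := fun y => by simp [fz]
  have hf11 : fz s (1 : F) 1 = 1 := by
    unfold fz; rw [one_pow, one_pow]; linear_combination D.two
  obtain ⟨hA, hB, -, hC⟩ := D.poly4 (G 2 2 ^ (s + 2) - G 3 3 ^ (s + 1) * G 0 0)
    (G 3 3 ^ 2 * G 1 2 ^ s) (G 3 3 ^ s * G 2 2 * G 1 2) (-(G 3 3 ^ (s + 1) * G 0 2))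
    (fun x => by
      have h := Estar x 0
      rw [hfz0] at h
      linear_combination h)
  obtain ⟨hA', hB', -, hC'⟩ := D.poly4 (G 2 1 ^ (s + 2))
    (G 3 3 ^ 2 * G 1 1 ^ s - G 3 3 ^ (s + 1) * G 0 0) (G 3 3 ^ s * G 2 1 * G 1 1)
    (-(G 3 3 ^ (s + 1) * G 0 1))
    (fun y => by
      have h := Estar 0 y
      rw [hfz0'] at h
      linear_combination h)
  have h12 : G 1 2 = 0 := by
    rcases mul_eq_zero.mp hB with h | h
    · exact absurd ((pow_eq_zero_iff (by norm_num)).mp h) hd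
    · exact (pow_eq_zero_iff D.s_ne).mp h
  have h02 : G 0 2 = 0 := by
    rcases mul_eq_zero.mp (neg_eq_zero.mp hC) with h | h
    · exact absurd ((pow_eq_zero_iff (by omega)).mp h) hd
    · exact h
  have h21 : G 2 1 = 0 := (pow_eq_zero_iff (by omega)).mp hA'
  have h01 : G 0 1 = 0 := by
    rcases mul_eq_zero.mp (neg_eq_zero.mp hC') with h | h
    · exact absurd ((pow_eq_zero_iff (by omega)).mp h) hd
    · exact h
  have hpe : G 2 2 * G 1 1 = G 3 3 * G 0 0 := by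
    have h := Estar 1 1
    rw [hf11, h21, h12, h01, h02] at h
    have h' : G 3 3 ^ s * (G 2 2 * G 1 1) = G 3 3 ^ s * (G 3 3 * G 0 0) := by
      linear_combination h - hA - hB' - (G 3 3 ^ (s + 1) * G 0 0) * D.two
    exact mul_left_cancel₀ (pow_ne_zero s hd) h'
  have hdet : G 0 0 * G 1 1 * G 2 2 * G 3 3 = 1 := by
    have hGd : G = Matrix.diagonal ![G 0 0, G 1 1, G 2 2, G 3 3] :=
      ext4 rfl h01 h02 h03 h10 rfl h12 h13 h20 h21 rfl h23 h30 h31 h32 rfl
    have h := g.2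
    rw [← hGdef, hGd, Matrix.det_diagonal, Fin.prod_univ_four] at h
    exact h
  have hda : G 3 3 * G 0 0 = 1 :=
    D.one_of_sq (by linear_combination hdet - (G 3 3 * G 0 0) * hpe)
  have hpe1 : G 2 2 * G 1 1 = 1 := hpe.trans hda
  obtain ⟨c, hc⟩ := D.surj (G 1 1)
  have hc0 : c ≠ 0 := by
    rintro rfl
    rw [zero_pow D.s_ne] at hc
    rw [← hc, mul_zero] at hpe1
    exact zero_ne_one hpe1
  have hp : G 2 2 = c⁻¹ ^ s := by
    rw [inv_pow, hc]; exact eq_inv_of_mul_eq_one_left hpe1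
  have hd' : G 3 3 = c⁻¹ ^ (s + 2) :=
    D.inj (by
      rw [pow_right_comm, ← hp]
      linear_combination -hA - G 3 3 ^ s * hda)
  have ha : G 0 0 = c ^ (s + 2) := by
    have h := eq_inv_of_mul_eq_one_right hda
    rw [h, hd', inv_pow, inv_inv]
  refine ⟨Units.mk0 c hc0, Subtype.ext ?_⟩
  show (g : Matrix (Fin 4) (Fin 4) F) = hM s c
  rw [← hGdef]
  exact ext4 ha h01 h02 h03 h10 hc.symm h12 h13 h20 h21 hp h23 h30 h31 h32 hd'

/-- The stabiliser of `∞` consists of the products of a translation and a torus element. -/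
theorem stab_one (D : SzData F s) {g : SL4 F} (hg : g ∈ SzG F s) (h1 : g • Pinf F = Pinf F) :
    ∃ a b : F, ∃ c : Fˣ, g = tS s a b * hS s c := by
  have hmem := smul_mem_ov hg (zero_mem D)
  rcases mem_ov.mp hmem with hinf | ⟨a, b, hab⟩
  · exfalso
    have h : g • P0 F = g • Pinf F := by rw [hinf, h1]
    exact P0_ne_inf (MulAction.injective g h)
  · have hg' : (tS s a b)⁻¹ * g ∈ SzG F s := mul_mem (inv_mem (tS_mem D a b)) hg
    have h1' : ((tS s a b)⁻¹ * g) • Pinf F = Pinf F := by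
      rw [mul_smul, h1, inv_smul_eq_iff, tS_inf]
    have h2' : ((tS s a b)⁻¹ * g) • P0 F = P0 F := by
      rw [mul_smul, hab, inv_smul_eq_iff, ← Paff_zero D, tS_aff D, zero_add, zero_add, mul_zero,
        add_zero]
    obtain ⟨c, hc⟩ := stab_two D hg' h1' h2'
    exact ⟨a, b, c, by rw [← hc]; group⟩

theorem exists_to_inf (D : SzData F s) {p : Projectivization F (Fin 4 → F)} (hp : p ∈ ov F s) :
    ∃ g ∈ SzG F s, g • p = Pinf F := by
  rcases mem_ov.mp hp with rfl | ⟨x, y, rfl⟩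
  · exact ⟨1, one_mem _, one_smul _ _⟩
  · refine ⟨wS D * (tS s x y)⁻¹, mul_mem (wS_mem D) (inv_mem (tS_mem D x y)), ?_⟩
    have h : (tS s x y)⁻¹ • Paff s x y = P0 F := by
      rw [inv_smul_eq_iff, ← Paff_zero D, tS_aff D, zero_add, zero_add, mul_zero, add_zero]
    rw [mul_smul, h, wS_zero]

/-- Double transitivity: any two distinct points of the ovoid can be moved to `∞`, `0`. -/
theorem exists_to_pair (D : SzData F s) {p q : Projectivization F (Fin 4 → F)} (hp : p ∈ ov F s)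
    (hq : q ∈ ov F s) (hpq : p ≠ q) : ∃ g ∈ SzG F s, g • p = Pinf F ∧ g • q = P0 F := by
  obtain ⟨g1, hg1, h1⟩ := exists_to_inf D hp
  have hmem := smul_mem_ov hg1 hq
  rcases mem_ov.mp hmem with hinf | ⟨x, y, hxy⟩
  · exfalso
    exact hpq (MulAction.injective g1 (show g1 • p = g1 • q by rw [h1, hinf]))
  · refine ⟨(tS s x y)⁻¹ * g1, mul_mem (inv_mem (tS_mem D x y)) hg1, ?_, ?_⟩
    · rw [mul_smul, h1, inv_smul_eq_iff, tS_inf]
    · rw [mul_smul, hxy, inv_smul_eq_iff, ← Paff_zero D, tS_aff D, zero_add, zero_add, mul_zero,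
        add_zero]

theorem hS_fix_aff (D : SzData F s) (c : Fˣ) {x y : F} (hxy : ¬ (x = 0 ∧ y = 0))
    (h : hS s c • Paff s x y = Paff s x y) : c = 1 := by
  rw [hS_aff D] at h
  obtain ⟨hx, hy⟩ := Paff_inj h
  apply Units.ext
  by_cases hx0 : x = 0
  · have hy0 : y ≠ 0 := fun hy0 => hxy ⟨hx0, hy0⟩
    have h1 : (c : F) ^ (2 * s + 2) = 1 := mul_right_cancel₀ hy0 (hy.trans (one_mul y).symm)
    have h2 : ((c : F) ^ (s + 1)) ^ 2 = 1 := by rw [← h1]; ring
    exact D.one_of_pow_succ (D.one_of_sq h2)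
  · have h1 : (c : F) ^ 2 = 1 := mul_right_cancel₀ hx0 (hx.trans (one_mul x).symm)
    exact D.one_of_sq h1

end Cfsg.Agent.Helper6.Sz
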