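import Mathlib
import Cfsg.Agent.Helper6.SzStab

set_option autoImplicit false

/-!
Group-level facts on the Suzuki group `Sz(q)` (stabiliser of the Suzuki–Tits ovoid in `SL₄`):
the ovoid property, the order of the point stabilisers and of the group, the invariant symplectic form.
-/

namespace Cfsg.Agent.Helper6.Sz

open Matrix
open scoped Pointwise

variable {F : Type*} [Field F] [Fintype F] {s : ℕ}

omit [Fintype F] in
theorem indep_smul (g : SL4 F) {ι : Type*} {f : ι → Projectivization F (Fin 4 → F)}
    (h : Projectivization.Independent f) : Projectivization.Independent (fun i => g • f i) := by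
  obtain ⟨v, hv, hli⟩ := h
  have hfun : (fun i => g • Projectivization.mk F (v i) (hv i)) =
      fun i => Projectivization.mk F (g • v i) ((smul_ne_zero_iff_ne g).mpr (hv i)) :=
    funext fun i => Projectivization.smul_mk g (hv i)
  rw [hfun]
  apply Projectivization.Independent.mk
  have hker : LinearMap.ker (DistribSMul.toLinearMap F (Fin 4 → F) g) = ⊥ :=
    LinearMap.ker_eq_bot.mpr (MulAction.injective g)
  exact hli.map' (DistribSMul.toLinearMap F (Fin 4 → F) g) hker

/-- The Suzuki–Tits point set is an ovoid. -/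
theorem ovoid_indep (D : SzData F s) (p : Fin 3 ↪ ov F s) :
    Projectivization.Independent (fun i => (p i : Projectivization F (Fin 4 → F))) := by
  have h01 : (p 0 : Projectivization F (Fin 4 → F)) ≠ p 1 := fun h => by
    have h' := p.injective (Subtype.ext h)
    simp at h'
  obtain ⟨g, hg, hg0, hg1⟩ := exists_to_pair D (p 0).2 (p 1).2 h01
  have hmem := smul_mem_ov hg (p 2).2
  rcases mem_ov.mp hmem with hinf | ⟨x, y, hxy⟩
  · exfalso
    have h : (p 2 : Projectivization F (Fin 4 → F)) = p 0 :=
      MulAction.injective g (show g • (p 2 : Projectivization F (Fin 4 → F)) = g • (p 0 : _) by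
        rw [hinf, hg0])
    have h' := p.injective (Subtype.ext h)
    simp at h'
  · have hne : ¬ (x = 0 ∧ y = 0) := by
      rintro ⟨rfl, rfl⟩
      rw [Paff_zero D] at hxy
      have h : (p 2 : Projectivization F (Fin 4 → F)) = p 1 :=
        MulAction.injective g (show g • (p 2 : Projectivization F (Fin 4 → F)) = g • (p 1 : _) by
          rw [hxy, hg1])
      have h' := p.injective (Subtype.ext h)
      simp at h'
    have hV : ∀ i : Fin 3,
        (![![1, 0, 0, 0], ![0, 0, 0, 1], pv s x y] : Fin 3 → Fin 4 → F) i ≠ 0 := by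
      intro i
      fin_cases i
      · exact e0_ne
      · exact e3_ne
      · exact pv_ne x y
    have hstd : Projectivization.Independent
        (fun i => g • (p i : Projectivization F (Fin 4 → F))) := by
      have hfun : (fun i => g • (p i : Projectivization F (Fin 4 → F))) = fun i : Fin 3 =>
          Projectivization.mk F
            ((![![1, 0, 0, 0], ![0, 0, 0, 1], pv s x y] : Fin 3 → Fin 4 → F) i) (hV i) := by
        funext i
        fin_cases i
        · exact hg0
        · exact hg1
        · exact hxy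
      rw [hfun]
      apply Projectivization.Independent.mk
      rw [Fintype.linearIndependent_iff]
      intro c hc
      have e0 : c 0 + c 2 * fz s x y = 0 := by
        have h := congrFun hc 0
        simpa [Fin.sum_univ_three, pv] using h
      have e1 : c 2 * y = 0 := by
        have h := congrFun hc 1
        simpa [Fin.sum_univ_three, pv] using h
      have e2 : c 2 * x = 0 := by
        have h := congrFun hc 2
        simpa [Fin.sum_univ_three, pv] using h
      have e3 : c 1 + c 2 = 0 := by
        have h := congrFun hc 3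
        simpa [Fin.sum_univ_three, pv] using h
      have hc2 : c 2 = 0 := by
        by_contra hc2
        exact hne ⟨(mul_eq_zero.mp e2).resolve_left hc2, (mul_eq_zero.mp e1).resolve_left hc2⟩
      have hc0 : c 0 = 0 := by rw [hc2] at e0; linear_combination e0
      have hc1 : c 1 = 0 := by rw [hc2] at e3; linear_combination e3
      intro i
      fin_cases i
      · exact hc0
      · exact hc1
      · exact hc2
    have h := indep_smul g⁻¹ hstd
    simpa using h

/-! ### elements of the Suzuki group -/

/-- translations in `Sz` -/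
def tG (D : SzData F s) (a b : F) : SzG F s := ⟨tS s a b, tS_mem D a b⟩

/-- the torus in `Sz` -/
def hG (D : SzData F s) : Fˣ →* SzG F s where
  toFun c := ⟨hS s c, hS_mem D c⟩
  map_one' := Subtype.ext hS_one
  map_mul' c d := Subtype.ext (hS_mul c d)

/-- the inversion in `Sz` -/
def wG (D : SzData F s) : SzG F s := ⟨wS D, wS_mem D⟩

theorem tS_hS_zero (D : SzData F s) (a b : F) (c : Fˣ) :
    (tS s a b * hS s c) • P0 F = Paff s a b := by
  rw [mul_smul, ← Paff_zero D, hS_aff D, mul_zero, mul_zero, tS_aff D, zero_add, zero_add,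
    mul_zero, add_zero]

theorem tS_hS_inj (D : SzData F s) {a b a' b' : F} {c c' : Fˣ}
    (h : tS s a b * hS s c = tS s a' b' * hS s c') : a = a' ∧ b = b' ∧ c = c' := by
  have h0 : Paff s a b = Paff s a' b' := by rw [← tS_hS_zero D a b c, h, tS_hS_zero D]
  obtain ⟨rfl, rfl⟩ := Paff_inj h0
  have hh : hS s c = hS s c' := mul_left_cancel h
  have h1 : Paff s ((c : F) ^ 2 * 1) ((c : F) ^ (2 * s + 2) * 0) =
      Paff s ((c' : F) ^ 2 * 1) ((c' : F) ^ (2 * s + 2) * 0) := by
    rw [← hS_aff D, ← hS_aff D, hh]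
  obtain ⟨h2, -⟩ := Paff_inj h1
  rw [mul_one, mul_one] at h2
  exact ⟨rfl, rfl, Units.ext (D.sq_inj h2)⟩

theorem mem_stab_inf (D : SzData F s) (g : SzG F s) :
    g ∈ MulAction.stabilizer (SzG F s) (Pinf F) ↔
      ∃ a b : F, ∃ c : Fˣ, (g : SL4 F) = tS s a b * hS s c := by
  constructor
  · intro h
    exact stab_one D g.2 h
  · rintro ⟨a, b, c, h⟩
    show (g : SL4 F) • Pinf F = Pinf F
    rw [h, mul_smul, hS_inf, tS_inf]

/-- The order of the stabiliser of `∞`. -/
theorem card_stab_inf (D : SzData F s) :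
    Nat.card (MulAction.stabilizer (SzG F s) (Pinf F)) =
      Fintype.card F ^ 2 * (Fintype.card F - 1) := by
  let φ : F × F × Fˣ → MulAction.stabilizer (SzG F s) (Pinf F) := fun t =>
    ⟨⟨tS s t.1 t.2.1 * hS s t.2.2, mul_mem (tS_mem D _ _) (hS_mem D _)⟩,
      (mem_stab_inf D _).mpr ⟨_, _, _, rfl⟩⟩
  have hinj : Function.Injective φ := by
    rintro ⟨a, b, c⟩ ⟨a', b', c'⟩ h
    have h' : tS s a b * hS s c = tS s a' b' * hS s c' :=
      congrArg (fun t : MulAction.stabilizer (SzG F s) (Pinf F) => ((t : SzG F s) : SL4 F)) h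
    obtain ⟨rfl, rfl, rfl⟩ := tS_hS_inj D h'
    rfl
  have hsurj : Function.Surjective φ := by
    rintro ⟨g, hfix⟩
    obtain ⟨a, b, c, h⟩ := (mem_stab_inf D g).mp hfix
    exact ⟨(a, b, c), Subtype.ext (Subtype.ext h.symm)⟩
  rw [← Nat.card_congr (Equiv.ofBijective φ ⟨hinj, hsurj⟩), Nat.card_prod, Nat.card_prod,
    Nat.card_units, Nat.card_eq_fintype_card]
  ring

/-- The stabiliser of `∞` and `0` is isomorphic to the multiplicative group of the field. -/
theorem stab_two_equiv (D : SzData F s) :
    Nonempty (↥(MulAction.stabilizer (SzG F s) (Pinf F) ⊓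
      MulAction.stabilizer (SzG F s) (P0 F)) ≃* Fˣ) := by
  have hinj : Function.Injective (hG D) := by
    intro c c' h
    have h' : hS s c = hS s c' := congrArg Subtype.val h
    exact (tS_hS_inj D (a := 0) (b := 0) (a' := 0) (b' := 0) (by rw [h'])).2.2
  have hrange : (hG D).range = MulAction.stabilizer (SzG F s) (Pinf F) ⊓
      MulAction.stabilizer (SzG F s) (P0 F) := by
    ext g
    constructor
    · rintro ⟨c, rfl⟩
      refine ⟨?_, ?_⟩
      · show hS s c • Pinf F = Pinf F
        exact hS_inf c
      · show hS s c • P0 F = P0 F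
        rw [← Paff_zero D, hS_aff D, mul_zero, mul_zero]
    · rintro ⟨h1, h2⟩
      obtain ⟨c, hc⟩ := stab_two D g.2 h1 h2
      exact ⟨c, Subtype.ext hc.symm⟩
  exact ⟨((MonoidHom.ofInjective hinj).trans (MulEquiv.subgroupCongr hrange)).symm⟩

omit [Fintype F] in
theorem card_ov [Fintype F] : Nat.card (ov F s) = Fintype.card F ^ 2 + 1 := by
  classical
  let φ : Option (F × F) → ov F s := fun o =>
    o.elim ⟨Pinf F, inf_mem⟩ (fun t => ⟨Paff s t.1 t.2, aff_mem _ _⟩)
  have hinj : Function.Injective φ := by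
    rintro (_ | ⟨x, y⟩) (_ | ⟨x', y'⟩) h
    · rfl
    · exact absurd (congrArg Subtype.val h).symm (Paff_ne_inf _ _)
    · exact absurd (congrArg Subtype.val h) (Paff_ne_inf _ _)
    · obtain ⟨rfl, rfl⟩ := Paff_inj (congrArg Subtype.val h)
      rfl
  have hsurj : Function.Surjective φ := by
    rintro ⟨p, hp⟩
    rcases mem_ov.mp hp with rfl | ⟨x, y, rfl⟩
    · exact ⟨none, rfl⟩
    · exact ⟨some (x, y), rfl⟩
  rw [← Nat.card_congr (Equiv.ofBijective φ ⟨hinj, hsurj⟩), Nat.card_eq_fintype_card,
    Fintype.card_option, Fintype.card_prod, sq]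

theorem orbit_inf (D : SzData F s) : MulAction.orbit (SzG F s) (Pinf F) = ov F s := by
  ext p
  constructor
  · rintro ⟨g, rfl⟩
    exact smul_mem_ov g.2 inf_mem
  · intro hp
    obtain ⟨g, hg, hgp⟩ := exists_to_inf D hp
    exact ⟨⟨g⁻¹, inv_mem hg⟩, by
      show g⁻¹ • Pinf F = p
      rw [← hgp, inv_smul_smul]⟩

/-- The order of the Suzuki group. -/
theorem card_SzG (D : SzData F s) :
    Nat.card (SzG F s) =
      Fintype.card F ^ 2 * (Fintype.card F ^ 2 + 1) * (Fintype.card F - 1) := by
  have h1 := Subgroup.card_mul_index (MulAction.stabilizer (SzG F s) (Pinf F))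
  rw [MulAction.index_stabilizer, orbit_inf D, card_stab_inf D] at h1
  have h2 : (ov F s).ncard = Fintype.card F ^ 2 + 1 := by
    rw [← Nat.card_coe_set_eq, card_ov]
  rw [h2] at h1
  rw [← h1]; ring

/-- Every element of `Sz` is `t h` or `t w t h`. -/
theorem SzG_cases (D : SzData F s) {g : SL4 F} (hg : g ∈ SzG F s) :
    (∃ a b : F, ∃ c : Fˣ, g = tS s a b * hS s c) ∨
      (∃ a b a' b' : F, ∃ c : Fˣ, g = tS s a b * wS D * (tS s a' b' * hS s c)) := by
  have hmem := smul_mem_ov hg (inf_mem (s := s))
  rcases mem_ov.mp hmem with hinf | ⟨x, y, hxy⟩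
  · exact Or.inl (stab_one D hg hinf)
  · right
    have hg' : (tS s x y * wS D)⁻¹ * g ∈ SzG F s :=
      mul_mem (inv_mem (mul_mem (tS_mem D x y) (wS_mem D))) hg
    have h1 : ((tS s x y * wS D)⁻¹ * g) • Pinf F = Pinf F := by
      rw [mul_smul, hxy, inv_smul_eq_iff, mul_smul, wS_inf, ← Paff_zero D, tS_aff D, zero_add,
        zero_add, mul_zero, add_zero]
    obtain ⟨a', b', c, h⟩ := stab_one D hg' h1
    exact ⟨x, y, a', b', c, by rw [← h]; group⟩

end Cfsg.Agent.Helper6.Sz
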