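import Mathlib
import Cfsg.Agent.Helper6.SzGrp

set_option autoImplicit false

/-!
The invariant symplectic form and the Sylow 2-subgroups of the Suzuki group `Sz(q)` (stabiliser of the
Suzuki–Tits ovoid in `SL₄`).
-/

namespace Cfsg.Agent.Helper6.Sz

open Matrix
open scoped Pointwise
open scoped commutatorElement

variable {F : Type*} [Field F] [Fintype F] {s : ℕ}

/-! ### the symplectic form -/

theorem tM_symp (D : SzData F s) (a b : F) : (tM s a b)ᵀ * wM F * tM s a b = wM F := by
  ext i j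
  fin_cases i <;> fin_cases j <;> simp [tM, wM, Matrix.mul_apply, Fin.sum_univ_four] <;>
    first
      | ring1
      | linear_combination a * D.two
      | linear_combination a ^ s * D.two
      | linear_combination (b + a * a ^ s) * D.two
      | linear_combination (fz s a b + a * b) * D.two

omit [Fintype F] in
theorem hM_symp {c : F} (hc : c ≠ 0) : (hM s c)ᵀ * wM F * hM s c = wM F := by
  ext i j
  fin_cases i <;> fin_cases j <;> simp [hM, wM, Matrix.mul_apply, Fin.sum_univ_four] <;>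
    try field_simp

omit [Fintype F] in
theorem wM_symp : (wM F)ᵀ * wM F * wM F = wM F := by
  ext i j
  fin_cases i <;> fin_cases j <;> simp [wM, Matrix.mul_apply, Fin.sum_univ_four]

omit [Fintype F] in
theorem symp_mul {A B : Matrix (Fin 4) (Fin 4) F} (hA : Aᵀ * wM F * A = wM F)
    (hB : Bᵀ * wM F * B = wM F) : (A * B)ᵀ * wM F * (A * B) = wM F := by
  rw [Matrix.transpose_mul]
  calc Bᵀ * Aᵀ * wM F * (A * B) = Bᵀ * (Aᵀ * wM F * A) * B := by simp only [Matrix.mul_assoc]
    _ = wM F := by rw [hA, hB]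

/-- Every element of the Suzuki group preserves the antidiagonal alternating form. -/
theorem symp (D : SzData F s) {g : SL4 F} (hg : g ∈ SzG F s) :
    (g : Matrix (Fin 4) (Fin 4) F)ᵀ * wM F * (g : Matrix (Fin 4) (Fin 4) F) = wM F := by
  rcases SzG_cases D hg with ⟨a, b, c, rfl⟩ | ⟨a, b, a', b', c, rfl⟩
  · exact symp_mul (tM_symp D a b) (hM_symp c.ne_zero)
  · exact symp_mul (symp_mul (tM_symp D a b) wM_symp)
      (symp_mul (tM_symp D a' b') (hM_symp c.ne_zero))

/-! ### the translation subgroup -/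

theorem SzData.exists_ne (D : SzData F s) : ∃ c : F, c ≠ 0 ∧ c ≠ 1 := by
  classical
  by_contra h
  push Not at h
  have hsub : (Finset.univ : Finset F) ⊆ {0, 1} := by
    intro c _
    by_cases hc : c = 0
    · simp [hc]
    · simp [h c hc]
  have h1 := Finset.card_le_card hsub
  have h2 : ({0, 1} : Finset F).card ≤ 2 := Finset.card_le_two
  have h3 := D.card
  have h4 := D.four
  rw [Finset.card_univ] at h1
  omega

theorem SzData.exists_root (D : SzData F s) {r : F} (hr : r ≠ 0) : ∃ c : F, c ^ (s + 1) = r := by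
  obtain ⟨k, rfl⟩ : ∃ k, s = k + 1 := ⟨s - 1, by have := D.four; omega⟩
  refine ⟨r ^ k, ?_⟩
  have h1 : (r ^ k) ^ (k + 1 + 1) * r = r ^ 2 := by
    rw [← D.sq r, ← pow_mul, ← pow_mul, ← pow_succ]; congr 1; ring
  exact mul_right_cancel₀ hr (by rw [h1]; ring)

theorem SzData.pow_ne_self (D : SzData F s) {c : F} (hc0 : c ≠ 0) (hc1 : c ≠ 1) : c ^ s ≠ c := by
  intro h3
  have h4 : c ^ 2 = c := by rw [← D.sq, h3, h3]
  have h5 : c * (c - 1) = 0 := by linear_combination h4
  rcases mul_eq_zero.mp h5 with h6 | h6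
  · exact hc0 h6
  · exact hc1 (sub_eq_zero.mp h6)

/-- the subgroup of translations -/
def Usub (D : SzData F s) : Subgroup (SzG F s) where
  carrier := {g | ∃ a b : F, (g : SL4 F) = tS s a b}
  mul_mem' := by
    rintro g h ⟨a, b, hg⟩ ⟨c, d, hh⟩
    exact ⟨_, _, by rw [Subgroup.coe_mul, hg, hh, tS_mul D]⟩
  one_mem' := ⟨0, 0, by rw [Subgroup.coe_one, tS_zero D]⟩
  inv_mem' := by
    rintro g ⟨a, b, hg⟩
    exact ⟨_, _, by rw [Subgroup.coe_inv, hg, tS_inv D]⟩

/-- elements of the translation subgroup -/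
def tU (D : SzData F s) (a b : F) : Usub D := ⟨tG D a b, a, b, rfl⟩

theorem tU_mul (D : SzData F s) (a b c d : F) :
    tU D a b * tU D c d = tU D (a + c) (b + d + a ^ s * c) :=
  Subtype.ext (Subtype.ext (tS_mul D a b c d))

theorem tU_surj (D : SzData F s) (u : Usub D) : ∃ a b, u = tU D a b := by
  obtain ⟨g, a, b, h⟩ := u
  exact ⟨a, b, Subtype.ext (Subtype.ext h)⟩

theorem tS_inj (D : SzData F s) {a b a' b' : F} (h' : tS s a b = tS s a' b') :
    a = a' ∧ b = b' := by
  have h0 : Paff s a b = Paff s a' b' := by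
    have e1 := tS_aff D a b 0 0
    have e2 := tS_aff D a' b' 0 0
    rw [zero_add, zero_add, mul_zero, add_zero] at e1 e2
    rw [← e1, ← e2, h']
  exact Paff_inj h0

theorem tU_inj (D : SzData F s) {a b a' b' : F} (h : tU D a b = tU D a' b') :
    a = a' ∧ b = b' :=
  tS_inj D (congrArg (fun u : Usub D => ((u : SzG F s) : SL4 F)) h)

theorem tU_one (D : SzData F s) : tU D 0 0 = 1 := Subtype.ext (Subtype.ext (tS_zero D))

theorem card_U (D : SzData F s) : Nat.card (Usub D) = Fintype.card F ^ 2 := by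
  have hbij : Function.Bijective (fun t : F × F => tU D t.1 t.2) := by
    constructor
    · rintro ⟨a, b⟩ ⟨a', b'⟩ h
      obtain ⟨rfl, rfl⟩ := tU_inj D h
      rfl
    · intro u
      obtain ⟨a, b, rfl⟩ := tU_surj D u
      exact ⟨(a, b), rfl⟩
  rw [← Nat.card_congr (Equiv.ofBijective _ hbij), Nat.card_prod, Nat.card_eq_fintype_card, sq]

theorem tU_sq (D : SzData F s) (a b : F) : tU D a b * tU D a b = tU D 0 (a ^ (s + 1)) := by
  rw [tU_mul]
  have h1 : a + a = 0 := D.add_self a
  have h2 : b + b + a ^ s * a = a ^ (s + 1) := by rw [pow_succ]; linear_combination b * D.two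
  rw [h1, h2]

theorem tU_pow_four (D : SzData F s) (u : Usub D) : u ^ 4 = 1 := by
  obtain ⟨a, b, rfl⟩ := tU_surj D u
  have h : (tU D a b) ^ 4 = (tU D a b * tU D a b) * (tU D a b * tU D a b) := by
    have h' := pow_mul (tU D a b) 2 2
    rw [sq, sq] at h'
    exact h'
  rw [h, tU_sq, tU_mul]
  have h1 : (0 : F) + 0 = 0 := add_zero 0
  have h2 : a ^ (s + 1) + a ^ (s + 1) + (0 : F) ^ s * 0 = 0 := by
    rw [mul_zero, add_zero]; exact D.add_self _
  rw [h1, h2, tU_one]

theorem exponent_U (D : SzData F s) : Monoid.exponent (Usub D) = 4 := by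
  have hdvd : Monoid.exponent (Usub D) ∣ 4 :=
    Monoid.exponent_dvd_iff_forall_pow_eq_one.mpr (tU_pow_four D)
  have hnd : ¬ Monoid.exponent (Usub D) ∣ 2 := by
    intro h
    have h2 := Monoid.exponent_dvd_iff_forall_pow_eq_one.mp h (tU D 1 0)
    rw [sq, tU_sq, one_pow, ← tU_one D] at h2
    exact one_ne_zero (tU_inj D h2).2
  obtain ⟨k, hk, hk'⟩ := (Nat.dvd_prime_pow Nat.prime_two).mp
    (show Monoid.exponent (Usub D) ∣ 2 ^ 2 from hdvd)
  interval_cases k
  · exfalso; apply hnd; rw [hk']; norm_num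
  · exfalso; apply hnd; rw [hk']; norm_num
  · rw [hk']; norm_num

theorem mem_center_U (D : SzData F s) (u : Usub D) :
    u ∈ Subgroup.center (Usub D) ↔ ∃ t, u = tU D 0 t := by
  obtain ⟨a, b, rfl⟩ := tU_surj D u
  rw [Subgroup.mem_center_iff]
  constructor
  · intro h
    obtain ⟨c, hc0, hc1⟩ := D.exists_ne
    have e1 := h (tU D 1 0)
    rw [tU_mul, tU_mul] at e1
    have e1' := (tU_inj D e1).2
    have e2 := h (tU D c 0)
    rw [tU_mul, tU_mul] at e2
    have e2' := (tU_inj D e2).2
    rw [one_pow] at e1'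
    have ha1 : a ^ s = a := by linear_combination -e1'
    have ha : a = 0 := by
      by_contra ha
      have h3 : c ^ s = c := by
        have h3' : c ^ s * a = c * a := by rw [ha1] at e2'; linear_combination e2'
        exact mul_right_cancel₀ ha h3'
      exact D.pow_ne_self hc0 hc1 h3
    exact ⟨b, by rw [ha]⟩
  · rintro ⟨t, ht⟩ g
    obtain ⟨rfl, rfl⟩ := tU_inj D ht
    obtain ⟨c, d, rfl⟩ := tU_surj D g
    rw [tU_mul, tU_mul]
    have h1 : c + 0 = 0 + c := by ring
    have h2 : d + b + c ^ s * 0 = b + d + 0 ^ s * c := by rw [zero_pow D.s_ne]; ring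
    rw [h1, h2]

theorem tU_comm (D : SzData F s) (a b c d : F) :
    ⁅tU D a b, tU D c d⁆ = tU D 0 (a ^ s * c + c ^ s * a) := by
  have h : tU D a b * tU D c d = tU D 0 (a ^ s * c + c ^ s * a) * (tU D c d * tU D a b) := by
    rw [tU_mul, tU_mul, tU_mul]
    have h1 : a + c = 0 + (c + a) := by ring
    have h2 : b + d + a ^ s * c =
        a ^ s * c + c ^ s * a + (d + b + c ^ s * a) + 0 ^ s * (c + a) := by
      rw [zero_pow D.s_ne]; linear_combination (-(c ^ s * a)) * D.two
    rw [h1, h2]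
  rw [commutatorElement_def, h]; group

theorem commutator_U (D : SzData F s) : commutator (Usub D) = Subgroup.center (Usub D) := by
  apply le_antisymm
  · rw [commutator_def, Subgroup.commutator_le]
    intro g1 _ g2 _
    obtain ⟨a, b, rfl⟩ := tU_surj D g1
    obtain ⟨c, d, rfl⟩ := tU_surj D g2
    rw [tU_comm]
    exact (mem_center_U D _).mpr ⟨_, rfl⟩
  · intro u hu
    obtain ⟨t, rfl⟩ := (mem_center_U D u).mp hu
    by_cases ht : t = 0
    · rw [ht, tU_one]; exact one_mem _
    · obtain ⟨a₀, h0, h1⟩ := D.exists_ne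
      have hphi : a₀ ^ s + a₀ ≠ 0 := by
        intro h
        exact D.pow_ne_self h0 h1 (by linear_combination h - a₀ * D.two)
      obtain ⟨c₀, hc₀⟩ := D.exists_root (div_ne_zero ht hphi)
      have hcr : c₀ ^ (s + 1) * (a₀ ^ s + a₀) = t := by rw [hc₀]; field_simp
      have hcomm : tU D 0 t = ⁅tU D (a₀ * c₀) 0, tU D c₀ 0⁆ := by
        rw [tU_comm]
        congr 1
        rw [mul_pow]; linear_combination -hcr
      rw [hcomm, commutator_def]
      exact Subgroup.commutator_mem_commutator (Subgroup.mem_top _) (Subgroup.mem_top _)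

theorem card_center_U (D : SzData F s) :
    Nat.card (Subgroup.center (Usub D)) = Fintype.card F := by
  have hbij : Function.Bijective (fun t : F =>
      (⟨tU D 0 t, (mem_center_U D _).mpr ⟨t, rfl⟩⟩ : Subgroup.center (Usub D))) := by
    constructor
    · intro t t' h
      exact (tU_inj D (congrArg Subtype.val h)).2
    · rintro ⟨u, hu⟩
      obtain ⟨t, rfl⟩ := (mem_center_U D u).mp hu
      exact ⟨t, rfl⟩
  rw [← Nat.card_congr (Equiv.ofBijective _ hbij), Nat.card_eq_fintype_card (α := F)]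

/-! ### Sylow 2-subgroups -/

theorem sylow_equiv (D : SzData F s) {n : ℕ} (hn : Fintype.card F = 2 ^ n)
    (P : Sylow 2 (SzG F s)) : Nonempty (P ≃* Usub D) := by
  have : Fact (Nat.Prime 2) := ⟨Nat.prime_two⟩
  have hn1 : 1 ≤ n := by
    by_contra h
    have h0 : n = 0 := by omega
    have h1 := D.card
    rw [hn, h0] at h1
    omega
  have hUcard : Nat.card (Usub D) = 2 ^ (2 * n) := by
    rw [card_U D, hn, ← pow_mul, mul_comm]
  obtain ⟨S0, hS0⟩ := (IsPGroup.of_card hUcard).exists_le_sylow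
  obtain ⟨k, hk⟩ := IsPGroup.iff_card.mp S0.isPGroup'
  have hk1 : 2 * n ≤ k := by
    have h1 : Nat.card (Usub D) ≤ Nat.card (S0 : Subgroup (SzG F s)) :=
      Subgroup.card_le_of_le hS0
    rw [hUcard, hk] at h1
    exact (Nat.pow_le_pow_iff_right (by norm_num)).mp h1
  have hk2 : k ≤ 2 * n := by
    by_contra hlt
    have h1 : 2 ^ k ∣ Nat.card (SzG F s) := by
      rw [← hk]; exact Subgroup.card_subgroup_dvd_card _
    have h2 : 2 ^ (2 * n + 1) ∣ Nat.card (SzG F s) := (pow_dvd_pow 2 (by omega)).trans h1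
    rw [card_SzG D, hn] at h2
    have h3 : (2 ^ n) ^ 2 * ((2 ^ n) ^ 2 + 1) * (2 ^ n - 1) =
        2 ^ (2 * n) * (((2 ^ n) ^ 2 + 1) * (2 ^ n - 1)) := by ring
    rw [h3, pow_succ] at h2
    have h4 : 2 ∣ ((2 ^ n) ^ 2 + 1) * (2 ^ n - 1) :=
      (Nat.mul_dvd_mul_iff_left (by positivity)).mp h2
    have h5 : 2 ∣ 2 ^ n := dvd_pow_self 2 (by omega)
    have h6 : 2 ∣ (2 ^ n) ^ 2 := Dvd.dvd.pow h5 (by norm_num)
    have h7 : 2 ≤ 2 ^ n := Nat.le_self_pow (by omega) 2
    rcases (Nat.Prime.dvd_mul Nat.prime_two).mp h4 with h | h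
    · generalize (2 ^ n) ^ 2 = u at h h6
      omega
    · generalize 2 ^ n = t at h h5 h7
      omega
  have hk3 : k = 2 * n := le_antisymm hk2 hk1
  have hQS : Usub D = (S0 : Subgroup (SzG F s)) :=
    Subgroup.eq_of_le_of_card_ge hS0 (by rw [hUcard, hk, hk3])
  obtain ⟨g, hg⟩ := MulAction.exists_smul_eq (SzG F s) S0 P
  subst hg
  exact ⟨(Sylow.equivSMul S0 g).symm.trans (MulEquiv.subgroupCongr hQS.symm)⟩

theorem mem_center_equiv {A B : Type*} [Group A] [Group B] (e : A ≃* B) (x : A) :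
    x ∈ Subgroup.center A ↔ e x ∈ Subgroup.center B := by
  simp only [Subgroup.mem_center_iff]
  constructor
  · intro hx g
    have h := congrArg e (hx (e.symm g))
    simpa using h
  · intro hx g
    apply e.injective
    have h := hx (e g)
    simpa using h

theorem mem_commutator_equiv {A B : Type*} [Group A] [Group B] (e : A ≃* B) (x : A) :
    x ∈ commutator A ↔ e x ∈ commutator B := by
  have hmap : (commutator A).map e.toMonoidHom = commutator B := by
    rw [commutator_def, Subgroup.map_commutator,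
      Subgroup.map_top_of_surjective e.toMonoidHom e.surjective, ← commutator_def]
  rw [← hmap]
  exact (Subgroup.mem_map_iff_mem e.injective).symm

/-- Structure of the Sylow 2-subgroups of the Suzuki group. -/
theorem sylow_props (D : SzData F s) {n : ℕ} (hn : Fintype.card F = 2 ^ n)
    (P : Sylow 2 (SzG F s)) :
    Nat.card P = Fintype.card F ^ 2 ∧ Monoid.exponent P = 4 ∧
      Subgroup.center P = commutator P ∧ Nat.card (Subgroup.center P) = Fintype.card F := by
  obtain ⟨e⟩ := sylow_equiv D hn P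
  refine ⟨?_, ?_, ?_, ?_⟩
  · rw [Nat.card_congr e.toEquiv, card_U D]
  · rw [Monoid.exponent_eq_of_mulEquiv e, exponent_U D]
  · ext x
    rw [mem_center_equiv e, mem_commutator_equiv e, commutator_U D]
  · rw [Nat.card_congr (e.toEquiv.subtypeEquiv (mem_center_equiv e)), card_center_U D]

end Cfsg.Agent.Helper6.Sz
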