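import Mathlib
import Cfsg.Agent.Helper6.SzSyl

set_option autoImplicit false

/-!
Simplicity of the Suzuki group `Sz(q)` (stabiliser of the Suzuki–Tits ovoid in `SL₄`) and its action
on the ovoid as a Zassenhaus group.
-/

namespace Cfsg.Agent.Helper6.Sz

open Matrix
open scoped Pointwise
open scoped commutatorElement

variable {F : Type*} [Field F] [Fintype F] {s : ℕ}

theorem eq_one_of_fix (D : SzData F s) {g : SL4 F} (hg : g ∈ SzG F s) (h1 : g • Pinf F = Pinf F)
    (h2 : g • P0 F = P0 F) {x y : F} (hxy : ¬ (x = 0 ∧ y = 0))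
    (h3 : g • Paff s x y = Paff s x y) : g = 1 := by
  obtain ⟨c, rfl⟩ := stab_two D hg h1 h2
  rw [hS_fix_aff D c hxy h3, hS_one]

theorem eq_one_of_fix_three (D : SzData F s) {g : SL4 F} (hg : g ∈ SzG F s)
    {a b c : Projectivization F (Fin 4 → F)} (ha : a ∈ ov F s) (hb : b ∈ ov F s)
    (hc : c ∈ ov F s) (hab : a ≠ b) (hbc : b ≠ c) (hac : a ≠ c)
    (h1 : g • a = a) (h2 : g • b = b) (h3 : g • c = c) : g = 1 := by
  obtain ⟨k, hk, hka, hkb⟩ := exists_to_pair D ha hb hab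
  have hkc := smul_mem_ov hk hc
  rcases mem_ov.mp hkc with hinf | ⟨x, y, hxy⟩
  · exfalso
    exact hac (MulAction.injective k (show k • a = k • c by rw [hka, hinf]))
  · have hne : ¬ (x = 0 ∧ y = 0) := by
      rintro ⟨rfl, rfl⟩
      rw [Paff_zero D] at hxy
      exact hbc (MulAction.injective k (show k • b = k • c by rw [hkb, hxy]))
    have hconj : k * g * k⁻¹ = 1 := by
      refine eq_one_of_fix D (mul_mem (mul_mem hk hg) (inv_mem hk)) ?_ ?_ hne ?_
      · rw [← hka, mul_smul, mul_smul, inv_smul_smul, h1]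
      · rw [← hkb, mul_smul, mul_smul, inv_smul_smul, h2]
      · rw [← hxy, mul_smul, mul_smul, inv_smul_smul, h3]
    have h : g = k⁻¹ * (k * g * k⁻¹) * k := by group
    rw [h, hconj]; group

theorem two_trans (D : SzData F s) {a b c d : Projectivization F (Fin 4 → F)} (ha : a ∈ ov F s)
    (hb : b ∈ ov F s) (hc : c ∈ ov F s) (hd : d ∈ ov F s) (hab : a ≠ b) (hcd : c ≠ d) :
    ∃ g ∈ SzG F s, g • a = c ∧ g • b = d := by
  obtain ⟨g1, hg1, h1a, h1b⟩ := exists_to_pair D ha hb hab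
  obtain ⟨g2, hg2, h2c, h2d⟩ := exists_to_pair D hc hd hcd
  refine ⟨g2⁻¹ * g1, mul_mem (inv_mem hg2) hg1, ?_, ?_⟩
  · rw [mul_smul, h1a, inv_smul_eq_iff, h2c]
  · rw [mul_smul, h1b, inv_smul_eq_iff, h2d]

/-- A nontrivial normal subgroup is transitive on the ovoid. -/
theorem normal_trans (D : SzData F s) (N : Subgroup (SzG F s)) [hN : N.Normal] (hN1 : N ≠ ⊥)
    {p q : Projectivization F (Fin 4 → F)} (hp : p ∈ ov F s) (hq : q ∈ ov F s) (hpq : p ≠ q) :
    ∃ n ∈ N, (n : SL4 F) • p = q := by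
  obtain ⟨n, hn, hn1⟩ : ∃ n ∈ N, n ≠ 1 := by
    by_contra h
    push Not at h
    exact hN1 ((Subgroup.eq_bot_iff_forall N).mpr h)
  obtain ⟨a, ha, hna⟩ : ∃ a ∈ ov F s, (n : SL4 F) • a ≠ a := by
    by_contra h
    push Not at h
    have h1 : (n : SL4 F) • Pinf F = Pinf F := h _ inf_mem
    have h2 : (n : SL4 F) • P0 F = P0 F := h _ (zero_mem D)
    have h3 : (n : SL4 F) • Paff s (1 : F) 0 = Paff s 1 0 := h _ (aff_mem 1 0)
    have hne : ¬ ((1 : F) = 0 ∧ (0 : F) = 0) := by simp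
    exact hn1 (Subtype.ext (eq_one_of_fix D n.2 h1 h2 hne h3))
  have hb := smul_mem_ov n.2 ha
  obtain ⟨g, hg, hga, hgb⟩ := two_trans D ha hb hp hq (Ne.symm hna) hpq
  have hconj : (⟨g, hg⟩ : SzG F s) * n * (⟨g, hg⟩ : SzG F s)⁻¹ ∈ N := hN.conj_mem n hn ⟨g, hg⟩
  refine ⟨_, hconj, ?_⟩
  have hcoe : (((⟨g, hg⟩ : SzG F s) * n * (⟨g, hg⟩ : SzG F s)⁻¹ : SzG F s) : SL4 F) =
      g * (n : SL4 F) * g⁻¹ := rfl
  rw [hcoe, ← hga, mul_smul, mul_smul, inv_smul_smul, hgb]

/-! ### perfectness -/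

theorem hG_mem_comm (D : SzData F s) (c : Fˣ) : hG D c ∈ commutator (SzG F s) := by
  obtain ⟨x, hx⟩ := D.sqrt (c : F)
  have hx0 : x ≠ 0 := by
    rintro rfl
    rw [zero_pow (by norm_num)] at hx
    exact c.ne_zero hx.symm
  have hd : c = Units.mk0 x hx0 * Units.mk0 x hx0 :=
    Units.ext (by rw [Units.val_mul, Units.val_mk0, ← sq, hx])
  have h1 : (wG D)⁻¹ = wG D := Subtype.ext (wS_inv D)
  have h2 : wG D * hG D (Units.mk0 x hx0)⁻¹ * wG D = hG D (Units.mk0 x hx0) := by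
    have h := wS_hS D (Units.mk0 x hx0)⁻¹
    rw [inv_inv] at h
    exact Subtype.ext h
  have hcomm : ⁅wG D, hG D (Units.mk0 x hx0)⁻¹⁆ = hG D (Units.mk0 x hx0 * Units.mk0 x hx0) := by
    rw [commutatorElement_def, h1, h2, map_mul, map_inv, inv_inv]
  rw [hd, ← hcomm, commutator_def]
  exact Subgroup.commutator_mem_commutator (Subgroup.mem_top _) (Subgroup.mem_top _)

theorem tG_zero_mem_comm (D : SzData F s) (t : F) : tG D 0 t ∈ commutator (SzG F s) := by
  have h : tU D 0 t ∈ commutator (Usub D) := by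
    rw [commutator_U D]; exact (mem_center_U D _).mpr ⟨t, rfl⟩
  have h2 : (commutator (Usub D)).map (Usub D).subtype ≤ commutator (SzG F s) := by
    rw [Subgroup.map_subtype_commutator, commutator_def]
    exact Subgroup.commutator_mono le_top le_top
  exact h2 (Subgroup.mem_map_of_mem _ h)

theorem tG_mem_comm (D : SzData F s) (a b : F) : tG D a b ∈ commutator (SzG F s) := by
  obtain ⟨c₀, hc0, hc1⟩ := D.exists_ne
  have hc2 : c₀ ^ 2 + 1 ≠ 0 := by
    intro h
    exact hc1 (D.one_of_sq (by linear_combination h - D.two))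
  obtain ⟨c, hc⟩ : ∃ c : Fˣ, (c : F) = c₀ := ⟨Units.mk0 c₀ hc0, rfl⟩
  obtain ⟨a₁, ha₁⟩ : ∃ a₁ : F, a₁ = a / (c₀ ^ 2 + 1) := ⟨_, rfl⟩
  have h1 : hG D c * tG D a₁ 0 * (hG D c)⁻¹ = tG D (c₀ ^ 2 * a₁) (c₀ ^ (2 * s + 2) * 0) := by
    have h := hS_tS D c a₁ 0
    rw [hc] at h
    have h' : hG D c * tG D a₁ 0 = tG D (c₀ ^ 2 * a₁) (c₀ ^ (2 * s + 2) * 0) * hG D c :=
      Subtype.ext h
    rw [h']; group
  have h2 : ⁅hG D c, tG D a₁ 0⁆ =
      tG D (c₀ ^ 2 * a₁) (c₀ ^ (2 * s + 2) * 0) * (tG D a₁ 0)⁻¹ := by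
    rw [commutatorElement_def, h1]
  have h3 : ∃ b', ⁅hG D c, tG D a₁ 0⁆ = tG D a b' := by
    refine ⟨c₀ ^ (2 * s + 2) * 0 + (0 + a₁ ^ (s + 1)) + (c₀ ^ 2 * a₁) ^ s * a₁, ?_⟩
    rw [h2]
    apply Subtype.ext
    show tS s (c₀ ^ 2 * a₁) (c₀ ^ (2 * s + 2) * 0) * (tS s a₁ 0)⁻¹ = tS s a _
    rw [tS_inv D, tS_mul D]
    have h : c₀ ^ 2 * a₁ + a₁ = a := by rw [ha₁]; field_simp
    rw [h]
  obtain ⟨b', hb'⟩ := h3
  have h4 : tG D a b' ∈ commutator (SzG F s) := by
    rw [← hb', commutator_def]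
    exact Subgroup.commutator_mem_commutator (Subgroup.mem_top _) (Subgroup.mem_top _)
  have h5 : tG D a b = tG D a b' * tG D 0 (b + b') := by
    apply Subtype.ext
    show tS s a b = tS s a b' * tS s 0 (b + b')
    rw [tS_mul D]
    have e1 : a + 0 = a := add_zero a
    have e2 : b' + (b + b') + a ^ s * 0 = b := by linear_combination b' * D.two
    rw [e1, e2]
  rw [h5]
  exact mul_mem h4 (tG_zero_mem_comm D _)

/-- The Suzuki group is perfect. -/
theorem perfect (D : SzData F s) : commutator (SzG F s) = ⊤ := by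
  have hB : ∀ (a b : F) (c : Fˣ), tG D a b * hG D c ∈ commutator (SzG F s) :=
    fun a b c => mul_mem (tG_mem_comm D a b) (hG_mem_comm D c)
  have hw : wG D ∈ commutator (SzG F s) := by
    have hne : ¬ ((0 : F) = 0 ∧ (1 : F) = 0) := by simp
    have hk : wG D * tG D 0 1 * (wG D)⁻¹ ∈ commutator (SzG F s) :=
      (inferInstance : (commutator (SzG F s)).Normal).conj_mem _ (tG_mem_comm D 0 1) _
    have hk' : (tG D (1 / fz s (0 : F) 1) (0 / fz s (0 : F) 1))⁻¹ * (wG D * tG D 0 1 * (wG D)⁻¹) ∈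
        commutator (SzG F s) := mul_mem (inv_mem (tG_mem_comm D _ _)) hk
    have hfix : (wG D)⁻¹ * ((tG D (1 / fz s (0 : F) 1) (0 / fz s (0 : F) 1))⁻¹ *
        (wG D * tG D 0 1 * (wG D)⁻¹)) ∈ MulAction.stabilizer (SzG F s) (Pinf F) := by
      show ((wS D)⁻¹ * ((tS s (1 / fz s (0 : F) 1) (0 / fz s (0 : F) 1))⁻¹ *
        (wS D * tS s (0 : F) 1 * (wS D)⁻¹))) • Pinf F = Pinf F
      have e1 : wS D • Pinf F = P0 F := wS_inf D
      have e2 : tS s (0 : F) 1 • P0 F = Paff s (0 : F) 1 := by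
        rw [← Paff_zero D, tS_aff D, zero_add, zero_add, mul_zero, add_zero]
      have e3 : wS D • Paff s (0 : F) 1 = Paff s (1 / fz s (0 : F) 1) (0 / fz s (0 : F) 1) := wS_aff D hne
      have e4 : (tS s (1 / fz s (0 : F) 1) (0 / fz s (0 : F) 1))⁻¹ • Paff s (1 / fz s (0 : F) 1) (0 / fz s (0 : F) 1) =
          P0 F := by
        rw [inv_smul_eq_iff, ← Paff_zero D, tS_aff D, zero_add, zero_add, mul_zero, add_zero]
      have e5 : wS D • P0 F = Pinf F := wS_zero D
      rw [wS_inv D, mul_smul, mul_smul, mul_smul, mul_smul, e1, e2, e3, e4, e5]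
    obtain ⟨a, b, c, h⟩ := (mem_stab_inf D _).mp hfix
    have he : (wG D)⁻¹ * ((tG D (1 / fz s (0 : F) 1) (0 / fz s (0 : F) 1))⁻¹ *
        (wG D * tG D 0 1 * (wG D)⁻¹)) = tG D a b * hG D c := Subtype.ext h
    have hw' : wG D = ((tG D (1 / fz s (0 : F) 1) (0 / fz s (0 : F) 1))⁻¹ * (wG D * tG D 0 1 * (wG D)⁻¹)) *
        (tG D a b * hG D c)⁻¹ := by rw [← he]; group
    rw [hw']
    exact mul_mem hk' (inv_mem (hB a b c))
  rw [eq_top_iff]
  intro g _
  rcases SzG_cases D g.2 with ⟨a, b, c, h⟩ | ⟨a, b, a', b', c, h⟩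
  · have hg : g = tG D a b * hG D c := Subtype.ext h
    rw [hg]; exact hB a b c
  · have hg : g = tG D a b * wG D * (tG D a' b' * hG D c) := Subtype.ext h
    rw [hg]; exact mul_mem (mul_mem (tG_mem_comm D a b) hw) (hB a' b' c)

/-! ### the point stabiliser is solvable -/

theorem exists_torus (D : SzData F s) (g : MulAction.stabilizer (SzG F s) (Pinf F)) :
    ∃ c : Fˣ, ∃ a b : F, ((g : SzG F s) : SL4 F) = tS s a b * hS s c := by
  obtain ⟨a, b, c, h⟩ := (mem_stab_inf D g.1).mp g.2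
  exact ⟨c, a, b, h⟩

theorem torus_spec (D : SzData F s) (g : MulAction.stabilizer (SzG F s) (Pinf F)) (c : Fˣ)
    (a b : F) (h : ((g : SzG F s) : SL4 F) = tS s a b * hS s c) :
    Classical.choose (exists_torus D g) = c := by
  obtain ⟨a', b', h'⟩ := Classical.choose_spec (exists_torus D g)
  exact (tS_hS_inj D (h'.symm.trans h)).2.2

theorem tS_hS_mul (D : SzData F s) (a b a' b' : F) (c c' : Fˣ) :
    ∃ a'' b'' : F, tS s a b * hS s c * (tS s a' b' * hS s c') = tS s a'' b'' * hS s (c * c') := by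
  refine ⟨a + (c : F) ^ 2 * a', b + (c : F) ^ (2 * s + 2) * b' + a ^ s * ((c : F) ^ 2 * a'), ?_⟩
  have h := hS_tS D c a' b'
  calc tS s a b * hS s c * (tS s a' b' * hS s c')
      = tS s a b * (hS s c * tS s a' b') * hS s c' := by group
    _ = tS s a b * (tS s ((c : F) ^ 2 * a') ((c : F) ^ (2 * s + 2) * b') * hS s c) * hS s c' := by
        rw [h]
    _ = (tS s a b * tS s ((c : F) ^ 2 * a') ((c : F) ^ (2 * s + 2) * b')) *
          (hS s c * hS s c') := by group
    _ = _ := by rw [tS_mul D, ← hS_mul]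

/-- the torus part of an element of the stabiliser of `∞` -/
noncomputable def torusPart (D : SzData F s) :
    MulAction.stabilizer (SzG F s) (Pinf F) →* Fˣ where
  toFun g := Classical.choose (exists_torus D g)
  map_one' := torus_spec D 1 1 0 0 (by rw [tS_zero D, hS_one, mul_one]; rfl)
  map_mul' g g' := by
    obtain ⟨a, b, h⟩ := Classical.choose_spec (exists_torus D g)
    obtain ⟨a', b', h'⟩ := Classical.choose_spec (exists_torus D g')
    obtain ⟨a'', b'', h''⟩ := tS_hS_mul D a b a' b' (Classical.choose (exists_torus D g))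
      (Classical.choose (exists_torus D g'))
    exact torus_spec D (g * g') _ a'' b'' (by rw [← h'', ← h, ← h']; rfl)

theorem ker_torus_pow (D : SzData F s) (g : (torusPart D).ker) : g ^ 4 = 1 := by
  obtain ⟨a, b, h⟩ := Classical.choose_spec (exists_torus D g.1)
  have hg : Classical.choose (exists_torus D g.1) = 1 := MonoidHom.mem_ker.mp g.2
  rw [hg, hS_one, mul_one] at h
  apply Subtype.ext
  apply Subtype.ext
  apply Subtype.ext
  show (((g : MulAction.stabilizer (SzG F s) (Pinf F)) : SzG F s) : SL4 F) ^ 4 = 1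
  rw [h]
  exact congrArg (fun u : Usub D => ((u : SzG F s) : SL4 F)) (tU_pow_four D (tU D a b))

theorem stab_solvable (D : SzData F s) :
    Group.IsSolvable (MulAction.stabilizer (SzG F s) (Pinf F)) := by
  have : Fact (Nat.Prime 2) := ⟨Nat.prime_two⟩
  have hp : IsPGroup 2 (torusPart D).ker := fun g => ⟨2, ker_torus_pow D g⟩
  have : Group.IsNilpotent (torusPart D).ker := hp.isNilpotent
  exact Group.isSolvable_of_ker_le_range ((torusPart D).ker.subtype) (torusPart D)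
    (by rw [Subgroup.range_subtype])

/-! ### simplicity -/

/-- The Suzuki group is simple. -/
theorem simple (D : SzData F s) : IsSimpleGroup (SzG F s) := by
  have hnt : Nontrivial (SzG F s) := ⟨⟨wG D, 1, fun h => P0_ne_inf (by
    have h' : wS D = 1 := congrArg Subtype.val h
    rw [← wS_inf D, h', one_smul])⟩⟩
  refine ⟨fun N hN => ?_⟩
  by_cases hN1 : N = ⊥
  · exact Or.inl hN1
  · right
    have hNB : ∀ g : SzG F s, ∃ n ∈ N, n⁻¹ * g ∈ MulAction.stabilizer (SzG F s) (Pinf F) := by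
      intro g
      by_cases hg : (g : SL4 F) • Pinf F = Pinf F
      · exact ⟨1, one_mem _, by rw [inv_one, one_mul]; exact hg⟩
      · obtain ⟨n, hn, hnp⟩ := normal_trans D N hN1 inf_mem (smul_mem_ov g.2 inf_mem)
          (Ne.symm hg)
        refine ⟨n, hn, ?_⟩
        show ((n : SL4 F)⁻¹ * (g : SL4 F)) • Pinf F = Pinf F
        rw [mul_smul, ← hnp, inv_smul_smul]
    have hsolv := stab_solvable D
    have hφ : Function.Surjective ((QuotientGroup.mk' N).comp
        (MulAction.stabilizer (SzG F s) (Pinf F)).subtype) := by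
      intro x
      obtain ⟨g, rfl⟩ := QuotientGroup.mk'_surjective N x
      obtain ⟨n, hn, hb⟩ := hNB g
      refine ⟨⟨n⁻¹ * g, hb⟩, ?_⟩
      show QuotientGroup.mk' N (n⁻¹ * g) = QuotientGroup.mk' N g
      rw [map_mul, map_inv, show QuotientGroup.mk' N n = 1 from (QuotientGroup.eq_one_iff n).mpr hn,
        inv_one, one_mul]
    have hsq : Group.IsSolvable (SzG F s ⧸ N) := Group.isSolvable_of_surjective hφ
    have hperf : commutator (SzG F s ⧸ N) = ⊤ := by
      have h1 : (commutator (SzG F s)).map (QuotientGroup.mk' N) = commutator (SzG F s ⧸ N) := by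
        rw [commutator_def, Subgroup.map_commutator,
          Subgroup.map_top_of_surjective _ (QuotientGroup.mk'_surjective N), ← commutator_def]
      rw [← h1, perfect D, Subgroup.map_top_of_surjective _ (QuotientGroup.mk'_surjective N)]
    have hsub : Subsingleton (SzG F s ⧸ N) := by
      rw [← not_nontrivial_iff_subsingleton]
      intro hnt'
      exact (Group.IsSolvable.commutator_lt_top_of_nontrivial (SzG F s ⧸ N)).ne hperf
    rw [eq_top_iff]
    intro g _
    exact (QuotientGroup.eq_one_iff g).mp (Subsingleton.elim _ _)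

/-! ### Zassenhaus group -/

/-- The Suzuki group acts on the ovoid as a Zassenhaus group. -/
theorem zassenhaus (D : SzData F s) :
    Cfsg.IsZassenhausGroup (MulAction.stabilizer (SL4 F) (ov F s)) (ov F s) := by
  have hsimple : IsSimpleGroup (MulAction.stabilizer (SL4 F) (ov F s)) := simple D
  obtain ⟨c₀, hc0, hc1⟩ := D.exists_ne
  have hcu : Units.mk0 c₀ hc0 ≠ 1 := fun h => hc1 (by simpa using congrArg Units.val h)
  have hh1 : hG D (Units.mk0 c₀ hc0) ≠ 1 := by
    intro h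
    have h' : hS s (Units.mk0 c₀ hc0) = hS s 1 := by rw [hS_one]; exact congrArg Subtype.val h
    exact hcu (tS_hS_inj D (a := 0) (b := 0) (a' := 0) (b' := 0) (by rw [h'])).2.2
  refine ⟨⟨?_⟩, ?_, ?_, ?_, ?_⟩
  · intro g g' h
    have hfix : ∀ p ∈ ov F s, ((g' : SL4 F)⁻¹ * (g : SL4 F)) • p = p := by
      intro p hp
      have h1 : (g : SL4 F) • p = (g' : SL4 F) • p := congrArg Subtype.val (h ⟨p, hp⟩)
      rw [mul_smul, inv_smul_eq_iff]; exact h1
    have hne : ¬ ((1 : F) = 0 ∧ (0 : F) = 0) := by simp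
    have h1 : (g' : SL4 F)⁻¹ * (g : SL4 F) = 1 :=
      eq_one_of_fix D (mul_mem (inv_mem g'.2) g.2) (hfix _ inf_mem) (hfix _ (zero_mem D))
        hne (hfix _ (aff_mem 1 0))
    exact Subtype.ext (inv_mul_eq_one.mp h1).symm
  · rw [MulAction.is_two_pretransitive_iff]
    intro a b c d hab hcd
    obtain ⟨g, hg, h1, h2⟩ := two_trans D a.2 b.2 c.2 d.2 (fun h => hab (Subtype.ext h))
      (fun h => hcd (Subtype.ext h))
    exact ⟨⟨g, hg⟩, Subtype.ext h1, Subtype.ext h2⟩
  · intro g a b c hab hbc hac h1 h2 h3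
    apply Subtype.ext
    exact eq_one_of_fix_three D g.2 a.2 b.2 c.2 (fun h => hab (Subtype.ext h))
      (fun h => hbc (Subtype.ext h)) (fun h => hac (Subtype.ext h)) (congrArg Subtype.val h1)
      (congrArg Subtype.val h2) (congrArg Subtype.val h3)
  · refine ⟨hG D (Units.mk0 c₀ hc0), hh1, ⟨Pinf F, inf_mem⟩, ⟨P0 F, zero_mem D⟩, ?_, ?_, ?_⟩
    · intro h
      exact P0_ne_inf (congrArg Subtype.val h).symm
    · exact Subtype.ext (hS_inf _)
    · exact Subtype.ext (by
        show hS s (Units.mk0 c₀ hc0) • P0 F = P0 F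
        rw [← Paff_zero D, hS_aff D, mul_zero, mul_zero])
  · intro N hN htr
    have hNne : N ≠ ⊥ := by
      rintro rfl
      obtain ⟨n, hn⟩ := htr.exists_smul_eq (⟨Pinf F, inf_mem⟩ : ov F s) ⟨P0 F, zero_mem D⟩
      have hn1 : n = 1 := Subsingleton.elim _ _
      rw [hn1, one_smul] at hn
      exact P0_ne_inf (congrArg Subtype.val hn).symm
    have hNtop : N = ⊤ := (hsimple.eq_bot_or_eq_top_of_normal N hN).resolve_left hNne
    subst hNtop
    refine ⟨⟨Pinf F, inf_mem⟩, ?_⟩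
    intro hbot
    have hmem : (⟨hG D (Units.mk0 c₀ hc0), Subgroup.mem_top _⟩ :
        (⊤ : Subgroup (MulAction.stabilizer (SL4 F) (ov F s)))) ∈
        MulAction.stabilizer (⊤ : Subgroup (MulAction.stabilizer (SL4 F) (ov F s)))
          (⟨Pinf F, inf_mem⟩ : ov F s) := by
      rw [MulAction.mem_stabilizer_iff]
      exact Subtype.ext (hS_inf _)
    rw [hbot, Subgroup.mem_bot] at hmem
    exact hh1 (congrArg Subtype.val hmem)

end Cfsg.Agent.Helper6.Sz
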