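import Mathlib
import Cfsg.Agent.Helper6.SzSimple

set_option autoImplicit false

/-!
Centralisers in the Suzuki group `Sz(q)` (stabiliser of the Suzuki–Tits ovoid in `SL₄`): elements of odd
prime order either fix two points of the ovoid (and are conjugate into the torus) or act irreducibly on
`F⁴` (and have a field as commutant); the group is a CN-group with cyclic Sylow subgroups for odd primes.
-/

namespace Cfsg.Agent.Helper6.Sz

open Matrix
open scoped Pointwise

variable {F : Type*} [Field F] [Fintype F] {s : ℕ}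

/-! ### counting fixed points -/

theorem card_fixed_modEq {α : Type*} [Finite α] {p n : ℕ} [Fact p.Prime] (f : Function.End α)
    (hf : f ^ p ^ n = 1) : Nat.card α ≡ Nat.card (Function.fixedPoints f) [MOD p] := by
  classical
  haveI := Fintype.ofFinite α
  have h := Equiv.Perm.card_fixedPoints_modEq (f := f) hf
  rwa [← Nat.card_eq_fintype_card, ← Nat.card_eq_fintype_card] at h

theorem SzData.two_dvd_card (D : SzData F s) : 2 ∣ Fintype.card F := by
  haveI : CharP F 2 := CharTwo.of_one_ne_zero_of_two_eq_zero one_ne_zero D.two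
  exact (CharP.cast_eq_zero_iff F 2 _).mp (FiniteField.cast_card_eq_zero F)

theorem SzData.not_two_dvd (D : SzData F s) : ¬ 2 ∣ Fintype.card F ^ 2 + 1 := by
  intro h
  have h2 : 2 ∣ Fintype.card F ^ 2 := Dvd.dvd.pow D.two_dvd_card two_ne_zero
  have h3 : 2 ∣ 1 := (Nat.dvd_add_right h2).mp h
  omega

theorem SzData.unit_two_pow (D : SzData F s) : ∀ (n : ℕ) (c : Fˣ), c ^ 2 ^ n = 1 → c = 1
  | 0, c, h => by simpa using h
  | n + 1, c, h => by
      have h1 : (c ^ 2) ^ 2 ^ n = 1 := by rw [← pow_mul, ← pow_succ']; exact h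
      have h2 := SzData.unit_two_pow D n (c ^ 2) h1
      have h3 : (c : F) ^ 2 = 1 := by rw [← Units.val_pow_eq_pow_val, h2, Units.val_one]
      exact Units.ext (D.one_of_sq h3)

/-- An element of `p`-power order, `p` not dividing `q² + 1`, fixes a point of the ovoid. -/
theorem exists_fix_of_pow {p n : ℕ} [Fact p.Prime] (hp : ¬ p ∣ Fintype.card F ^ 2 + 1)
    {x : SL4 F} (hx : x ∈ SzG F s) (hxp : x ^ p ^ n = 1) : ∃ a ∈ ov F s, x • a = a := by
  classical
  let f : Function.End (ov F s) := fun a =>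
    ⟨x • (a : Projectivization F (Fin 4 → F)), smul_mem_ov hx a.2⟩
  have hpow : ∀ k : ℕ, ∀ a : ov F s,
      (((f ^ k) a : ov F s) : Projectivization F (Fin 4 → F)) =
        x ^ k • (a : Projectivization F (Fin 4 → F)) := by
    intro k
    induction k with
    | zero => intro a; rw [pow_zero, pow_zero, one_smul]; rfl
    | succ k ih => intro a; rw [pow_succ, pow_succ, mul_smul]; exact ih (f a)
  have hf : f ^ p ^ n = 1 := by
    funext a
    apply Subtype.ext
    rw [hpow, hxp, one_smul]; rfl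
  have h := card_fixed_modEq f hf
  rw [card_ov] at h
  have hne : Nat.card (Function.fixedPoints f) ≠ 0 := by
    intro h0
    rw [h0] at h
    exact hp ((Nat.modEq_zero_iff_dvd).mp h)
  obtain ⟨⟨a, ha⟩⟩ : Nonempty (Function.fixedPoints f) := by
    by_contra hemp
    rw [not_nonempty_iff] at hemp
    exact hne Nat.card_of_isEmpty
  exact ⟨a.1, a.2, congrArg Subtype.val ha⟩

/-! ### arithmetic -/

theorem arith {p q : ℕ} [hp : Fact p.Prime] (hp2 : p ≠ 2) (hdvd : p ∣ q ^ 2 + 1) {j k : ℕ}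
    (hjk : j < k) (hk : k ≤ 4) (h : q ^ k ≡ q ^ j [MOD p]) : j = 0 ∧ k = 4 := by
  have hQ : ((q : ZMod p)) ^ 2 + 1 = 0 := by
    have h1 := (ZMod.natCast_eq_zero_iff (q ^ 2 + 1) p).mpr hdvd
    push_cast at h1
    exact h1
  have h2 : (2 : ZMod p) ≠ 0 := by
    intro h2
    have h2' : ((2 : ℕ) : ZMod p) = 0 := by exact_mod_cast h2
    rw [ZMod.natCast_eq_zero_iff] at h2'
    exact hp2 ((Nat.prime_dvd_prime_iff_eq hp.out Nat.prime_two).mp h2')
  have hQ0 : (q : ZMod p) ≠ 0 := by
    intro h0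
    rw [h0] at hQ
    simp at hQ
  have hpow : (q : ZMod p) ^ k = (q : ZMod p) ^ j := by
    have h1 := (ZMod.natCast_eq_natCast_iff (q ^ k) (q ^ j) p).mpr h
    push_cast at h1
    exact h1
  have hd : (q : ZMod p) ^ (k - j) = 1 := by
    have h1 : (q : ZMod p) ^ j * (q : ZMod p) ^ (k - j) = (q : ZMod p) ^ j * 1 := by
      rw [← pow_add, Nat.add_sub_cancel' hjk.le, mul_one, hpow]
    exact mul_left_cancel₀ (pow_ne_zero j hQ0) h1
  obtain ⟨d, hd'⟩ : ∃ d, d = k - j := ⟨_, rfl⟩
  rw [← hd'] at hd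
  have hd4 : d = 4 := by
    have hd1 : 1 ≤ d := by omega
    have hd2 : d ≤ 4 := by omega
    interval_cases d
    · exact absurd (by linear_combination hQ - ((q : ZMod p) + 1) * hd) h2
    · exact absurd (by linear_combination hQ - hd) h2
    · exact absurd (by linear_combination hQ - ((q : ZMod p) - 1) * ((q : ZMod p) * hQ - hd)) h2
    · rfl
  omega

/-! ### irreducible elements -/

omit [Fintype F] in
theorem eq_one_of_mulVec {M : Matrix (Fin 4) (Fin 4) F} (h : ∀ v, M *ᵥ v = v) : M = 1 := by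
  apply Matrix.toLin'.injective
  apply LinearMap.ext
  intro v
  rw [Matrix.toLin'_apply, Matrix.toLin'_one, LinearMap.id_apply]
  exact h v

omit [Fintype F] in
theorem eq_zero_of_mulVec {M : Matrix (Fin 4) (Fin 4) F} (h : ∀ v, M *ᵥ v = 0) : M = 0 := by
  apply Matrix.toLin'.injective
  apply LinearMap.ext
  intro v
  rw [Matrix.toLin'_apply, map_zero, LinearMap.zero_apply]
  exact h v

theorem no_fixed_vec {p : ℕ} [Fact p.Prime] (hp2 : p ≠ 2) (hdvd : p ∣ Fintype.card F ^ 2 + 1)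
    {M : Matrix (Fin 4) (Fin 4) F} (hM : M ^ p = 1) (hM1 : M ≠ 1) {v : Fin 4 → F}
    (hv : M *ᵥ v = v) : v = 0 := by
  classical
  let K : Submodule F (Fin 4 → F) := LinearMap.eqLocus (Matrix.mulVecLin M) LinearMap.id
  have hmemK : ∀ v, v ∈ K ↔ M *ᵥ v = v := fun v => Iff.rfl
  let f : Function.End (Fin 4 → F) := fun v => M *ᵥ v
  have hpow : ∀ k : ℕ, ∀ v, (f ^ k) v = M ^ k *ᵥ v := by
    intro k
    induction k with
    | zero => intro v; rw [pow_zero, pow_zero, Matrix.one_mulVec]; rfl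
    | succ k ih => intro v; rw [pow_succ, pow_succ, ← Matrix.mulVec_mulVec]; exact ih (f v)
  have hf : f ^ p ^ 1 = 1 := by
    funext v
    rw [pow_one, hpow, hM, Matrix.one_mulVec]; rfl
  have h := card_fixed_modEq f hf
  have hfix : Function.fixedPoints f = (K : Set (Fin 4 → F)) := by
    ext v; exact (hmemK v).symm
  have hcV : Nat.card (Fin 4 → F) = Fintype.card F ^ 4 := by
    rw [Nat.card_eq_fintype_card]; simp
  have hcK : Nat.card (Function.fixedPoints f) = Fintype.card F ^ Module.finrank F K := by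
    rw [Nat.card_coe_set_eq, hfix, ← Nat.card_coe_set_eq]
    exact (Module.natCard_eq_pow_finrank (K := F) (V := K)).trans
      (by rw [Nat.card_eq_fintype_card])
  rw [hcV, hcK] at h
  have hle : Module.finrank F K ≤ 4 := by
    have h1 := Submodule.finrank_le K
    rwa [Module.finrank_fin_fun] at h1
  have hlt : Module.finrank F K < 4 := by
    rcases hle.lt_or_eq with h' | h'
    · exact h'
    · exfalso
      have hK : K = ⊤ := Submodule.eq_top_of_finrank_eq (by rw [h', Module.finrank_fin_fun])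
      apply hM1
      apply eq_one_of_mulVec
      intro w
      exact (hmemK w).mp (by rw [hK]; exact Submodule.mem_top)
  have h0 := (arith hp2 hdvd hlt le_rfl h).1
  have hK : K = ⊥ := Submodule.finrank_eq_zero.mp h0
  have hvK : v ∈ K := (hmemK v).mpr hv
  rw [hK] at hvK
  exact (Submodule.mem_bot F).mp hvK

/-- A nontrivial matrix of prime order `p ∣ q² + 1`, `p` odd, acts irreducibly. -/
theorem irreducible {p : ℕ} [Fact p.Prime] (hp2 : p ≠ 2) (hdvd : p ∣ Fintype.card F ^ 2 + 1)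
    {M : Matrix (Fin 4) (Fin 4) F} (hM : M ^ p = 1) (hM1 : M ≠ 1)
    (W : Submodule F (Fin 4 → F)) (hW : ∀ v ∈ W, M *ᵥ v ∈ W) : W = ⊥ ∨ W = ⊤ := by
  classical
  let f : Function.End W := fun w => ⟨M *ᵥ (w : Fin 4 → F), hW w w.2⟩
  have hpow : ∀ k : ℕ, ∀ w : W, (((f ^ k) w : W) : Fin 4 → F) = M ^ k *ᵥ (w : Fin 4 → F) := by
    intro k
    induction k with
    | zero => intro w; rw [pow_zero, pow_zero, Matrix.one_mulVec]; rfl
    | succ k ih => intro w; rw [pow_succ, pow_succ, ← Matrix.mulVec_mulVec]; exact ih (f w)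
  have hf : f ^ p ^ 1 = 1 := by
    funext w
    apply Subtype.ext
    rw [pow_one, hpow, hM, Matrix.one_mulVec]; rfl
  have h := card_fixed_modEq f hf
  have hfix : Nat.card (Function.fixedPoints f) = 1 := by
    rw [Nat.card_eq_one_iff_unique]
    refine ⟨⟨?_⟩, ⟨⟨0, ?_⟩⟩⟩
    · rintro ⟨a, ha⟩ ⟨b, hb⟩
      have ha0 : (a : Fin 4 → F) = 0 := no_fixed_vec hp2 hdvd hM hM1 (congrArg Subtype.val ha)
      have hb0 : (b : Fin 4 → F) = 0 := no_fixed_vec hp2 hdvd hM hM1 (congrArg Subtype.val hb)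
      exact Subtype.ext (Subtype.ext (ha0.trans hb0.symm))
    · show f 0 = 0
      apply Subtype.ext
      show M *ᵥ ((0 : W) : Fin 4 → F) = ((0 : W) : Fin 4 → F)
      rw [Submodule.coe_zero, Matrix.mulVec_zero]
  have hcW : Nat.card W = Fintype.card F ^ Module.finrank F W :=
    (Module.natCard_eq_pow_finrank (K := F) (V := W)).trans (by rw [Nat.card_eq_fintype_card])
  rw [hcW, hfix] at h
  have hle : Module.finrank F W ≤ 4 := by
    have h1 := Submodule.finrank_le W
    rwa [Module.finrank_fin_fun] at h1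
  by_cases h0 : Module.finrank F W = 0
  · exact Or.inl (Submodule.finrank_eq_zero.mp h0)
  · right
    have h4 := (arith hp2 hdvd (Nat.pos_of_ne_zero h0) hle (by rwa [pow_zero])).2
    exact Submodule.eq_top_of_finrank_eq (by rw [h4, Module.finrank_fin_fun])

/-- the irreducibility hypothesis -/
def Irr (M : Matrix (Fin 4) (Fin 4) F) : Prop :=
  ∀ W : Submodule F (Fin 4 → F), (∀ v ∈ W, M *ᵥ v ∈ W) → W = ⊥ ∨ W = ⊤

omit [Fintype F] in
theorem ker_bot {M A : Matrix (Fin 4) (Fin 4) F} (hirr : Irr M) (hAM : A * M = M * A)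
    (hA0 : A ≠ 0) {v : Fin 4 → F} (hv : A *ᵥ v = 0) : v = 0 := by
  have hW : ∀ v ∈ LinearMap.ker (Matrix.mulVecLin A), M *ᵥ v ∈ LinearMap.ker (Matrix.mulVecLin A) := by
    intro v hv
    rw [LinearMap.mem_ker, Matrix.mulVecLin_apply] at hv ⊢
    rw [Matrix.mulVec_mulVec, hAM, ← Matrix.mulVec_mulVec, hv, Matrix.mulVec_zero]
  rcases hirr _ hW with h | h
  · have hvK : v ∈ LinearMap.ker (Matrix.mulVecLin A) := by
      rw [LinearMap.mem_ker, Matrix.mulVecLin_apply]; exact hv
    rw [h] at hvK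
    exact (Submodule.mem_bot F).mp hvK
  · exfalso
    apply hA0
    apply eq_zero_of_mulVec
    intro w
    have hw : w ∈ LinearMap.ker (Matrix.mulVecLin A) := by rw [h]; exact Submodule.mem_top
    rwa [LinearMap.mem_ker, Matrix.mulVecLin_apply] at hw

/-- The commutant of an irreducible matrix over a finite field is a field. -/
theorem cent_field {M : Matrix (Fin 4) (Fin 4) F} (hirr : Irr M) :
    IsField (Subring.centralizer ({M} : Set (Matrix (Fin 4) (Fin 4) F))) := by
  haveI : NoZeroDivisors (Subring.centralizer ({M} : Set (Matrix (Fin 4) (Fin 4) F))) := ⟨by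
    rintro ⟨A, hA⟩ ⟨B, hB⟩ hAB
    have hAB' : A * B = 0 := congrArg Subtype.val hAB
    by_cases hA0 : A = 0
    · exact Or.inl (Subtype.ext hA0)
    · right
      apply Subtype.ext
      show B = 0
      have hAM : A * M = M * A := ((Subring.mem_centralizer_iff.mp hA) M rfl).symm
      apply eq_zero_of_mulVec
      intro v
      apply ker_bot hirr hAM hA0
      rw [Matrix.mulVec_mulVec, hAB', Matrix.zero_mulVec]⟩
  haveI : IsDomain (Subring.centralizer ({M} : Set (Matrix (Fin 4) (Fin 4) F))) :=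
    NoZeroDivisors.to_isDomain _
  exact Finite.isDomain_to_isField _

theorem cent_comm {M : Matrix (Fin 4) (Fin 4) F} (hirr : Irr M) {A B : Matrix (Fin 4) (Fin 4) F}
    (hA : A * M = M * A) (hB : B * M = M * B) : A * B = B * A := by
  have h := (cent_field hirr).mul_comm
    ⟨A, Subring.mem_centralizer_iff.mpr (by rintro _ rfl; exact hA.symm)⟩
    ⟨B, Subring.mem_centralizer_iff.mpr (by rintro _ rfl; exact hB.symm)⟩
  exact congrArg Subtype.val h

theorem cyclic_of_cent {M : Matrix (Fin 4) (Fin 4) F} (hirr : Irr M) {P : Type*} [Group P]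
    [Finite P] (φ : P →* Matrix (Fin 4) (Fin 4) F) (hφ : Function.Injective φ)
    (hc : ∀ g, φ g * M = M * φ g) : IsCyclic P := by
  have hfield := cent_field hirr
  letI : Field (Subring.centralizer ({M} : Set (Matrix (Fin 4) (Fin 4) F))) := hfield.toField
  let ψ : P →* Subring.centralizer ({M} : Set (Matrix (Fin 4) (Fin 4) F)) :=
    { toFun := fun g => ⟨φ g, Subring.mem_centralizer_iff.mpr (by rintro _ rfl; exact (hc g).symm)⟩
      map_one' := Subtype.ext (map_one φ)
      map_mul' := fun g g' => Subtype.ext (map_mul φ g g') }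
  exact isCyclic_of_injective_ringHom ψ (fun g g' h => hφ (congrArg Subtype.val h))

/-! ### fixed points and centralisers in the Suzuki group -/

theorem hS_inj (D : SzData F s) {c c' : Fˣ} (h : hS s c = hS s c') : c = c' :=
  (tS_hS_inj D (a := 0) (b := 0) (a' := 0) (b' := 0) (by rw [h])).2.2

theorem hS_zero (D : SzData F s) (c : Fˣ) : hS s c • P0 F = P0 F := by
  rw [← Paff_zero D, hS_aff D, mul_zero, mul_zero]

omit [Fintype F] in
theorem hS_pow (c : Fˣ) (n : ℕ) : hS s (c ^ n) = hS s c ^ n := by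
  induction n with
  | zero => rw [pow_zero, pow_zero, hS_one]
  | succ n ih => rw [pow_succ, pow_succ, hS_mul, ih]

theorem tS_pow_four (D : SzData F s) (a b : F) : tS s a b ^ 4 = 1 :=
  congrArg (fun u : Usub D => ((u : SzG F s) : SL4 F)) (tU_pow_four D (tU D a b))

theorem torus_fix (D : SzData F s) {c : Fˣ} (hc : c ≠ 1) {a : Projectivization F (Fin 4 → F)}
    (ha : a ∈ ov F s) (h : hS s c • a = a) : a = Pinf F ∨ a = P0 F := by
  rcases mem_ov.mp ha with rfl | ⟨x, y, rfl⟩
  · exact Or.inl rfl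
  · right
    by_cases hxy : x = 0 ∧ y = 0
    · obtain ⟨rfl, rfl⟩ := hxy
      exact Paff_zero D
    · exact absurd (hS_fix_aff D c hxy h) hc

theorem swap_inf (D : SzData F s) {g : SL4 F} (hg : g ∈ SzG F s) (h1 : g • Pinf F = P0 F)
    (h2 : g • P0 F = Pinf F) : ∃ c : Fˣ, g = wS D * hS s c := by
  have hmem : wS D * g ∈ SzG F s := mul_mem (wS_mem D) hg
  have e1 : (wS D * g) • Pinf F = Pinf F := by rw [mul_smul, h1, wS_zero]
  have e2 : (wS D * g) • P0 F = P0 F := by rw [mul_smul, h2, wS_inf]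
  obtain ⟨c, hc⟩ := stab_two D hmem e1 e2
  refine ⟨c, ?_⟩
  rw [← hc, ← mul_assoc, wS_mul_self D, one_mul]

theorem hS_wS (D : SzData F s) (c : Fˣ) : hS s c * wS D = wS D * hS s c⁻¹ := by
  have h := wS_hS D c
  calc hS s c * wS D = (wS D * wS D) * hS s c * wS D := by rw [wS_mul_self D, one_mul]
    _ = wS D * (wS D * hS s c * wS D) := by group
    _ = wS D * hS s c⁻¹ := by rw [h]

/-- The centraliser of a nontrivial torus element is the torus. -/
theorem cent_torus (D : SzData F s) {c : Fˣ} (hc : c ≠ 1) {e : SL4 F} (he : e ∈ SzG F s)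
    (hcomm : e * hS s c = hS s c * e) : ∃ c' : Fˣ, e = hS s c' := by
  have hfix : ∀ a : Projectivization F (Fin 4 → F), hS s c • a = a →
      hS s c • (e • a) = e • a := by
    intro a h
    rw [← mul_smul, ← hcomm, mul_smul, h]
  have h1 := torus_fix D hc (smul_mem_ov he inf_mem) (hfix _ (hS_inf c))
  have h2 := torus_fix D hc (smul_mem_ov he (zero_mem D)) (hfix _ (hS_zero D c))
  rcases h1 with h1 | h1
  · rcases h2 with h2 | h2
    · exact absurd (MulAction.injective e (show e • P0 F = e • Pinf F by rw [h1, h2])) P0_ne_inf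
    · exact stab_two D he h1 h2
  · rcases h2 with h2 | h2
    · exfalso
      obtain ⟨c', rfl⟩ := swap_inf D he h1 h2
      have h3 : wS D * (hS s c' * hS s c) = wS D * (hS s c⁻¹ * hS s c') := by
        calc wS D * (hS s c' * hS s c) = wS D * hS s c' * hS s c := by group
          _ = hS s c * (wS D * hS s c') := hcomm
          _ = (hS s c * wS D) * hS s c' := by group
          _ = wS D * (hS s c⁻¹ * hS s c') := by rw [hS_wS D]; group
      have h4 := mul_left_cancel h3
      rw [← hS_mul, ← hS_mul] at h4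
      have h5 : c' * c = c⁻¹ * c' := hS_inj D h4
      have h6 : c * c = 1 := by
        have h7 : c' * (c * c) = c' * 1 := by
          calc c' * (c * c) = (c' * c) * c := by group
            _ = c⁻¹ * c' * c := by rw [h5]
            _ = c' * 1 := by rw [mul_comm c⁻¹ c', mul_assoc, inv_mul_cancel]
        exact mul_left_cancel h7
      have h8 : (c : F) ^ 2 = 1 := by rw [sq, ← Units.val_mul, h6, Units.val_one]
      exact hc (Units.ext (D.one_of_sq h8))
    · exact absurd (MulAction.injective e (show e • P0 F = e • Pinf F by rw [h1, h2])) P0_ne_inf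

theorem conj_torus (D : SzData F s) {g : SL4 F} (hg : g ∈ SzG F s)
    {a b : Projectivization F (Fin 4 → F)} (ha : a ∈ ov F s) (hb : b ∈ ov F s) (hab : a ≠ b)
    (h1 : g • a = a) (h2 : g • b = b) : ∃ k ∈ SzG F s, ∃ c : Fˣ, k * g * k⁻¹ = hS s c := by
  obtain ⟨k, hk, hka, hkb⟩ := exists_to_pair D ha hb hab
  refine ⟨k, hk, ?_⟩
  refine stab_two D (mul_mem (mul_mem hk hg) (inv_mem hk)) ?_ ?_
  · rw [← hka, mul_smul, mul_smul, inv_smul_smul, h1]
  · rw [← hkb, mul_smul, mul_smul, inv_smul_smul, h2]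

theorem second_fix (D : SzData F s) (a b : F) {c : Fˣ} (hc : c ≠ 1) :
    ∃ x y : F, (tS s a b * hS s c) • Paff s x y = Paff s x y := by
  have h1 : (c : F) ^ 2 + 1 ≠ 0 := by
    intro h
    exact hc (Units.ext (D.one_of_sq (by linear_combination h - D.two)))
  have h2 : (c : F) ^ (2 * s + 2) + 1 ≠ 0 := by
    intro h
    have h' : ((c : F) ^ (s + 1)) ^ 2 = 1 := by linear_combination h - D.two
    exact hc (Units.ext (D.one_of_pow_succ (D.one_of_sq h')))
  obtain ⟨x₀, hx⟩ : ∃ x₀ : F, x₀ * ((c : F) ^ 2 + 1) = a := ⟨a / _, div_mul_cancel₀ a h1⟩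
  obtain ⟨y₀, hy⟩ : ∃ y₀ : F, y₀ * ((c : F) ^ (2 * s + 2) + 1) = b + a ^ s * ((c : F) ^ 2 * x₀) :=
    ⟨_ / _, div_mul_cancel₀ _ h2⟩
  have e1 : (c : F) ^ 2 * x₀ + a = x₀ := by
    linear_combination (-1 : F) * hx + ((c : F) ^ 2 * x₀) * D.two
  have e2 : (c : F) ^ (2 * s + 2) * y₀ + b + a ^ s * ((c : F) ^ 2 * x₀) = y₀ := by
    linear_combination (-1 : F) * hy + ((c : F) ^ (2 * s + 2) * y₀) * D.two
  refine ⟨x₀, y₀, ?_⟩
  rw [mul_smul, hS_aff D, tS_aff D, e1, e2]

/-- An element fixing a point of the ovoid is conjugate to a translation or to a torus element. -/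
theorem fix_cases (D : SzData F s) {g : SL4 F} (hg : g ∈ SzG F s)
    {a : Projectivization F (Fin 4 → F)} (ha : a ∈ ov F s) (h : g • a = a) :
    ∃ k ∈ SzG F s, (∃ a' b' : F, k * g * k⁻¹ = tS s a' b') ∨ (∃ c : Fˣ, k * g * k⁻¹ = hS s c) := by
  obtain ⟨k₁, hk₁, hk₁a⟩ := exists_to_inf D ha
  have hg₁ : k₁ * g * k₁⁻¹ ∈ SzG F s := mul_mem (mul_mem hk₁ hg) (inv_mem hk₁)
  have hfix : (k₁ * g * k₁⁻¹) • Pinf F = Pinf F := by
    rw [← hk₁a, mul_smul, mul_smul, inv_smul_smul, h]
  obtain ⟨a', b', c, hc⟩ := stab_one D hg₁ hfix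
  by_cases hc1 : c = 1
  · refine ⟨k₁, hk₁, Or.inl ⟨a', b', ?_⟩⟩
    rw [hc, hc1, hS_one, mul_one]
  · obtain ⟨x, y, hxy⟩ := second_fix D a' b' hc1
    rw [← hc] at hxy
    obtain ⟨k₂, hk₂, c', hc'⟩ :=
      conj_torus D hg₁ inf_mem (aff_mem x y) (Paff_ne_inf x y).symm hfix hxy
    refine ⟨k₂ * k₁, mul_mem hk₂ hk₁, Or.inr ⟨c', ?_⟩⟩
    rw [← hc']; group

/-- The centraliser of a nontrivial translation consists of translations. -/
theorem cent_unip (D : SzData F s) {a b : F} (hab : ¬ (a = 0 ∧ b = 0)) {e : SL4 F}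
    (he : e ∈ SzG F s) (hcomm : e * tS s a b = tS s a b * e) : ∃ a' b' : F, e = tS s a' b' := by
  have hfix : e • Pinf F = Pinf F := by
    have h1 : tS s a b • (e • Pinf F) = e • Pinf F := by
      rw [← mul_smul, ← hcomm, mul_smul, tS_inf]
    rcases mem_ov.mp (smul_mem_ov he inf_mem) with h | ⟨x, y, hxy⟩
    · exact h
    · exfalso
      rw [hxy, tS_aff D] at h1
      obtain ⟨hx, hy⟩ := Paff_inj h1
      have ha0 : a = 0 := by linear_combination hx
      have hb0 : b = 0 := by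
        rw [ha0, zero_pow D.s_ne] at hy
        linear_combination hy
      exact hab ⟨ha0, hb0⟩
  obtain ⟨a', b', c, rfl⟩ := stab_one D he hfix
  have h0 : (tS s a' b' * hS s c * tS s a b) • P0 F =
      (tS s a b * (tS s a' b' * hS s c)) • P0 F := by rw [hcomm]
  have hL : (tS s a' b' * hS s c * tS s a b) • P0 F =
      Paff s ((c : F) ^ 2 * a + a')
        ((c : F) ^ (2 * s + 2) * b + b' + a' ^ s * ((c : F) ^ 2 * a)) := by
    rw [mul_smul, mul_smul, ← Paff_zero D, tS_aff D, zero_add, zero_add, mul_zero, add_zero,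
      hS_aff D, tS_aff D]
  have hR : (tS s a b * (tS s a' b' * hS s c)) • P0 F = Paff s (a' + a) (b' + b + a ^ s * a') := by
    rw [mul_smul, tS_hS_zero D, tS_aff D]
  rw [hL, hR] at h0
  obtain ⟨hx, hy⟩ := Paff_inj h0
  have hc : c = 1 := by
    by_cases ha0 : a = 0
    · have hb0 : b ≠ 0 := fun hb0 => hab ⟨ha0, hb0⟩
      rw [ha0, zero_pow D.s_ne] at hy
      have h1 : (c : F) ^ (2 * s + 2) * b = 1 * b := by linear_combination hy
      have h2 := mul_right_cancel₀ hb0 h1
      have h3 : ((c : F) ^ (s + 1)) ^ 2 = 1 := by rw [← h2]; ring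
      exact Units.ext (D.one_of_pow_succ (D.one_of_sq h3))
    · have h1 : (c : F) ^ 2 * a = 1 * a := by linear_combination hx
      exact Units.ext (D.one_of_sq (mul_right_cancel₀ ha0 h1))
  exact ⟨a', b', by rw [hc, hS_one, mul_one]⟩

/-- An element of odd prime order `p` is conjugate into the torus unless `p ∣ q² + 1`. -/
theorem odd_cases (D : SzData F s) {p : ℕ} [hp : Fact p.Prime] (hp2 : p ≠ 2) {x : SL4 F}
    (hx : x ∈ SzG F s) (hxp : x ^ p = 1) (hx1 : x ≠ 1) :
    p ∣ Fintype.card F ^ 2 + 1 ∨ ∃ k ∈ SzG F s, ∃ c : Fˣ, c ≠ 1 ∧ k * x * k⁻¹ = hS s c := by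
  by_cases hdvd : p ∣ Fintype.card F ^ 2 + 1
  · exact Or.inl hdvd
  · right
    obtain ⟨a, ha, hfix⟩ := exists_fix_of_pow hdvd hx (n := 1) (by rwa [pow_one])
    obtain ⟨k, hk, h | ⟨c, hc⟩⟩ := fix_cases D hx ha hfix
    · exfalso
      obtain ⟨a', b', h⟩ := h
      have h4 : (k * x * k⁻¹) ^ 4 = 1 := by rw [h]; exact tS_pow_four D a' b'
      have hp' : (k * x * k⁻¹) ^ p = 1 := by rw [conj_pow, hxp, mul_one, mul_inv_cancel]
      have h1 : k * x * k⁻¹ = 1 := by
        have hcop : Nat.Coprime (2 ^ 2) p :=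
          Nat.Coprime.pow_left 2 ((Nat.coprime_primes Nat.prime_two hp.out).mpr (Ne.symm hp2))
        have h5 := Nat.dvd_gcd (orderOf_dvd_of_pow_eq_one h4) (orderOf_dvd_of_pow_eq_one hp')
        have h6 : Nat.gcd 4 p = 1 := hcop
        rw [h6] at h5
        exact orderOf_eq_one_iff.mp (Nat.dvd_one.mp h5)
      exact hx1 (conj_eq_one_iff.mp h1)
    · refine ⟨k, hk, c, ?_, hc⟩
      rintro rfl
      rw [hS_one] at hc
      exact hx1 (conj_eq_one_iff.mp hc)

/-! ### the CN property -/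

/-- the centraliser is abelian -/
def P1 (s : ℕ) (g : SL4 F) : Prop :=
  ∀ e e' : SL4 F, e ∈ SzG F s → e' ∈ SzG F s → e * g = g * e → e' * g = g * e' → e * e' = e' * e

/-- the centraliser has exponent dividing four -/
def P2 (s : ℕ) (g : SL4 F) : Prop :=
  ∀ e : SL4 F, e ∈ SzG F s → e * g = g * e → e ^ 4 = 1

omit [Fintype F] in
theorem conj_comm {e g : SL4 F} (k : SL4 F) (hc : e * g = g * e) :
    k * e * k⁻¹ * (k * g * k⁻¹) = k * g * k⁻¹ * (k * e * k⁻¹) := by
  calc k * e * k⁻¹ * (k * g * k⁻¹) = k * (e * g) * k⁻¹ := by group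
    _ = k * (g * e) * k⁻¹ := by rw [hc]
    _ = k * g * k⁻¹ * (k * e * k⁻¹) := by group

omit [Fintype F] in
theorem P1_conj {g k : SL4 F} (hk : k ∈ SzG F s) (h : P1 s (k * g * k⁻¹)) : P1 s g := by
  intro e e' he he' hc hc'
  have h1 := h (k * e * k⁻¹) (k * e' * k⁻¹) (mul_mem (mul_mem hk he) (inv_mem hk))
    (mul_mem (mul_mem hk he') (inv_mem hk)) (conj_comm k hc) (conj_comm k hc')
  calc e * e' = k⁻¹ * (k * e * k⁻¹ * (k * e' * k⁻¹)) * k := by group
    _ = k⁻¹ * (k * e' * k⁻¹ * (k * e * k⁻¹)) * k := by rw [h1]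
    _ = e' * e := by group

omit [Fintype F] in
theorem P2_conj {g k : SL4 F} (hk : k ∈ SzG F s) (h : P2 s (k * g * k⁻¹)) : P2 s g := by
  intro e he hc
  have h1 := h (k * e * k⁻¹) (mul_mem (mul_mem hk he) (inv_mem hk)) (conj_comm k hc)
  rw [conj_pow] at h1
  exact conj_eq_one_iff.mp h1

omit [Fintype F] in
theorem P1_of_pow {g : SL4 F} (n : ℕ) (h : P1 s (g ^ n)) : P1 s g := by
  intro e e' he he' hc hc'
  exact h e e' he he' (Commute.pow_right (show Commute e g from hc) n).eq
    (Commute.pow_right (show Commute e' g from hc') n).eq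

theorem P1_torus (D : SzData F s) {c : Fˣ} (hc : c ≠ 1) : P1 s (hS s c) := by
  intro e e' he he' hce hce'
  obtain ⟨c₁, rfl⟩ := cent_torus D hc he hce
  obtain ⟨c₂, rfl⟩ := cent_torus D hc he' hce'
  rw [← hS_mul, ← hS_mul, mul_comm]

theorem P2_unip (D : SzData F s) {a b : F} (hab : ¬ (a = 0 ∧ b = 0)) : P2 s (tS s a b) := by
  intro e he hc
  obtain ⟨a', b', rfl⟩ := cent_unip D hab he hc
  exact tS_pow_four D a' b'

theorem irr_of_order {p : ℕ} [Fact p.Prime] (hp2 : p ≠ 2)
    (hdvd : p ∣ Fintype.card F ^ 2 + 1) {x : SL4 F} (hxp : x ^ p = 1) (hx1 : x ≠ 1) :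
    Irr (x : Matrix (Fin 4) (Fin 4) F) := by
  intro W hW
  refine irreducible hp2 hdvd ?_ ?_ W hW
  · rw [← Matrix.SpecialLinearGroup.coe_pow, hxp, Matrix.SpecialLinearGroup.coe_one]
  · intro h
    exact hx1 (Subtype.ext h)

theorem P1_irr {p : ℕ} [Fact p.Prime] (hp2 : p ≠ 2) (hdvd : p ∣ Fintype.card F ^ 2 + 1)
    {x : SL4 F} (hxp : x ^ p = 1) (hx1 : x ≠ 1) : P1 s x := by
  intro e e' _ _ hc hc'
  have h1 : (e : Matrix (Fin 4) (Fin 4) F) * (x : Matrix (Fin 4) (Fin 4) F) =
      (x : Matrix (Fin 4) (Fin 4) F) * (e : Matrix (Fin 4) (Fin 4) F) := congrArg Subtype.val hc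
  have h2 : (e' : Matrix (Fin 4) (Fin 4) F) * (x : Matrix (Fin 4) (Fin 4) F) =
      (x : Matrix (Fin 4) (Fin 4) F) * (e' : Matrix (Fin 4) (Fin 4) F) := congrArg Subtype.val hc'
  exact Subtype.ext (cent_comm (irr_of_order hp2 hdvd hxp hx1) h1 h2)

/-- Every nontrivial element has a centraliser which is abelian or of exponent dividing four. -/
theorem cn_cases (D : SzData F s) {g : SL4 F} (hg : g ∈ SzG F s) (hg1 : g ≠ 1) :
    P1 s g ∨ P2 s g := by
  rcases Nat.eq_two_pow_or_exists_odd_prime_and_dvd (orderOf g) with ⟨n, hn⟩ | ⟨p, hp, hpd, hodd⟩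
  · right
    have hpow : g ^ 2 ^ n = 1 := by rw [← hn]; exact pow_orderOf_eq_one g
    haveI : Fact (Nat.Prime 2) := ⟨Nat.prime_two⟩
    obtain ⟨a, ha, hfix⟩ := exists_fix_of_pow D.not_two_dvd hg hpow
    obtain ⟨k, hk, ⟨a', b', h⟩ | ⟨c, hc⟩⟩ := fix_cases D hg ha hfix
    · apply P2_conj hk
      rw [h]
      apply P2_unip D
      rintro ⟨rfl, rfl⟩
      rw [tS_zero D] at h
      exact hg1 (conj_eq_one_iff.mp h)
    · exfalso
      have h1 : hS s (c ^ 2 ^ n) = 1 := by
        rw [hS_pow, ← hc, conj_pow, hpow, mul_one, mul_inv_cancel]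
      have hc1 : c = 1 := D.unit_two_pow n c (hS_inj D (h1.trans hS_one.symm))
      rw [hc1, hS_one] at hc
      exact hg1 (conj_eq_one_iff.mp hc)
  · left
    haveI : Fact p.Prime := ⟨hp⟩
    have hp2 : p ≠ 2 := by
      rintro rfl
      exact absurd hodd (by decide)
    obtain ⟨t, ht⟩ := hpd
    have hxp : (g ^ t) ^ p = 1 := by
      rw [← pow_mul, mul_comm, ← ht]; exact pow_orderOf_eq_one g
    have hord : 0 < orderOf g := orderOf_pos g
    have hx1 : g ^ t ≠ 1 := by
      intro h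
      have h1 := orderOf_dvd_of_pow_eq_one h
      have ht0 : 0 < t := by
        rcases Nat.eq_zero_or_pos t with h0 | h0
        · rw [ht, h0, mul_zero] at hord; exact absurd hord (lt_irrefl 0)
        · exact h0
      have h2 := Nat.le_of_dvd ht0 h1
      have h3 := hp.two_le
      rw [ht] at h2
      nlinarith
    apply P1_of_pow t
    rcases odd_cases D hp2 (pow_mem hg t) hxp hx1 with hdvd | ⟨k, hk, c, hc1, hc⟩
    · exact P1_irr hp2 hdvd hxp hx1
    · apply P1_conj hk
      rw [hc]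
      exact P1_torus D hc1

omit [Fintype F] in
theorem comm_of (g e : SzG F s) (he : e ∈ Subgroup.centralizer ({g} : Set (SzG F s))) :
    (e : SL4 F) * (g : SL4 F) = (g : SL4 F) * (e : SL4 F) := by
  have h := (Subgroup.mem_centralizer_iff.mp he) g rfl
  exact (congrArg Subtype.val h).symm

/-- The Suzuki group is a CN-group. -/
theorem cn_group (D : SzData F s) (g : SzG F s) (hg : g ≠ 1) :
    Group.IsNilpotent (Subgroup.centralizer ({g} : Set (SzG F s))) := by
  have hg1 : (g : SL4 F) ≠ 1 := fun h => hg (Subtype.ext h)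
  rcases cn_cases D g.2 hg1 with h | h
  · letI : CommGroup (Subgroup.centralizer ({g} : Set (SzG F s))) :=
      { (inferInstance : Group (Subgroup.centralizer ({g} : Set (SzG F s)))) with
        mul_comm := fun e e' => Subtype.ext (Subtype.ext
          (h e.1 e'.1 e.1.2 e'.1.2 (comm_of g e.1 e.2) (comm_of g e'.1 e'.2))) }
    exact CommGroup.isNilpotent
  · haveI : Fact (Nat.Prime 2) := ⟨Nat.prime_two⟩
    have hp : IsPGroup 2 (Subgroup.centralizer ({g} : Set (SzG F s))) := fun e =>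
      ⟨2, Subtype.ext (Subtype.ext (h e.1 e.1.2 (comm_of g e.1 e.2)))⟩
    exact hp.isNilpotent

/-! ### Sylow subgroups for odd primes -/

/-- The Sylow subgroups of the Suzuki group for odd primes are cyclic. -/
theorem sylow_odd_cyclic (D : SzData F s) {p : ℕ} [Fact p.Prime] (hp2 : p ≠ 2)
    (P : Sylow p (SzG F s)) : IsCyclic P := by
  rcases subsingleton_or_nontrivial ↥P with hsub | hnt
  · exact isCyclic_of_subsingleton
  · have hP : IsPGroup p ↥P := P.isPGroup'
    have hZ : IsPGroup p (Subgroup.center ↥P) := hP.to_subgroup _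
    haveI : Nontrivial (Subgroup.center ↥P) := hP.center_nontrivial
    have hdvd : p ∣ Nat.card (Subgroup.center ↥P) :=
      (hZ.card_eq_or_dvd).resolve_left (Finite.one_lt_card (α := Subgroup.center ↥P)).ne'
    obtain ⟨z, hz⟩ := exists_prime_orderOf_dvd_card' p hdvd
    have hzc : ∀ g : ↥P, g * (z : ↥P) = (z : ↥P) * g := fun g =>
      (Subgroup.mem_center_iff.mp z.2) g
    let φ : ↥P →* SL4 F := (SzG F s).subtype.comp (P : Subgroup (SzG F s)).subtype
    have hφ : Function.Injective φ := fun g g' h => Subtype.ext (Subtype.ext h)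
    have hzp : z ^ p = 1 := by
      have h := pow_orderOf_eq_one z
      rwa [hz] at h
    have hxp : φ (z : ↥P) ^ p = 1 := by
      rw [← map_pow, ← Subgroup.coe_pow, hzp, Subgroup.coe_one, map_one]
    have hx1 : φ (z : ↥P) ≠ 1 := by
      intro h
      have h1 : (z : ↥P) = 1 := hφ (h.trans (map_one φ).symm)
      have h2 : z = 1 := Subtype.ext h1
      rw [h2, orderOf_one] at hz
      exact (Fact.out : p.Prime).one_lt.ne hz
    have hxm : φ (z : ↥P) ∈ SzG F s := (z : ↥P).1.2
    have hcomm : ∀ g : ↥P, φ g * φ (z : ↥P) = φ (z : ↥P) * φ g := fun g => by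
      rw [← map_mul, ← map_mul, hzc g]
    rcases odd_cases D hp2 hxm hxp hx1 with hdvd | ⟨k, hk, c, hc1, hc⟩
    · let ψ : ↥P →* Matrix (Fin 4) (Fin 4) F :=
        { toFun := fun g => (φ g : Matrix (Fin 4) (Fin 4) F)
          map_one' := rfl
          map_mul' := fun g g' => rfl }
      exact cyclic_of_cent (irr_of_order hp2 hdvd hxp hx1) ψ
        (fun g g' h => hφ (Subtype.ext h)) (fun g => congrArg Subtype.val (hcomm g))
    · have hmem : ∀ g : ↥P, (⟨k, hk⟩ : SzG F s) * (g : SzG F s) * (⟨k, hk⟩ : SzG F s)⁻¹ ∈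
          (hG D).range := by
        intro g
        have h1 : k * φ g * k⁻¹ * hS s c = hS s c * (k * φ g * k⁻¹) := by
          rw [← hc]; exact conj_comm k (hcomm g)
        obtain ⟨c', hc'⟩ := cent_torus D hc1 (mul_mem (mul_mem hk (g : SzG F s).2) (inv_mem hk)) h1
        exact ⟨c', Subtype.ext hc'.symm⟩
      let f : ↥P →* (hG D).range :=
        { toFun := fun g => ⟨(⟨k, hk⟩ : SzG F s) * (g : SzG F s) * (⟨k, hk⟩ : SzG F s)⁻¹, hmem g⟩
          map_one' := Subtype.ext (by
            show (⟨k, hk⟩ : SzG F s) * ((1 : ↥P) : SzG F s) * (⟨k, hk⟩ : SzG F s)⁻¹ = 1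
            rw [Subgroup.coe_one, mul_one, mul_inv_cancel])
          map_mul' := fun g g' => Subtype.ext (by
            show (⟨k, hk⟩ : SzG F s) * ((g * g' : ↥P) : SzG F s) * (⟨k, hk⟩ : SzG F s)⁻¹ =
              (⟨k, hk⟩ : SzG F s) * (g : SzG F s) * (⟨k, hk⟩ : SzG F s)⁻¹ *
                ((⟨k, hk⟩ : SzG F s) * (g' : SzG F s) * (⟨k, hk⟩ : SzG F s)⁻¹)
            rw [Subgroup.coe_mul]; group) }
      have hinj : Function.Injective f := by
        intro g g' h
        have h' : (⟨k, hk⟩ : SzG F s) * (g : SzG F s) * (⟨k, hk⟩ : SzG F s)⁻¹ =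
            (⟨k, hk⟩ : SzG F s) * (g' : SzG F s) * (⟨k, hk⟩ : SzG F s)⁻¹ := congrArg Subtype.val h
        exact Subtype.ext (mul_left_cancel (mul_right_cancel h'))
      haveI : IsCyclic (hG D).range :=
        isCyclic_of_surjective (hG D).rangeRestrict (hG D).rangeRestrict_surjective
      exact isCyclic_of_injective f hinj

end Cfsg.Agent.Helper6.Sz
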