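import Mathlib
import Cfsg.Agent.Helper6.SzTori

set_option autoImplicit false

/-!
Further facts on the Suzuki group `Sz(q)` (stabiliser of the Suzuki–Tits ovoid in `SL₄`): generation by
two elements, real `2`-elements, maximality of the Borel subgroup.
-/

namespace Cfsg.Agent.Helper6.Sz

open Matrix
open scoped Pointwise

variable {F : Type*} [Field F] [Fintype F] {s : ℕ}

/-! ### generation by two elements -/

theorem hG_conj_tG (D : SzData F s) (x : Fˣ) (a b : F) :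
    hG D x * tG D a b * (hG D x)⁻¹ = tG D ((x : F) ^ 2 * a) ((x : F) ^ (2 * s + 2) * b) := by
  have h' : hG D x * tG D a b = tG D ((x : F) ^ 2 * a) ((x : F) ^ (2 * s + 2) * b) * hG D x :=
    Subtype.ext (hS_tS D x a b)
  rw [h', mul_inv_cancel_right]

theorem tG_split (D : SzData F s) (a b β : F) : tG D a b = tG D a β * tG D 0 (b + β) := by
  apply Subtype.ext
  show tS s a b = tS s a β * tS s 0 (b + β)
  rw [tS_mul D]
  have e1 : a + 0 = a := add_zero a
  have e2 : β + (b + β) + a ^ s * 0 = b := by linear_combination β * D.two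
  rw [e1, e2]

theorem tG_sq (D : SzData F s) (a β : F) : tG D a β * tG D a β = tG D 0 (a ^ (s + 1)) := by
  apply Subtype.ext
  show tS s a β * tS s a β = tS s 0 (a ^ (s + 1))
  rw [tS_mul D]
  have e1 : a + a = 0 := D.add_self a
  have e2 : β + β + a ^ s * a = a ^ (s + 1) := by rw [pow_succ]; linear_combination β * D.two
  rw [e1, e2]

/-- The Suzuki group is generated by two elements. -/
theorem two_generated (D : SzData F s) :
    ∃ a b : SzG F s, Subgroup.closure ({a, b} : Set (SzG F s)) = ⊤ := by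
  obtain ⟨c, hc⟩ := IsCyclic.exists_generator (α := Fˣ)
  refine ⟨hG D c, tG D 1 0 * wG D, ?_⟩
  obtain ⟨H, hH⟩ : ∃ H : Subgroup (SzG F s),
      H = Subgroup.closure ({hG D c, tG D 1 0 * wG D} : Set (SzG F s)) := ⟨_, rfl⟩
  rw [← hH]
  have ha : hG D c ∈ H := by rw [hH]; exact Subgroup.subset_closure (Set.mem_insert _ _)
  have hb : tG D 1 0 * wG D ∈ H := by
    rw [hH]; exact Subgroup.subset_closure (Set.mem_insert_of_mem _ rfl)
  have hT : ∀ x : Fˣ, hG D x ∈ H := by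
    intro x
    obtain ⟨i, rfl⟩ := Subgroup.mem_zpowers_iff.mp (hc x)
    rw [map_zpow]
    exact zpow_mem ha i
  have hc1 : c ≠ 1 := by
    rintro rfl
    obtain ⟨x, hx0, hx1⟩ := D.exists_ne
    have h := hc (Units.mk0 x hx0)
    rw [Subgroup.zpowers_one_eq_bot, Subgroup.mem_bot] at h
    exact hx1 (by simpa using congrArg Units.val h)
  have hwinv : (wG D)⁻¹ = wG D := Subtype.ext (wS_inv D)
  have h1 : tG D 1 0 * wG D * hG D c * (tG D 1 0 * wG D)⁻¹ =
      tG D 1 0 * hG D c⁻¹ * (tG D 1 0)⁻¹ := by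
    have hw : wG D * hG D c * wG D = hG D c⁻¹ := Subtype.ext (wS_hS D c)
    rw [← hw, _root_.mul_inv_rev, hwinv]; group
  have h2 : hG D c * (tG D 1 0 * hG D c⁻¹ * (tG D 1 0)⁻¹) ∈ H := by
    rw [← h1]; exact mul_mem ha (mul_mem (mul_mem hb ha) (inv_mem hb))
  obtain ⟨b₀, hb₀⟩ : ∃ b₀ : F, tG D ((c : F) ^ 2 * 1 + 1) b₀ ∈ H := by
    refine ⟨(c : F) ^ (2 * s + 2) * 0 + (0 + 1 ^ (s + 1)) + ((c : F) ^ 2 * 1) ^ s * 1, ?_⟩
    have h3 : hG D c * (tG D 1 0 * hG D c⁻¹ * (tG D 1 0)⁻¹) =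
        tG D ((c : F) ^ 2 * 1 + 1)
          ((c : F) ^ (2 * s + 2) * 0 + (0 + 1 ^ (s + 1)) + ((c : F) ^ 2 * 1) ^ s * 1) := by
      calc hG D c * (tG D 1 0 * hG D c⁻¹ * (tG D 1 0)⁻¹)
          = (hG D c * tG D 1 0 * (hG D c)⁻¹) * (tG D 1 0)⁻¹ := by rw [map_inv]; group
        _ = _ := by
          rw [hG_conj_tG]
          apply Subtype.ext
          show tS s ((c : F) ^ 2 * 1) ((c : F) ^ (2 * s + 2) * 0) * (tS s 1 0)⁻¹ = tS s _ _
          rw [tS_inv D, tS_mul D]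
    rw [← h3]; exact h2
  have ha₀ : (c : F) ^ 2 * 1 + 1 ≠ 0 := by
    intro h
    exact hc1 (Units.ext (D.one_of_sq (by linear_combination h - D.two)))
  have hU1 : ∀ a : F, a ≠ 0 → ∃ β : F, tG D a β ∈ H := by
    intro a ha0
    obtain ⟨x, hx⟩ := D.sqrt (a / ((c : F) ^ 2 * 1 + 1))
    have hx0 : x ≠ 0 := by
      rintro rfl
      rw [zero_pow two_ne_zero] at hx
      exact (div_ne_zero ha0 ha₀) hx.symm
    refine ⟨(x ^ (2 * s + 2)) * b₀, ?_⟩
    have h4 := hG_conj_tG D (Units.mk0 x hx0) ((c : F) ^ 2 * 1 + 1) b₀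
    rw [Units.val_mk0, hx, div_mul_cancel₀ a ha₀] at h4
    rw [← h4]
    exact mul_mem (mul_mem (hT _) hb₀) (inv_mem (hT _))
  have hZ : ∀ t : F, tG D 0 t ∈ H := by
    intro t
    by_cases ht : t = 0
    · rw [ht]
      have h : tG D (0 : F) 0 = 1 := Subtype.ext (tS_zero D)
      rw [h]; exact one_mem H
    · obtain ⟨a, ha⟩ := D.exists_root ht
      have ha0 : a ≠ 0 := by
        rintro rfl
        rw [zero_pow (Nat.succ_ne_zero s)] at ha
        exact ht ha.symm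
      obtain ⟨β, hβ⟩ := hU1 a ha0
      rw [← ha, ← tG_sq D a β]; exact mul_mem hβ hβ
  have hU : ∀ a b : F, tG D a b ∈ H := by
    intro a b
    by_cases ha0 : a = 0
    · rw [ha0]; exact hZ b
    · obtain ⟨β, hβ⟩ := hU1 a ha0
      rw [tG_split D a b β]; exact mul_mem hβ (hZ _)
  have hw : wG D ∈ H := by
    have h : wG D = (tG D 1 0)⁻¹ * (tG D 1 0 * wG D) := by group
    rw [h]; exact mul_mem (inv_mem (hU 1 0)) hb
  rw [eq_top_iff]
  intro g _
  rcases SzG_cases D g.2 with ⟨a, b, c', h⟩ | ⟨a, b, a', b', c', h⟩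
  · have hg : g = tG D a b * hG D c' := Subtype.ext h
    rw [hg]; exact mul_mem (hU a b) (hT c')
  · have hg : g = tG D a b * wG D * (tG D a' b' * hG D c') := Subtype.ext h
    rw [hg]; exact mul_mem (mul_mem (hU a b) hw) (mul_mem (hU a' b') (hT c'))

/-! ### real `2`-elements -/

theorem two_elt_conj (D : SzData F s) {g : SL4 F} (hg : g ∈ SzG F s) {n : ℕ}
    (hpow : g ^ 2 ^ n = 1) (hg1 : g ≠ 1) :
    ∃ k ∈ SzG F s, ∃ a b : F, ¬ (a = 0 ∧ b = 0) ∧ k * g * k⁻¹ = tS s a b := by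
  haveI : Fact (Nat.Prime 2) := ⟨Nat.prime_two⟩
  obtain ⟨a, ha, hfix⟩ := exists_fix_of_pow D.not_two_dvd hg hpow
  obtain ⟨k, hk, ⟨a', b', h⟩ | ⟨c, hc⟩⟩ := fix_cases D hg ha hfix
  · refine ⟨k, hk, a', b', ?_, h⟩
    rintro ⟨rfl, rfl⟩
    rw [tS_zero D] at h
    exact hg1 (conj_eq_one_iff.mp h)
  · exfalso
    have h1 : hS s (c ^ 2 ^ n) = 1 := by
      rw [hS_pow, ← hc, conj_pow, hpow, mul_one, mul_inv_cancel]
    have hc1 : c = 1 := D.unit_two_pow n c (hS_inj D (h1.trans hS_one.symm))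
    rw [hc1, hS_one] at hc
    exact hg1 (conj_eq_one_iff.mp hc)

theorem unip_fix (D : SzData F s) {a b : F} (hab : ¬ (a = 0 ∧ b = 0))
    {p : Projectivization F (Fin 4 → F)} (hp : p ∈ ov F s) (h : tS s a b • p = p) :
    p = Pinf F := by
  rcases mem_ov.mp hp with h' | ⟨x, y, rfl⟩
  · exact h'
  · exfalso
    rw [tS_aff D] at h
    obtain ⟨hx, hy⟩ := Paff_inj h
    have ha0 : a = 0 := by linear_combination hx
    have hb0 : b = 0 := by
      rw [ha0, zero_pow D.s_ne] at hy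
      linear_combination hy
    exact hab ⟨ha0, hb0⟩

theorem unip_not_real (D : SzData F s) {a b : F} {k : SL4 F} (hk : k ∈ SzG F s)
    (h : k * tS s a b = tS s a (b + a ^ (s + 1)) * k) : a = 0 := by
  by_contra ha0
  have hfix : k • Pinf F = Pinf F := by
    apply unip_fix D (a := a) (b := b + a ^ (s + 1)) (fun h' => ha0 h'.1)
      (smul_mem_ov hk inf_mem)
    rw [← mul_smul, ← h, mul_smul, tS_inf]
  obtain ⟨a', b', c, rfl⟩ := stab_one D hk hfix
  have h0 : (tS s a' b' * hS s c * tS s a b) • P0 F =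
      (tS s a (b + a ^ (s + 1)) * (tS s a' b' * hS s c)) • P0 F := by rw [h]
  have hL : (tS s a' b' * hS s c * tS s a b) • P0 F =
      Paff s ((c : F) ^ 2 * a + a')
        ((c : F) ^ (2 * s + 2) * b + b' + a' ^ s * ((c : F) ^ 2 * a)) := by
    rw [mul_smul, mul_smul, ← Paff_zero D, tS_aff D, zero_add, zero_add, mul_zero, add_zero,
      hS_aff D, tS_aff D]
  have hR : (tS s a (b + a ^ (s + 1)) * (tS s a' b' * hS s c)) • P0 F =
      Paff s (a' + a) (b' + (b + a ^ (s + 1)) + a ^ s * a') := by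
    rw [mul_smul, tS_hS_zero D, tS_aff D]
  rw [hL, hR] at h0
  obtain ⟨hx, hy⟩ := Paff_inj h0
  have hc : (c : F) = 1 := by
    have h1 : (c : F) ^ 2 * a = 1 * a := by linear_combination hx
    exact D.one_of_sq (mul_right_cancel₀ ha0 h1)
  simp only [hc, one_pow, one_mul] at hy
  have E : a' ^ s * a = a ^ (s + 1) + a ^ s * a' := by linear_combination hy
  have e1 : (a' ^ s * a) ^ s = a' ^ 2 * a ^ s := by rw [mul_pow, D.sq]
  have e2 : (a ^ (s + 1) + a ^ s * a') ^ s = a ^ 2 * a ^ s + a ^ 2 * a' ^ s := by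
    rw [D.add, pow_succ, mul_pow, mul_pow, D.sq]
  have Eθ : a' ^ 2 * a ^ s = a ^ 2 * a ^ s + a ^ 2 * a' ^ s := by rw [← e1, ← e2, E]
  have key : a ^ s * a' * (a' + a) = 0 := by
    linear_combination Eθ + a * E + (a ^ (s + 2) + a ^ (s + 1) * a') * D.two
  have has : a ^ s ≠ 0 := pow_ne_zero s ha0
  have hs1 : a ^ (s + 1) ≠ 0 := pow_ne_zero _ ha0
  rcases mul_eq_zero.mp key with h1 | h1
  · rcases mul_eq_zero.mp h1 with h2 | h2
    · exact has h2
    · rw [h2, zero_pow D.s_ne] at E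
      apply hs1
      linear_combination -E
  · have h2 : a' = a := by linear_combination h1 - a * D.two
    rw [h2] at E
    apply hs1
    linear_combination -E

/-- A nontrivial `2`-element of the Suzuki group is real exactly when it is an involution. -/
theorem real_two (D : SzData F s) (P : Sylow 2 (SzG F s)) (g : SzG F s)
    (hg : g ∈ (P : Subgroup (SzG F s))) (h1 : g ≠ 1) : IsConj g g⁻¹ ↔ orderOf g = 2 := by
  haveI : Fact (Nat.Prime 2) := ⟨Nat.prime_two⟩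
  constructor
  · intro hconj
    obtain ⟨k, hk⟩ := isConj_iff.mp hconj
    obtain ⟨n, hn⟩ := P.isPGroup' ⟨g, hg⟩
    have hpow' : g ^ 2 ^ n = 1 := by
      have h := congrArg Subtype.val hn
      simpa using h
    have hpow : (g : SL4 F) ^ 2 ^ n = 1 := by
      have h := congrArg Subtype.val hpow'
      simpa using h
    have hg1 : (g : SL4 F) ≠ 1 := fun h => h1 (Subtype.ext h)
    obtain ⟨k₁, hk₁, a, b, hab, hc⟩ := two_elt_conj D g.2 hpow hg1
    have hk' : (k : SL4 F) * (g : SL4 F) * (k : SL4 F)⁻¹ = (g : SL4 F)⁻¹ :=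
      congrArg Subtype.val hk
    have hreal : (k₁ * (k : SL4 F) * k₁⁻¹) * tS s a b =
        tS s a (b + a ^ (s + 1)) * (k₁ * (k : SL4 F) * k₁⁻¹) := by
      rw [← tS_inv D, ← hc]
      have h2 : (k : SL4 F) * (g : SL4 F) = (g : SL4 F)⁻¹ * (k : SL4 F) := by
        rw [← hk']; group
      calc k₁ * (k : SL4 F) * k₁⁻¹ * (k₁ * (g : SL4 F) * k₁⁻¹)
          = k₁ * ((k : SL4 F) * (g : SL4 F)) * k₁⁻¹ := by group
        _ = k₁ * ((g : SL4 F)⁻¹ * (k : SL4 F)) * k₁⁻¹ := by rw [h2]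
        _ = (k₁ * (g : SL4 F) * k₁⁻¹)⁻¹ * (k₁ * (k : SL4 F) * k₁⁻¹) := by group
    have ha0 := unip_not_real D (mul_mem (mul_mem hk₁ k.2) (inv_mem hk₁)) hreal
    have hsq : (k₁ * (g : SL4 F) * k₁⁻¹) ^ 2 = 1 := by
      rw [hc, ha0, sq, tS_mul D]
      have e1 : (0 : F) + 0 = 0 := add_zero 0
      have e2 : b + b + (0 : F) ^ s * 0 = 0 := by rw [mul_zero, add_zero]; exact D.add_self b
      rw [e1, e2, tS_zero D]
    rw [conj_pow] at hsq
    have hg2 : (g : SL4 F) ^ 2 = 1 := conj_eq_one_iff.mp hsq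
    have hg2' : g ^ 2 = 1 := Subtype.ext hg2
    exact orderOf_eq_prime hg2' h1
  · intro h
    have hg2 : g ^ 2 = 1 := by rw [← h]; exact pow_orderOf_eq_one g
    have hinv : g⁻¹ = g := inv_eq_of_mul_eq_one_right (by rw [← sq]; exact hg2)
    rw [hinv]

/-! ### the Borel subgroup is maximal -/

theorem SzData.card_pow (D : SzData F s) : ∃ n : ℕ, Fintype.card F = 2 ^ n := by
  haveI : CharP F 2 := CharTwo.of_one_ne_zero_of_two_eq_zero one_ne_zero D.two
  obtain ⟨n, -, hn⟩ := FiniteField.card F 2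
  exact ⟨n, hn⟩

/-- Every Sylow `2`-subgroup is conjugate to the translation subgroup. -/
theorem sylow_conj (D : SzData F s) (P : Sylow 2 (SzG F s)) :
    ∃ k : SzG F s, ∀ g : SzG F s, g ∈ (P : Subgroup (SzG F s)) ↔ k⁻¹ * g * k ∈ Usub D := by
  obtain ⟨n, hn⟩ := D.card_pow
  haveI : Fact (Nat.Prime 2) := ⟨Nat.prime_two⟩
  have hUp : IsPGroup 2 (Usub D) := fun u => ⟨2, tU_pow_four D u⟩
  obtain ⟨S0, hS0⟩ := hUp.exists_le_sylow
  have hQS : Usub D = (S0 : Subgroup (SzG F s)) :=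
    Subgroup.eq_of_le_of_card_ge hS0 (by rw [(sylow_props D hn S0).1, card_U D])
  obtain ⟨k, hk⟩ := MulAction.exists_smul_eq (SzG F s) S0 P
  subst hk
  refine ⟨k, fun g => ?_⟩
  rw [hQS]
  show g ∈ MulAut.conj k • (S0 : Subgroup (SzG F s)) ↔ _
  rw [Subgroup.mem_pointwise_smul_iff_inv_smul_mem]
  exact Iff.rfl

theorem U_conj_mem (D : SzData F s) {g u : SzG F s} (hg : (g : SL4 F) • Pinf F = Pinf F)
    (hu : u ∈ Usub D) : g * u * g⁻¹ ∈ Usub D := by
  obtain ⟨a', b', c, hg'⟩ := stab_one D g.2 hg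
  obtain ⟨a, b, hu'⟩ := hu
  have hg2 : g = tG D a' b' * hG D c := Subtype.ext hg'
  have hu2 : u = tG D a b := Subtype.ext hu'
  have h : g * u * g⁻¹ = tG D a' b' * (hG D c * tG D a b * (hG D c)⁻¹) * (tG D a' b')⁻¹ := by
    rw [hg2, hu2]; group
  rw [h, hG_conj_tG]
  have hmem : ∀ x y : F, tG D x y ∈ Usub D := fun x y => ⟨x, y, rfl⟩
  exact mul_mem (mul_mem (hmem _ _) (hmem _ _)) (inv_mem (hmem _ _))

/-- The normaliser of a Sylow `2`-subgroup is a point stabiliser. -/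
theorem normalizer_sylow (D : SzData F s) (P : Sylow 2 (SzG F s)) :
    ∃ a ∈ ov F s,
      Subgroup.normalizer ((P : Subgroup (SzG F s)) : Set (SzG F s)) =
        MulAction.stabilizer (SzG F s) a ∧
      (∀ x ∈ ov F s, ∀ y ∈ ov F s, x ≠ a → y ≠ a →
        ∃ p ∈ (P : Subgroup (SzG F s)), (p : SL4 F) • x = y) ∧
      (P : Subgroup (SzG F s)) ≠ ⊥ := by
  obtain ⟨k, hk⟩ := sylow_conj D P
  have hmemU : ∀ x y : F, tG D x y ∈ Usub D := fun x y => ⟨x, y, rfl⟩
  have hPmem : ∀ u ∈ Usub D, k * u * k⁻¹ ∈ (P : Subgroup (SzG F s)) := by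
    intro u hu
    rw [hk]
    have h : k⁻¹ * (k * u * k⁻¹) * k = u := by group
    rw [h]; exact hu
  have ht1 : tG D (1 : F) 0 ≠ 1 := by
    intro h
    have h' : tS s (1 : F) 0 = tS s 0 0 := by rw [tS_zero D]; exact congrArg Subtype.val h
    exact one_ne_zero (tS_inj D h').1
  refine ⟨(k : SL4 F) • Pinf F, smul_mem_ov k.2 inf_mem, ?_, ?_, ?_⟩
  · ext g
    rw [Subgroup.mem_set_normalizer_iff, MulAction.mem_stabilizer_iff]
    constructor
    · intro hN
      have h1 := (hk _).mp ((hN _).mp (hPmem _ (hmemU 1 0)))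
      have h2 : k⁻¹ * (g * (k * tG D 1 0 * k⁻¹) * g⁻¹) * k =
          (k⁻¹ * g * k) * tG D 1 0 * (k⁻¹ * g * k)⁻¹ := by group
      rw [h2] at h1
      obtain ⟨a₁, b₁, h3⟩ := h1
      have h3' : ((k⁻¹ * g * k : SzG F s) : SL4 F) * tS s 1 0 *
          ((k⁻¹ * g * k : SzG F s) : SL4 F)⁻¹ = tS s a₁ b₁ := h3
      have hne : ¬ (a₁ = 0 ∧ b₁ = 0) := by
        rintro ⟨rfl, rfl⟩
        rw [tS_zero D] at h3'
        exact ht1 (Subtype.ext (conj_eq_one_iff.mp h3'))
      have hfix : tS s a₁ b₁ • (((k⁻¹ * g * k : SzG F s) : SL4 F) • Pinf F) =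
          ((k⁻¹ * g * k : SzG F s) : SL4 F) • Pinf F := by
        rw [← h3', mul_smul, mul_smul, inv_smul_smul, tS_inf]
      have h4 := unip_fix D hne (smul_mem_ov (k⁻¹ * g * k).2 inf_mem) hfix
      show (g : SL4 F) • ((k : SL4 F) • Pinf F) = (k : SL4 F) • Pinf F
      have h5 : ((k : SL4 F)⁻¹ * (g : SL4 F) * (k : SL4 F)) • Pinf F = Pinf F := h4
      rw [mul_smul, mul_smul, inv_smul_eq_iff] at h5
      exact h5
    · intro hg h
      have hg' : (g : SL4 F) • ((k : SL4 F) • Pinf F) = (k : SL4 F) • Pinf F := hg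
      have hc : ((k⁻¹ * g * k : SzG F s) : SL4 F) • Pinf F = Pinf F := by
        show ((k : SL4 F)⁻¹ * (g : SL4 F) * (k : SL4 F)) • Pinf F = Pinf F
        rw [mul_smul, mul_smul, hg', inv_smul_smul]
      have hc' : (((k⁻¹ * g * k)⁻¹ : SzG F s) : SL4 F) • Pinf F = Pinf F := by
        show ((k⁻¹ * g * k : SzG F s) : SL4 F)⁻¹ • Pinf F = Pinf F
        rw [inv_smul_eq_iff, hc]
      show h ∈ (P : Subgroup (SzG F s)) ↔ g * h * g⁻¹ ∈ (P : Subgroup (SzG F s))
      rw [hk h, hk (g * h * g⁻¹)]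
      have h2 : k⁻¹ * (g * h * g⁻¹) * k =
          (k⁻¹ * g * k) * (k⁻¹ * h * k) * (k⁻¹ * g * k)⁻¹ := by group
      rw [h2]
      constructor
      · intro hu
        exact U_conj_mem D hc hu
      · intro hu
        have h3 := U_conj_mem D hc' hu
        have h4 : (k⁻¹ * g * k)⁻¹ * ((k⁻¹ * g * k) * (k⁻¹ * h * k) * (k⁻¹ * g * k)⁻¹) *
            ((k⁻¹ * g * k)⁻¹)⁻¹ = k⁻¹ * h * k := by group
        rw [h4] at h3
        exact h3
  · intro x hx y hy hxa hya
    have hx' : (k : SL4 F)⁻¹ • x ∈ ov F s := smul_mem_ov (inv_mem k.2) hx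
    have hy' : (k : SL4 F)⁻¹ • y ∈ ov F s := smul_mem_ov (inv_mem k.2) hy
    rcases mem_ov.mp hx' with h | ⟨x₁, y₁, hx₁⟩
    · exact absurd (inv_smul_eq_iff.mp h) hxa
    rcases mem_ov.mp hy' with h | ⟨x₂, y₂, hy₂⟩
    · exact absurd (inv_smul_eq_iff.mp h) hya
    refine ⟨k * tG D (x₂ - x₁) (y₂ - y₁ - (x₂ - x₁) ^ s * x₁) * k⁻¹, hPmem _ (hmemU _ _), ?_⟩
    show ((k : SL4 F) * tS s (x₂ - x₁) (y₂ - y₁ - (x₂ - x₁) ^ s * x₁) * (k : SL4 F)⁻¹) • x = y
    rw [mul_smul, mul_smul, hx₁, tS_aff D]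
    have e1 : x₁ + (x₂ - x₁) = x₂ := by ring
    have e2 : y₁ + (y₂ - y₁ - (x₂ - x₁) ^ s * x₁) + (x₂ - x₁) ^ s * x₁ = y₂ := by ring
    rw [e1, e2, ← hy₂, smul_inv_smul]
  · intro hbot
    have h := hPmem _ (hmemU 1 0)
    rw [hbot, Subgroup.mem_bot] at h
    exact ht1 (conj_eq_one_iff.mp h)

/-- Point stabilisers are maximal subgroups. -/
theorem stab_coatom (D : SzData F s) {a : Projectivization F (Fin 4 → F)} (ha : a ∈ ov F s) :
    IsCoatom (MulAction.stabilizer (SzG F s) a) := by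
  constructor
  · intro htop
    obtain ⟨b, hb, hba⟩ : ∃ b ∈ ov F s, b ≠ a := by
      by_cases h : a = Pinf F
      · exact ⟨P0 F, zero_mem D, by rw [h]; exact P0_ne_inf⟩
      · exact ⟨Pinf F, inf_mem, fun h' => h h'.symm⟩
    obtain ⟨g, hg, hga, -⟩ := two_trans D ha hb hb ha (Ne.symm hba) hba
    have h : (⟨g, hg⟩ : SzG F s) ∈ MulAction.stabilizer (SzG F s) a := by
      rw [htop]; exact Subgroup.mem_top _
    have h' : g • a = a := h
    exact hba (hga.symm.trans h')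
  · intro M hM
    obtain ⟨m, hmM, hm⟩ := SetLike.exists_of_lt hM
    rw [eq_top_iff]
    intro g _
    have hle := hM.le
    by_cases hg : (g : SL4 F) • a = a
    · exact hle hg
    · have hma : (m : SL4 F) • a ≠ a := hm
      obtain ⟨b, hb, hba, hbm⟩ := two_trans D ha (smul_mem_ov m.2 ha) ha (smul_mem_ov g.2 ha)
        (Ne.symm hma) (Ne.symm hg)
      have h1 : (⟨b, hb⟩ : SzG F s) ∈ M := hle hba
      have h2 : ((⟨b, hb⟩ : SzG F s) * m)⁻¹ * g ∈ M := hle (by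
        show ((b * (m : SL4 F))⁻¹ * (g : SL4 F)) • a = a
        rw [mul_smul, inv_smul_eq_iff, mul_smul]
        exact hbm.symm)
      have h3 : g = ((⟨b, hb⟩ : SzG F s) * m) * (((⟨b, hb⟩ : SzG F s) * m)⁻¹ * g) := by group
      rw [h3]; exact mul_mem (mul_mem h1 hmM) h2

/-- The normaliser of a Sylow `2`-subgroup is the unique maximal subgroup containing it. -/
theorem borel_max (D : SzData F s) (P : Sylow 2 (SzG F s)) :
    IsCoatom (Subgroup.normalizer ((P : Subgroup (SzG F s)) : Set (SzG F s))) ∧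
    ∀ M : Subgroup (SzG F s), IsCoatom M → (P : Subgroup (SzG F s)) ≤ M →
      M = Subgroup.normalizer ((P : Subgroup (SzG F s)) : Set (SzG F s)) := by
  obtain ⟨a, ha, hN, htr, hPne⟩ := normalizer_sylow D P
  refine ⟨by rw [hN]; exact stab_coatom D ha, ?_⟩
  intro M hM hPM
  by_contra hne
  rw [hN] at hne
  have hnle : ¬ M ≤ MulAction.stabilizer (SzG F s) a := by
    intro hle
    rcases hle.lt_or_eq with hlt | heq
    · exact (stab_coatom D ha).1 (hM.2 _ hlt)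
    · exact hne heq
  obtain ⟨m, hmM, hm⟩ := SetLike.not_le_iff_exists.mp hnle
  have hma : (m : SL4 F) • a ≠ a := hm
  have htrans : ∀ g : SzG F s, ∃ m' ∈ M, (m' : SL4 F) • a = (g : SL4 F) • a := by
    intro g
    by_cases hg : (g : SL4 F) • a = a
    · exact ⟨1, one_mem M, by rw [hg, Subgroup.coe_one, one_smul]⟩
    · obtain ⟨p, hp, hpx⟩ := htr _ (smul_mem_ov m.2 ha) _ (smul_mem_ov g.2 ha) hma hg
      exact ⟨p * m, mul_mem (hPM hp) hmM, by
        show ((p : SL4 F) * (m : SL4 F)) • a = _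
        rw [mul_smul, hpx]⟩
  have hconj : ∀ g : SzG F s, ∀ h ∈ (P : Subgroup (SzG F s)), g * h * g⁻¹ ∈ M := by
    intro g h hh
    obtain ⟨m', hm'M, hm'⟩ := htrans g
    have hb : m'⁻¹ * g ∈ Subgroup.normalizer ((P : Subgroup (SzG F s)) : Set (SzG F s)) := by
      rw [hN]
      show ((m' : SL4 F)⁻¹ * (g : SL4 F)) • a = a
      rw [mul_smul, ← hm', inv_smul_smul]
    have h1 : (m'⁻¹ * g) * h * (m'⁻¹ * g)⁻¹ ∈ (P : Subgroup (SzG F s)) :=
      (Subgroup.mem_set_normalizer_iff.mp hb h).mp hh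
    have h2 : g * h * g⁻¹ = m' * ((m'⁻¹ * g) * h * (m'⁻¹ * g)⁻¹) * m'⁻¹ := by group
    rw [h2]
    exact mul_mem (mul_mem hm'M (hPM h1)) (inv_mem hm'M)
  have hncl : Subgroup.normalClosure ((P : Subgroup (SzG F s)) : Set (SzG F s)) ≤ M := by
    unfold Subgroup.normalClosure
    rw [Subgroup.closure_le]
    intro x hx
    obtain ⟨h, hh, hc⟩ := Group.mem_conjugatesOfSet_iff.mp hx
    obtain ⟨g, rfl⟩ := isConj_iff.mp hc
    exact hconj g h hh
  have hsimple := simple D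
  have htop : Subgroup.normalClosure ((P : Subgroup (SzG F s)) : Set (SzG F s)) = ⊤ := by
    rcases hsimple.eq_bot_or_eq_top_of_normal _ Subgroup.normalClosure_normal with h | h
    · exfalso
      apply hPne
      rw [eq_bot_iff, ← h]
      exact Subgroup.le_normalClosure
    · exact h
  rw [htop] at hncl
  exact hM.1 (top_le_iff.mp hncl)

end Cfsg.Agent.Helper6.Sz
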