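import Mathlib
import Cfsg.Agent.Helper6.SzMore

set_option autoImplicit false

/-!
Fixed-point-free elements of the Suzuki group `Sz(q)` acting on the Suzuki–Tits ovoid and their
centralisers (the cyclic "non-split tori").
-/

namespace Cfsg.Agent.Helper6.Sz

open Matrix
open scoped Pointwise

variable {F : Type*} [Field F] [Fintype F] {s : ℕ}

/-- fixed-point-free on the ovoid -/
def Fpf (s : ℕ) (g : SL4 F) : Prop := ∀ a ∈ ov F s, g • a ≠ a

omit [Fintype F] in
theorem conj_smul (k g : SL4 F) (a : Projectivization F (Fin 4 → F)) :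
    (k * g * k⁻¹) • (k • a) = k • (g • a) := by
  rw [mul_smul, mul_smul, inv_smul_smul]

omit [Fintype F] in
theorem fpf_ne_one {g : SL4 F} (h : Fpf s g) : g ≠ 1 := by
  rintro rfl
  exact h _ inf_mem (one_smul _ _)

omit [Fintype F] in
theorem fpf_conj {g k : SL4 F} (hk : k ∈ SzG F s) (h : Fpf s g) : Fpf s (k * g * k⁻¹) := by
  intro a ha hfix
  apply h (k⁻¹ • a) (smul_mem_ov (inv_mem hk) ha)
  have h1 : (k * g * k⁻¹) • a = a := hfix
  rw [mul_smul, mul_smul] at h1
  exact eq_inv_smul_iff.mpr h1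

theorem SzData.eight_le (D : SzData F s) : 8 ≤ Fintype.card F := by
  have h1 := D.card
  have h2 := D.four
  obtain ⟨k, hk⟩ := D.two_dvd_card
  omega

theorem SzData.not_three_dvd (D : SzData F s) : ¬ 3 ∣ Fintype.card F ^ 2 + 1 := by
  obtain ⟨n, hn⟩ := D.card_pow
  have e : Fintype.card F ^ 2 = 4 ^ n := by
    rw [hn, ← pow_mul, mul_comm, pow_mul]; norm_num
  rw [e]
  intro h
  have h1 : 4 ^ n % 3 = 1 := by
    rw [Nat.pow_mod]; norm_num
  generalize 4 ^ n = x at h h1
  omega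

theorem SzData.prime_not_dvd (D : SzData F s) {p : ℕ} (hp : p.Prime) (hp2 : p ≠ 2)
    (hdvd : p ∣ Fintype.card F ^ 2 + 1) : ¬ p ∣ Fintype.card F ^ 2 * (Fintype.card F - 1) := by
  intro h
  have hq := D.eight_le
  rcases (Nat.Prime.dvd_mul hp).mp h with h1 | h1
  · have h2 : p ∣ 1 := (Nat.dvd_add_right h1).mp hdvd
    exact hp.one_lt.ne' (Nat.dvd_one.mp h2)
  · have h2 : p ∣ (Fintype.card F - 1) * (Fintype.card F + 1) := Dvd.dvd.mul_right h1 _
    have e : (Fintype.card F - 1) * (Fintype.card F + 1) + 2 = Fintype.card F ^ 2 + 1 := by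
      obtain ⟨Q, hQ⟩ : ∃ Q, Fintype.card F = Q + 1 := ⟨Fintype.card F - 1, by omega⟩
      rw [hQ, Nat.add_sub_cancel]; ring
    rw [← e] at hdvd
    have h3 : p ∣ 2 := (Nat.dvd_add_right h2).mp hdvd
    exact hp2 ((Nat.prime_dvd_prime_iff_eq hp Nat.prime_two).mp h3)

/-- A power of a fixed-point-free element which fixes a point is trivial. -/
theorem fpf_pow (D : SzData F s) {g : SL4 F} (hg : g ∈ SzG F s) (hf : Fpf s g) (n : ℕ)
    {a : Projectivization F (Fin 4 → F)} (ha : a ∈ ov F s) (hfix : g ^ n • a = a) :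
    g ^ n = 1 := by
  by_contra hne
  have hx : g ^ n ∈ SzG F s := pow_mem hg n
  have hcomm : ∀ b : Projectivization F (Fin 4 → F), g ^ n • b = b → g ^ n • (g • b) = g • b := by
    intro b hb
    rw [← mul_smul, pow_mul_comm', mul_smul, hb]
  have hb : g • a ∈ ov F s := smul_mem_ov hg ha
  have hc : g • (g • a) ∈ ov F s := smul_mem_ov hg hb
  have hab : a ≠ g • a := fun h => hf a ha h.symm
  have hbc : g • a ≠ g • (g • a) := fun h => hf _ hb h.symm
  by_cases hac : a = g • (g • a)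
  · obtain ⟨k, hk, hk1, hk2⟩ := exists_to_pair D ha hb hab
    have hg' : k * g * k⁻¹ ∈ SzG F s := mul_mem (mul_mem hk hg) (inv_mem hk)
    have h1 : (k * g * k⁻¹) • Pinf F = P0 F := by
      rw [← hk1, conj_smul, hk2]
    have h2 : (k * g * k⁻¹) • P0 F = Pinf F := by
      rw [← hk2, conj_smul, ← hac, hk1]
    obtain ⟨c, hc'⟩ := swap_inf D hg' h1 h2
    have hsq : (k * g * k⁻¹) ^ 2 ^ 1 = 1 := by
      rw [pow_one, pow_two, hc']
      calc wS D * hS s c * (wS D * hS s c) = (wS D * hS s c * wS D) * hS s c := by group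
        _ = 1 := by rw [wS_hS, ← hS_mul, inv_mul_cancel, hS_one]
    haveI : Fact (Nat.Prime 2) := ⟨Nat.prime_two⟩
    obtain ⟨a', ha', hfix'⟩ := exists_fix_of_pow (p := 2) (n := 1) D.not_two_dvd hg' hsq
    exact fpf_conj hk hf a' ha' hfix'
  · exact hne (eq_one_of_fix_three D hx ha hb hc hab hbc hac hfix (hcomm a hfix)
      (hcomm _ (hcomm a hfix)))

/-- An element of prime order `p` without fixed points: `p` is odd and divides `q² + 1`. -/
theorem prime_of_fpf_order (D : SzData F s) {z : SL4 F} (hz : z ∈ SzG F s) (hf : Fpf s z) {p : ℕ}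
    (hp : p.Prime) (hzp : z ^ p = 1) : p ≠ 2 ∧ p ∣ Fintype.card F ^ 2 + 1 := by
  haveI : Fact p.Prime := ⟨hp⟩
  have hz1 := fpf_ne_one hf
  have hp2 : p ≠ 2 := by
    intro h2
    rw [h2] at hzp
    haveI : Fact (Nat.Prime 2) := ⟨Nat.prime_two⟩
    obtain ⟨a, ha, hfix⟩ := exists_fix_of_pow (p := 2) (n := 1) D.not_two_dvd hz
      (by rwa [pow_one])
    exact hf a ha hfix
  refine ⟨hp2, ?_⟩
  rcases odd_cases D hp2 hz hzp hz1 with h | ⟨k, hk, c, -, hc⟩
  · exact h
  · exfalso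
    apply hf (k⁻¹ • Pinf F) (smul_mem_ov (inv_mem hk) inf_mem)
    have h1 : (k * z * k⁻¹) • Pinf F = Pinf F := by rw [hc]; exact hS_inf c
    rw [mul_smul, mul_smul] at h1
    exact eq_inv_smul_iff.mpr h1

/-- A fixed-point-free element has a power of odd prime order `p ∣ q² + 1`. -/
theorem fpf_prime (D : SzData F s) {g : SL4 F} (hg : g ∈ SzG F s) (hf : Fpf s g) :
    ∃ p : ℕ, p.Prime ∧ p ≠ 2 ∧ p ∣ Fintype.card F ^ 2 + 1 ∧
      ∃ n : ℕ, (g ^ n) ^ p = 1 ∧ g ^ n ≠ 1 := by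
  have hg1 : g ≠ 1 := fpf_ne_one hf
  have hord : orderOf g ≠ 1 := fun h => hg1 (orderOf_eq_one_iff.mp h)
  obtain ⟨p, hp, hpd⟩ := Nat.exists_prime_and_dvd hord
  obtain ⟨n, hn⟩ := hpd
  have hpos : 0 < orderOf g := orderOf_pos g
  have hn0 : n ≠ 0 := by
    rintro rfl
    rw [mul_zero] at hn
    omega
  have hlt : n < orderOf g := by
    rw [hn]
    have h2 := hp.two_le
    nlinarith [Nat.pos_of_ne_zero hn0]
  have hx1 : g ^ n ≠ 1 := pow_ne_one_of_lt_orderOf hn0 hlt
  have hxp : (g ^ n) ^ p = 1 := by rw [← pow_mul, mul_comm, ← hn, pow_orderOf_eq_one]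
  have hx : g ^ n ∈ SzG F s := pow_mem hg n
  have hnofix : Fpf s (g ^ n) := fun a ha h => hx1 (fpf_pow D hg hf n ha h)
  obtain ⟨hp2, hdvd⟩ := prime_of_fpf_order D hx hnofix hp hxp
  exact ⟨p, hp, hp2, hdvd, n, hxp, hx1⟩

/-- The centraliser of a fixed-point-free element is commutative. -/
theorem fpf_P1 (D : SzData F s) {g : SL4 F} (hg : g ∈ SzG F s) (hf : Fpf s g) : P1 s g := by
  obtain ⟨p, hp, hp2, hdvd, n, hxp, hx1⟩ := fpf_prime D hg hf
  haveI : Fact p.Prime := ⟨hp⟩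
  exact P1_of_pow n (P1_irr hp2 hdvd hxp hx1)

/-- An element of odd prime order `p ∣ q² + 1` is fixed-point-free. -/
theorem fpf_of_order (D : SzData F s) {p : ℕ} (hp : p.Prime) (hp2 : p ≠ 2)
    (hdvd : p ∣ Fintype.card F ^ 2 + 1) {y : SL4 F} (hy : y ∈ SzG F s) (hyp : y ^ p = 1)
    (hy1 : y ≠ 1) : Fpf s y := by
  intro a ha hfix
  have hnd := D.prime_not_dvd hp hp2 hdvd
  obtain ⟨k, hk, h | ⟨c, hc⟩⟩ := fix_cases D hy ha hfix
  · obtain ⟨a', b', h⟩ := h
    have h4 : (k * y * k⁻¹) ^ 4 = 1 := by rw [h]; exact tS_pow_four D a' b'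
    have hp' : (k * y * k⁻¹) ^ p = 1 := by rw [conj_pow, hyp, mul_one, mul_inv_cancel]
    have hcop : Nat.Coprime (2 ^ 2) p :=
      Nat.Coprime.pow_left 2 ((Nat.coprime_primes Nat.prime_two hp).mpr (Ne.symm hp2))
    have h5 := Nat.dvd_gcd (orderOf_dvd_of_pow_eq_one h4) (orderOf_dvd_of_pow_eq_one hp')
    have h6 : Nat.gcd 4 p = 1 := hcop
    rw [h6] at h5
    exact hy1 (conj_eq_one_iff.mp (orderOf_eq_one_iff.mp (Nat.dvd_one.mp h5)))
  · have hq : (k * y * k⁻¹) ^ (Fintype.card F - 1) = 1 := by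
      have hc1 : c ^ (Fintype.card F - 1) = 1 := by
        rw [← Nat.card_eq_fintype_card, ← Nat.card_units]; exact pow_card_eq_one'
      rw [hc, ← hS_pow, hc1, hS_one]
    have hp' : (k * y * k⁻¹) ^ p = 1 := by rw [conj_pow, hyp, mul_one, mul_inv_cancel]
    have hcop : Nat.Coprime p (Fintype.card F - 1) :=
      (Nat.Prime.coprime_iff_not_dvd hp).mpr (fun h => hnd (Dvd.dvd.mul_left h _))
    have h5 := Nat.dvd_gcd (orderOf_dvd_of_pow_eq_one hp') (orderOf_dvd_of_pow_eq_one hq)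
    have h6 : Nat.gcd p (Fintype.card F - 1) = 1 := hcop
    rw [h6] at h5
    exact hy1 (conj_eq_one_iff.mp (orderOf_eq_one_iff.mp (Nat.dvd_one.mp h5)))

/-! ### centralisers of fixed-point-free elements, in the group `Sz` -/

theorem cent_comm_fpf (D : SzData F s) {g : SzG F s} (hf : Fpf s (g : SL4 F)) {e e' : SzG F s}
    (he : e ∈ Subgroup.centralizer ({g} : Set (SzG F s)))
    (he' : e' ∈ Subgroup.centralizer ({g} : Set (SzG F s))) : e * e' = e' * e :=
  Subtype.ext (fpf_P1 D g.2 hf e e' e.2 e'.2 (comm_of g e he) (comm_of g e' he'))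

theorem cent_cyclic_fpf (D : SzData F s) {g : SzG F s} (hf : Fpf s (g : SL4 F)) :
    IsCyclic (Subgroup.centralizer ({g} : Set (SzG F s))) := by
  obtain ⟨p, hp, hp2, hdvd, n, hxp, hx1⟩ := fpf_prime D g.2 hf
  haveI : Fact p.Prime := ⟨hp⟩
  have hirr := irr_of_order hp2 hdvd hxp hx1
  let ψ : ↥(Subgroup.centralizer ({g} : Set (SzG F s))) →* Matrix (Fin 4) (Fin 4) F :=
    { toFun := fun e => (((e : SzG F s) : SL4 F) : Matrix (Fin 4) (Fin 4) F)
      map_one' := rfl
      map_mul' := fun e e' => rfl }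
  refine cyclic_of_cent hirr ψ (fun e e' h => Subtype.ext (Subtype.ext (Subtype.ext h)))
    (fun e => ?_)
  have h1 : ((e : SzG F s) : SL4 F) * (g : SL4 F) = (g : SL4 F) * ((e : SzG F s) : SL4 F) :=
    comm_of g e e.2
  have h2 : ((e : SzG F s) : SL4 F) * (g : SL4 F) ^ n = (g : SL4 F) ^ n * ((e : SzG F s) : SL4 F) :=
    Commute.pow_right h1 n
  exact congrArg Subtype.val h2

/-- Non-identity elements of the centraliser of a fixed-point-free element are fixed-point-free. -/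
theorem fpf_of_cent (D : SzData F s) {g u : SzG F s} (hf : Fpf s (g : SL4 F))
    (hu : u ∈ Subgroup.centralizer ({g} : Set (SzG F s))) (hu1 : u ≠ 1) : Fpf s (u : SL4 F) := by
  intro b hb hfix
  have hcomm : (u : SL4 F) * (g : SL4 F) = (g : SL4 F) * (u : SL4 F) := comm_of g u hu
  have hmove : ∀ c : Projectivization F (Fin 4 → F), (u : SL4 F) • c = c →
      (u : SL4 F) • ((g : SL4 F) • c) = (g : SL4 F) • c := by
    intro c hc
    rw [← mul_smul, hcomm, mul_smul, hc]
  have hgb : (g : SL4 F) • b ∈ ov F s := smul_mem_ov g.2 hb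
  have hggb : (g : SL4 F) • ((g : SL4 F) • b) ∈ ov F s := smul_mem_ov g.2 hgb
  have h1 : b ≠ (g : SL4 F) • b := fun h => hf b hb h.symm
  have h2 : (g : SL4 F) • b ≠ (g : SL4 F) • ((g : SL4 F) • b) := fun h => hf _ hgb h.symm
  have h3 : b ≠ (g : SL4 F) • ((g : SL4 F) • b) := by
    intro h
    have hsq : (g : SL4 F) ^ 2 • b = b := by rw [pow_two, mul_smul]; exact h.symm
    have hone : (g : SL4 F) ^ 2 = 1 := fpf_pow D g.2 hf 2 hb hsq
    haveI : Fact (Nat.Prime 2) := ⟨Nat.prime_two⟩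
    obtain ⟨a', ha', hfix'⟩ := exists_fix_of_pow (p := 2) (n := 1) D.not_two_dvd g.2
      (by rw [pow_one]; exact hone)
    exact hf a' ha' hfix'
  have hu' : (u : SL4 F) = 1 := eq_one_of_fix_three D u.2 hb hgb hggb h1 h2 h3 hfix
    (hmove b hfix) (hmove _ (hmove b hfix))
  exact hu1 (Subtype.ext hu')

/-- The centraliser of a fixed-point-free element is the centraliser of each of its non-identity
elements. -/
theorem cent_eq_of_mem (D : SzData F s) {g u : SzG F s} (hf : Fpf s (g : SL4 F))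
    (hu : u ∈ Subgroup.centralizer ({g} : Set (SzG F s))) (hu1 : u ≠ 1) :
    Subgroup.centralizer ({u} : Set (SzG F s)) = Subgroup.centralizer ({g} : Set (SzG F s)) := by
  have hfu := fpf_of_cent D hf hu hu1
  have hgu : g ∈ Subgroup.centralizer ({u} : Set (SzG F s)) := by
    rw [Subgroup.mem_centralizer_singleton_iff] at hu ⊢
    exact hu.symm
  apply le_antisymm
  · intro e he
    rw [Subgroup.mem_centralizer_singleton_iff]
    exact cent_comm_fpf D hfu he hgu
  · intro e he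
    rw [Subgroup.mem_centralizer_singleton_iff]
    exact cent_comm_fpf D hf he hu

/-- The order of the centraliser of a fixed-point-free element divides `q² + 1`. -/
theorem card_cent_dvd (D : SzData F s) {g : SzG F s} (hf : Fpf s (g : SL4 F)) :
    Nat.card (Subgroup.centralizer ({g} : Set (SzG F s))) ∣ Fintype.card F ^ 2 + 1 := by
  have hcop : Nat.Coprime (Nat.card (Subgroup.centralizer ({g} : Set (SzG F s))))
      (Fintype.card F ^ 2 * (Fintype.card F - 1)) := by
    apply Nat.coprime_of_dvd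
    intro p hp hpA hpq
    haveI : Fact p.Prime := ⟨hp⟩
    obtain ⟨z, hz⟩ := exists_prime_orderOf_dvd_card' p hpA
    have hz1 : (z : SzG F s) ≠ 1 := by
      intro h
      have h' : z = 1 := Subtype.ext h
      rw [h', orderOf_one] at hz
      exact hp.one_lt.ne hz
    have hfz : Fpf s ((z : SzG F s) : SL4 F) := fpf_of_cent D hf z.2 hz1
    have hzp : ((z : SzG F s) : SL4 F) ^ p = 1 := by
      have h := pow_orderOf_eq_one z
      rw [hz] at h
      have h2 : (z : SzG F s) ^ p = 1 := by rw [← Subgroup.coe_pow, h, Subgroup.coe_one]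
      rw [← Subgroup.coe_pow, h2, Subgroup.coe_one]
    obtain ⟨hp2, hdvd⟩ := prime_of_fpf_order D (z : SzG F s).2 hfz hp hzp
    exact D.prime_not_dvd hp hp2 hdvd hpq
  have hdvd : Nat.card (Subgroup.centralizer ({g} : Set (SzG F s))) ∣ Nat.card (SzG F s) :=
    Subgroup.card_subgroup_dvd_card _
  rw [card_SzG D] at hdvd
  have e : Fintype.card F ^ 2 * (Fintype.card F ^ 2 + 1) * (Fintype.card F - 1) =
      (Fintype.card F ^ 2 * (Fintype.card F - 1)) * (Fintype.card F ^ 2 + 1) := by ring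
  rw [e] at hdvd
  exact hcop.dvd_of_dvd_mul_left hdvd

end Cfsg.Agent.Helper6.Sz
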