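import Mathlib
import Cfsg.Prelude.Def_Sz
import Cfsg.Agent.Helper6.SzMore

set_option autoImplicit false

/-!
The Suzuki group of Lie type `Cfsg.Lie.Sz F s` (generated by the symplectic matrices `g` with `g* = g^θ`)
coincides with the image in `GL₄` of the stabiliser of the Suzuki–Tits ovoid in `SL₄`.
-/

namespace Cfsg.Agent.Helper6.Sz

open Matrix
open scoped Pointwise

variable {F : Type*} [Field F] [Fintype F] {s : ℕ}

/-- the symplectic condition for the antidiagonal form -/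
def Symp (M : Matrix (Fin 4) (Fin 4) F) : Prop := Mᵀ * wM F * M = wM F

omit [Fintype F] in
theorem symp_entry (M : Matrix (Fin 4) (Fin 4) F) (i j : Fin 4) :
    (Mᵀ * wM F * M) i j = M 0 i * M 3 j + M 1 i * M 2 j + M 2 i * M 1 j + M 3 i * M 0 j := by
  simp [Matrix.mul_apply, Fin.sum_univ_four, wM]
  ring

omit [Fintype F] in
theorem symp_entry' (M : Matrix (Fin 4) (Fin 4) F) (k l : Fin 4) :
    (M * wM F * Mᵀ) k l = M k 0 * M l 3 + M k 1 * M l 2 + M k 2 * M l 1 + M k 3 * M l 0 := by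
  simp [Matrix.mul_apply, Fin.sum_univ_four, wM]
  ring

omit [Fintype F] in
theorem symp_transpose {M : Matrix (Fin 4) (Fin 4) F} (h : Symp M) : M * wM F * Mᵀ = wM F := by
  have h' : Mᵀ * wM F * M = wM F := h
  have h1 : (wM F * Mᵀ * wM F) * M = 1 := by
    calc wM F * Mᵀ * wM F * M = wM F * (Mᵀ * wM F * M) := by simp only [Matrix.mul_assoc]
      _ = 1 := by rw [h', wM_mul_self]
  have h2 : M * (wM F * Mᵀ * wM F) = 1 := mul_eq_one_comm.mp h1
  calc M * wM F * Mᵀ = M * (wM F * Mᵀ * wM F) * wM F := by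
        simp only [Matrix.mul_assoc, wM_mul_self, Matrix.mul_one]
    _ = wM F := by rw [h2, Matrix.one_mul]

omit [Fintype F] in
theorem symp_col {M : Matrix (Fin 4) (Fin 4) F} (h : Symp M) (i j : Fin 4) :
    M 0 i * M 3 j + M 1 i * M 2 j + M 2 i * M 1 j + M 3 i * M 0 j = wM F i j := by
  rw [← symp_entry]; exact congrFun (congrFun h i) j

omit [Fintype F] in
theorem symp_row {M : Matrix (Fin 4) (Fin 4) F} (h : Symp M) (k l : Fin 4) :
    M k 0 * M l 3 + M k 1 * M l 2 + M k 2 * M l 1 + M k 3 * M l 0 = wM F k l := by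
  rw [← symp_entry']; exact congrFun (congrFun (symp_transpose h) k) l

omit [Fintype F] in
theorem cb (two : (2 : F) = 0) (A B : Matrix (Fin 4) (Fin 4) F) (k l i j : Fin 4)
    (hA : A k 0 * A l 3 + A k 1 * A l 2 + A k 2 * A l 1 + A k 3 * A l 0 = 0)
    (hB : B 0 i * B 3 j + B 1 i * B 2 j + B 2 i * B 1 j + B 3 i * B 0 j = 0) :
    (A * B) k i * (A * B) l j - (A * B) l i * (A * B) k j =
      (A k 0 * A l 1 - A l 0 * A k 1) * (B 0 i * B 1 j - B 1 i * B 0 j) +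
      (A k 0 * A l 2 - A l 0 * A k 2) * (B 0 i * B 2 j - B 2 i * B 0 j) +
      (A k 1 * A l 3 - A l 1 * A k 3) * (B 1 i * B 3 j - B 3 i * B 1 j) +
      (A k 2 * A l 3 - A l 2 * A k 3) * (B 2 i * B 3 j - B 3 i * B 2 j) := by
  simp only [Matrix.mul_apply, Fin.sum_univ_four]
  linear_combination ((A k 0 * A l 3 - A l 0 * A k 3) * (B 0 i * B 3 j - B 3 i * B 0 j) +
    (A k 0 * A l 3 - A l 0 * A k 3) * (B 3 i * B 0 j + B 2 i * B 1 j) -
    (A l 0 * A k 3 + A l 1 * A k 2) * (B 1 i * B 2 j - B 2 i * B 1 j)) * two -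
    (A k 0 * A l 3 - A l 0 * A k 3) * hB + (B 1 i * B 2 j - B 2 i * B 1 j) * hA

theorem star4_mul (D : SzData F s) {A B : Matrix (Fin 4) (Fin 4) F} (hA : Symp A) (hB : Symp B) :
    Cfsg.Lie.star4 (A * B) = Cfsg.Lie.star4 A * Cfsg.Lie.star4 B := by
  ext p r
  have hp : A (Cfsg.Lie.pairOf p).1 0 * A (Cfsg.Lie.pairOf p).2 3 +
      A (Cfsg.Lie.pairOf p).1 1 * A (Cfsg.Lie.pairOf p).2 2 +
      A (Cfsg.Lie.pairOf p).1 2 * A (Cfsg.Lie.pairOf p).2 1 +
      A (Cfsg.Lie.pairOf p).1 3 * A (Cfsg.Lie.pairOf p).2 0 = 0 := by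
    rw [symp_row hA]; fin_cases p <;> simp [wM, Cfsg.Lie.pairOf]
  have hr : B 0 (Cfsg.Lie.pairOf r).1 * B 3 (Cfsg.Lie.pairOf r).2 +
      B 1 (Cfsg.Lie.pairOf r).1 * B 2 (Cfsg.Lie.pairOf r).2 +
      B 2 (Cfsg.Lie.pairOf r).1 * B 1 (Cfsg.Lie.pairOf r).2 +
      B 3 (Cfsg.Lie.pairOf r).1 * B 0 (Cfsg.Lie.pairOf r).2 = 0 := by
    rw [symp_col hB]; fin_cases r <;> simp [wM, Cfsg.Lie.pairOf]
  have h := cb D.two A B (Cfsg.Lie.pairOf p).1 (Cfsg.Lie.pairOf p).2 (Cfsg.Lie.pairOf r).1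
    (Cfsg.Lie.pairOf r).2 hp hr
  rw [Matrix.mul_apply, Fin.sum_univ_four]
  exact h

/-- the twisting endomorphism -/
def frob (D : SzData F s) : F →+* F where
  toFun x := x ^ s
  map_one' := one_pow s
  map_mul' x y := mul_pow x y s
  map_zero' := zero_pow D.s_ne
  map_add' x y := D.add x y

theorem map_pow_mul (D : SzData F s) (A B : Matrix (Fin 4) (Fin 4) F) :
    (A * B).map (fun x => x ^ s) = A.map (fun x => x ^ s) * B.map (fun x => x ^ s) :=
  Matrix.map_mul (f := frob D)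

/-- membership in the generating set of the Suzuki group (matrix form) -/
def Sm (s : ℕ) (M : Matrix (Fin 4) (Fin 4) F) : Prop :=
  Symp M ∧ Cfsg.Lie.star4 M = M.map (fun x => x ^ s)

theorem Sm_mul (D : SzData F s) {A B : Matrix (Fin 4) (Fin 4) F} (hA : Sm s A) (hB : Sm s B) :
    Sm s (A * B) :=
  ⟨symp_mul hA.1 hB.1, by rw [star4_mul D hA.1 hB.1, hA.2, hB.2, map_pow_mul D]⟩

theorem Sm_wM (D : SzData F s) : Sm s (wM F) := by
  refine ⟨wM_symp, ?_⟩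
  ext p r
  fin_cases p <;> fin_cases r <;> simp [Cfsg.Lie.star4, Cfsg.Lie.pairOf, wM, D.s_ne] <;>
    linear_combination (-1 : F) * D.two

theorem Sm_tM (D : SzData F s) (a b : F) : Sm s (tM s a b) := by
  refine ⟨tM_symp D a b, ?_⟩
  have h02 : (b + a ^ (s + 1)) ^ s = b ^ s + a ^ 2 * a ^ s := by
    rw [D.add, pow_succ, mul_pow, D.sq]
  have h03 : (fz s a b) ^ s = a ^ s * b ^ s + a ^ 2 * (a ^ s) ^ 2 + b ^ 2 := by
    unfold fz
    rw [D.add, D.add, mul_pow, pow_add, mul_pow, D.sq, D.sq, D.pow2]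
  have h12 : (a ^ s) ^ s = a ^ 2 := D.sq a
  ext p r
  fin_cases p <;> fin_cases r <;>
    simp [Cfsg.Lie.star4, Cfsg.Lie.pairOf, tM, D.s_ne, h02, h03, h12]
  · unfold fz; linear_combination (-(b ^ s) - a ^ (s + 2)) * D.two
  · unfold fz; linear_combination (-(a ^ 2 * (a ^ s) ^ 2) - a ^ s * b ^ s) * D.two
  · ring
  · unfold fz; linear_combination (-(b ^ s)) * D.two

theorem Sm_hM (D : SzData F s) {c : F} (hc : c ≠ 0) : Sm s (hM s c) := by
  refine ⟨hM_symp hc, ?_⟩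
  have hcd : c * c⁻¹ = 1 := mul_inv_cancel₀ hc
  have hcds : c ^ s * c⁻¹ ^ s = 1 := by rw [← mul_pow, hcd, one_pow]
  have h00 : (c ^ (s + 2)) ^ s = c ^ (s + 2) * c ^ s := by
    rw [pow_add, mul_pow, D.sq, D.pow2]; ring
  have h11 : (c ^ s) ^ s = c ^ (s + 2) * c⁻¹ ^ s := by
    rw [D.sq, pow_add]; linear_combination (-(c ^ 2)) * hcds
  have h22 : (c⁻¹ ^ s) ^ s = c ^ s * c⁻¹ ^ (s + 2) := by
    rw [D.sq, pow_add]; linear_combination (-(c⁻¹ ^ 2)) * hcds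
  have h33 : (c⁻¹ ^ (s + 2)) ^ s = c⁻¹ ^ s * c⁻¹ ^ (s + 2) := by
    rw [pow_add, mul_pow, D.sq, D.pow2]; ring
  ext p r
  fin_cases p <;> fin_cases r <;>
    simp only [Cfsg.Lie.star4, Cfsg.Lie.pairOf, hM, Matrix.of_apply, Matrix.map_apply,
      Matrix.cons_val', Matrix.cons_val_zero, Matrix.cons_val_one, Matrix.cons_val_two,
      Matrix.cons_val_three, Matrix.empty_val', Matrix.cons_val_fin_one, Matrix.head_cons,
      Matrix.tail_cons, Matrix.head_fin_const, Fin.zero_eta, Fin.mk_one, Fin.reduceFinMk,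
      zero_pow D.s_ne, mul_zero, zero_mul, sub_zero, h00, h11, h22, h33]

theorem Sm_of_mem (D : SzData F s) {g : SL4 F} (hg : g ∈ SzG F s) :
    Sm s (g : Matrix (Fin 4) (Fin 4) F) := by
  rcases SzG_cases D hg with ⟨a, b, c, rfl⟩ | ⟨a, b, a', b', c, rfl⟩
  · exact Sm_mul D (Sm_tM D a b) (Sm_hM D c.ne_zero)
  · exact Sm_mul D (Sm_mul D (Sm_tM D a b) (Sm_wM D))
      (Sm_mul D (Sm_tM D a' b') (Sm_hM D c.ne_zero))

/-- The first column of a matrix in the generating set is an ovoid vector. -/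
theorem first_col (D : SzData F s) {M : Matrix (Fin 4) (Fin 4) F} (hM : Sm s M) :
    (M 1 0 = 0 ∧ M 2 0 = 0 ∧ M 3 0 = 0) ∨
    (M 3 0 ≠ 0 ∧ ∃ x y : F, M 0 0 = M 3 0 * fz s x y ∧ M 1 0 = M 3 0 * y ∧ M 2 0 = M 3 0 * x) := by
  have hB := symp_col hM.1 0 1
  have hw : wM F 0 1 = 0 := by simp [wM]
  rw [hw] at hB
  have e1 : M 0 0 * M 2 1 - M 2 0 * M 0 1 = M 1 0 ^ s := congrFun (congrFun hM.2 1) 0
  have e2 : M 1 0 * M 3 1 - M 3 0 * M 1 1 = M 2 0 ^ s := congrFun (congrFun hM.2 2) 0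
  have e3 : M 2 0 * M 3 1 - M 3 0 * M 2 1 = M 3 0 ^ s := congrFun (congrFun hM.2 3) 0
  by_cases hv3 : M 3 0 = 0
  · left
    rw [hv3] at e2 e3 hB
    rw [zero_pow D.s_ne] at e3
    have hv2 : M 2 0 = 0 := by
      by_contra hne
      have hu3 : M 3 1 = 0 := by
        have h : M 2 0 * M 3 1 = 0 := by linear_combination e3
        exact (mul_eq_zero.mp h).resolve_left hne
      rw [hu3] at e2
      have h : M 2 0 ^ s = 0 := by linear_combination -e2
      exact hne ((pow_eq_zero_iff D.s_ne).mp h)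
    rw [hv2] at e1 e2 hB
    rw [zero_pow D.s_ne] at e2
    have hv1 : M 1 0 = 0 := by
      by_contra hne
      have hu3 : M 3 1 = 0 := by
        have h : M 1 0 * M 3 1 = 0 := by linear_combination e2
        exact (mul_eq_zero.mp h).resolve_left hne
      rw [hu3] at hB
      have hu2 : M 2 1 = 0 := by
        have h : M 1 0 * M 2 1 = 0 := by linear_combination hB
        exact (mul_eq_zero.mp h).resolve_left hne
      rw [hu2] at e1
      have h : M 1 0 ^ s = 0 := by linear_combination -e1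
      exact hne ((pow_eq_zero_iff D.s_ne).mp h)
    exact ⟨hv1, hv2, hv3⟩
  · right
    refine ⟨hv3, ?_⟩
    have hP : M 0 0 * M 3 0 ^ (s + 1) =
        M 1 0 * M 2 0 * M 3 0 ^ s + M 2 0 ^ (s + 2) + M 3 0 ^ 2 * M 1 0 ^ s := by
      linear_combination (-(M 3 0 ^ 2)) * e1 - (M 0 0 * M 3 0 + M 1 0 * M 2 0) * e3 -
        (M 2 0 * M 3 0) * hB - (M 2 0 ^ 2) * e2 +
        (M 0 0 * M 2 0 * M 3 0 * M 3 1 + M 1 0 * M 2 0 ^ 2 * M 3 1 - M 1 0 * M 2 0 * M 3 0 ^ s -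
          M 2 0 ^ (s + 2) - M 3 0 ^ 2 * M 1 0 ^ s) * D.two
    obtain ⟨x, hx⟩ : ∃ x, M 3 0 * x = M 2 0 := ⟨M 2 0 / M 3 0, mul_div_cancel₀ _ hv3⟩
    obtain ⟨y, hy⟩ : ∃ y, M 3 0 * y = M 1 0 := ⟨M 1 0 / M 3 0, mul_div_cancel₀ _ hv3⟩
    refine ⟨x, y, ?_, hy.symm, hx.symm⟩
    rw [← hx, ← hy] at hP
    have h : M 0 0 * M 3 0 ^ (s + 1) = (M 3 0 * fz s x y) * M 3 0 ^ (s + 1) := by
      unfold fz; rw [hP]; ring
    exact mul_right_cancel₀ (pow_ne_zero _ hv3) h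

/-- A matrix of the generating set fixing the two coordinate points is in the torus. -/
theorem diag_of (D : SzData F s) {M : Matrix (Fin 4) (Fin 4) F} (hSm : Sm s M)
    (h10 : M 1 0 = 0) (h20 : M 2 0 = 0) (h30 : M 3 0 = 0) (h03 : M 0 3 = 0) (h13 : M 1 3 = 0)
    (h23 : M 2 3 = 0) : ∃ c : Fˣ, M = hM s (c : F) := by
  have hw03 : wM F 0 3 = 1 := by simp [wM]
  have hw01 : wM F 0 1 = 0 := by simp [wM]
  have hw02 : wM F 0 2 = 0 := by simp [wM]
  have hw13 : wM F 1 3 = 0 := by simp [wM]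
  have hw23 : wM F 2 3 = 0 := by simp [wM]
  have hw12 : wM F 1 2 = 1 := by simp [wM]
  have c03 := symp_col hSm.1 0 3
  have c01 := symp_col hSm.1 0 1
  have c02 := symp_col hSm.1 0 2
  have c13 := symp_col hSm.1 1 3
  have c23 := symp_col hSm.1 2 3
  have c12 := symp_col hSm.1 1 2
  rw [h10, h20, h30, hw03] at c03
  rw [h10, h20, h30, hw01] at c01
  rw [h10, h20, h30, hw02] at c02
  rw [h13, h23, h03, hw13] at c13
  rw [h13, h23, h03, hw23] at c23
  have hlm : M 0 0 * M 3 3 = 1 := by linear_combination c03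
  have hl0 : M 0 0 ≠ 0 := left_ne_zero_of_mul_eq_one hlm
  have hm0 : M 3 3 ≠ 0 := right_ne_zero_of_mul_eq_one hlm
  have h31 : M 3 1 = 0 := by
    have h : M 0 0 * M 3 1 = 0 := by linear_combination c01
    exact (mul_eq_zero.mp h).resolve_left hl0
  have h32 : M 3 2 = 0 := by
    have h : M 0 0 * M 3 2 = 0 := by linear_combination c02
    exact (mul_eq_zero.mp h).resolve_left hl0
  have h01 : M 0 1 = 0 := by
    have h : M 0 1 * M 3 3 = 0 := by linear_combination c13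
    exact (mul_eq_zero.mp h).resolve_right hm0
  have h02 : M 0 2 = 0 := by
    have h : M 0 2 * M 3 3 = 0 := by linear_combination c23
    exact (mul_eq_zero.mp h).resolve_right hm0
  have s00 : M 0 0 * M 1 1 - M 1 0 * M 0 1 = M 0 0 ^ s := congrFun (congrFun hSm.2 0) 0
  have s10 : M 0 0 * M 2 1 - M 2 0 * M 0 1 = M 1 0 ^ s := congrFun (congrFun hSm.2 1) 0
  have s01 : M 0 0 * M 1 2 - M 1 0 * M 0 2 = M 0 1 ^ s := congrFun (congrFun hSm.2 0) 1
  have s11 : M 0 0 * M 2 2 - M 2 0 * M 0 2 = M 1 1 ^ s := congrFun (congrFun hSm.2 1) 1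
  have h21 : M 2 1 = 0 := by
    rw [h20, h10, zero_pow D.s_ne] at s10
    have h : M 0 0 * M 2 1 = 0 := by linear_combination s10
    exact (mul_eq_zero.mp h).resolve_left hl0
  have h12 : M 1 2 = 0 := by
    rw [h10, h01, zero_pow D.s_ne] at s01
    have h : M 0 0 * M 1 2 = 0 := by linear_combination s01
    exact (mul_eq_zero.mp h).resolve_left hl0
  have hA : M 0 0 * M 1 1 = M 0 0 ^ s := by rw [h10] at s00; linear_combination s00
  have hAD : M 1 1 * M 2 2 = 1 := by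
    rw [h01, h21, h31, hw12] at c12; linear_combination c12
  obtain ⟨c, hc⟩ := D.surj (M 1 1)
  have hc0 : c ≠ 0 := by
    rintro rfl
    rw [zero_pow D.s_ne] at hc
    rw [← hc, zero_mul] at hAD
    exact zero_ne_one hAD
  have hlam : M 0 0 = c ^ (s + 2) := by
    have h1 : M 0 0 ^ s = M 0 0 * c ^ s := by rw [hc]; exact hA.symm
    have h2 : M 0 0 ^ 2 = M 0 0 * c ^ s * c ^ 2 := by
      have h : (M 0 0 ^ s) ^ s = (M 0 0 * c ^ s) ^ s := by rw [h1]
      rw [D.sq, mul_pow, D.sq, h1] at h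
      exact h
    have h3 : M 0 0 * M 0 0 = M 0 0 * c ^ (s + 2) := by rw [pow_add]; linear_combination h2
    exact mul_left_cancel₀ hl0 h3
  have h22 : M 2 2 = c⁻¹ ^ s := by
    rw [inv_pow, hc]; exact eq_inv_of_mul_eq_one_right hAD
  have h33 : M 3 3 = c⁻¹ ^ (s + 2) := by
    rw [inv_pow, ← hlam]; exact eq_inv_of_mul_eq_one_right hlm
  refine ⟨Units.mk0 c hc0, ?_⟩
  rw [Units.val_mk0]
  exact ext4 hlam h01 h02 h03 h10 hc.symm h12 h13 h20 h21 h22 h23 h30 h31 h32 h33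

omit [Fintype F] in
theorem col_mul (K M : Matrix (Fin 4) (Fin 4) F) (j : Fin 4) {l : F} {v w : Fin 4 → F}
    (hcol : ∀ a, M a j = l * v a) (hK : K *ᵥ v = w) (i : Fin 4) : (K * M) i j = l * w i := by
  have h1 : (fun a => M a j) = l • v := funext hcol
  have h2 : (K * M) i j = (K *ᵥ (fun a => M a j)) i := rfl
  rw [h2, h1, Matrix.mulVec_smul, hK]; rfl

theorem tM_inv_pv (D : SzData F s) (x y : F) :
    tM s x (y + x ^ (s + 1)) *ᵥ pv s x y = ![0, 0, 0, 1] := by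
  rw [tM_mulVec_pv D]
  have e1 : x + x = 0 := D.add_self x
  have e2 : y + (y + x ^ (s + 1)) + x ^ s * x = 0 := by
    rw [pow_succ]; linear_combination (y + x ^ s * x) * D.two
  rw [e1, e2, pv_zero D]

/-- Every matrix of the generating set lies in the ovoid stabiliser. -/
theorem mem_of_Sm (D : SzData F s) {M : Matrix (Fin 4) (Fin 4) F} (hSm : Sm s M) :
    ∃ g ∈ SzG F s, (g : Matrix (Fin 4) (Fin 4) F) = M := by
  -- first column to `e₀`
  obtain ⟨k₁, hk₁, hA1, hA2, hA3⟩ : ∃ k₁ ∈ SzG F s,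
      ((k₁ : Matrix (Fin 4) (Fin 4) F) * M) 1 0 = 0 ∧
      ((k₁ : Matrix (Fin 4) (Fin 4) F) * M) 2 0 = 0 ∧
      ((k₁ : Matrix (Fin 4) (Fin 4) F) * M) 3 0 = 0 := by
    rcases first_col D hSm with h | ⟨hv3, x, y, e0, e1, e2⟩
    · refine ⟨1, one_mem _, ?_⟩
      rw [Matrix.SpecialLinearGroup.coe_one, Matrix.one_mul]
      exact h
    · refine ⟨wS D * (tS s x y)⁻¹, mul_mem (wS_mem D) (inv_mem (tS_mem D x y)), ?_⟩
      have hcol : ∀ a, M a 0 = M 3 0 * pv s x y a := by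
        intro a
        fin_cases a
        · exact e0
        · exact e1
        · exact e2
        · show M 3 0 = M 3 0 * 1
          rw [mul_one]
      have hK : ((wS D * (tS s x y)⁻¹ : SL4 F) : Matrix (Fin 4) (Fin 4) F) *ᵥ pv s x y =
          ![1, 0, 0, 0] := by
        rw [tS_inv D]
        show (wM F * tM s x (y + x ^ (s + 1))) *ᵥ pv s x y = _
        rw [← Matrix.mulVec_mulVec, tM_inv_pv D, wM_mulVec_e3]
      have hc := col_mul _ M 0 hcol hK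
      refine ⟨?_, ?_, ?_⟩
      · rw [hc 1]; simp
      · rw [hc 2]; simp
      · rw [hc 3]; simp
  have hSm₁ : Sm s ((k₁ : Matrix (Fin 4) (Fin 4) F) * M) := Sm_mul D (Sm_of_mem D hk₁) hSm
  obtain ⟨M₁, hM₁⟩ : ∃ M₁ : Matrix (Fin 4) (Fin 4) F, M₁ = (k₁ : Matrix (Fin 4) (Fin 4) F) * M :=
    ⟨_, rfl⟩
  rw [← hM₁] at hSm₁ hA1 hA2 hA3
  -- last column to `e₃`
  have hN : Sm s (M₁ * wM F) := Sm_mul D hSm₁ (Sm_wM D)
  have hNcol : ∀ i, (M₁ * wM F) i 0 = M₁ i 3 := by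
    intro i
    simp [Matrix.mul_apply, Fin.sum_univ_four, wM]
  have hw03 : wM F 0 3 = 1 := by simp [wM]
  have c03 := symp_col hSm₁.1 0 3
  rw [hA1, hA2, hA3, hw03] at c03
  rcases first_col D hN with ⟨-, -, h3⟩ | ⟨hv3, x, y, e0, e1, e2⟩
  · exfalso
    rw [hNcol] at h3
    rw [h3] at c03
    have h01 : (0 : F) = 1 := by linear_combination c03
    exact zero_ne_one h01
  · simp only [hNcol] at hv3 e0 e1 e2
    have hcol3 : ∀ a, M₁ a 3 = M₁ 3 3 * pv s x y a := by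
      intro a
      fin_cases a
      · exact e0
      · exact e1
      · exact e2
      · show M₁ 3 3 = M₁ 3 3 * 1
        rw [mul_one]
    have hcol0 : ∀ a, M₁ a 0 = M₁ 0 0 * (![1, 0, 0, 0] : Fin 4 → F) a := by
      intro a
      fin_cases a
      · show M₁ 0 0 = M₁ 0 0 * 1
        rw [mul_one]
      · show M₁ 1 0 = M₁ 0 0 * 0
        rw [mul_zero]; exact hA1
      · show M₁ 2 0 = M₁ 0 0 * 0
        rw [mul_zero]; exact hA2
      · show M₁ 3 0 = M₁ 0 0 * 0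
        rw [mul_zero]; exact hA3
    have hc3 := col_mul (tM s x (y + x ^ (s + 1))) M₁ 3 hcol3 (tM_inv_pv D x y)
    have hc0 := col_mul (tM s x (y + x ^ (s + 1))) M₁ 0 hcol0 (tM_mulVec_e0 x (y + x ^ (s + 1)))
    have hSm₂ : Sm s (tM s x (y + x ^ (s + 1)) * M₁) := Sm_mul D (Sm_tM D _ _) hSm₁
    obtain ⟨c, hc⟩ := diag_of D hSm₂ (by rw [hc0 1]; simp) (by rw [hc0 2]; simp)
      (by rw [hc0 3]; simp) (by rw [hc3 0]; simp) (by rw [hc3 1]; simp) (by rw [hc3 2]; simp)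
    have hk₂ : tS s x (y + x ^ (s + 1)) ∈ SzG F s := tS_mem D _ _
    refine ⟨(tS s x (y + x ^ (s + 1)) * k₁)⁻¹ * hS s c,
      mul_mem (inv_mem (mul_mem hk₂ hk₁)) (hS_mem D c), ?_⟩
    have h1 : ((tS s x (y + x ^ (s + 1)) * k₁ : SL4 F) : Matrix (Fin 4) (Fin 4) F) * M =
        hM s (c : F) := by
      rw [Matrix.SpecialLinearGroup.coe_mul, Matrix.mul_assoc, ← hM₁]; exact hc
    calc (((tS s x (y + x ^ (s + 1)) * k₁)⁻¹ * hS s c : SL4 F) : Matrix (Fin 4) (Fin 4) F)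
        = (((tS s x (y + x ^ (s + 1)) * k₁)⁻¹ : SL4 F) : Matrix (Fin 4) (Fin 4) F) *
            hM s (c : F) := rfl
      _ = (((tS s x (y + x ^ (s + 1)) * k₁)⁻¹ : SL4 F) : Matrix (Fin 4) (Fin 4) F) *
            (((tS s x (y + x ^ (s + 1)) * k₁ : SL4 F) : Matrix (Fin 4) (Fin 4) F) * M) := by
          rw [h1]
      _ = (((tS s x (y + x ^ (s + 1)) * k₁)⁻¹ * (tS s x (y + x ^ (s + 1)) * k₁) : SL4 F) :
            Matrix (Fin 4) (Fin 4) F) * M := by
          rw [← Matrix.mul_assoc]; rfl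
      _ = M := by rw [inv_mul_cancel, Matrix.SpecialLinearGroup.coe_one, Matrix.one_mul]

/-! ### the group of Lie type -/

omit [Fintype F] in
theorem altForm4_eq (u v : Fin 4 → F) : Cfsg.Lie.altForm4 u v = u ⬝ᵥ (wM F *ᵥ v) := by
  simp [Cfsg.Lie.altForm4, wM, Matrix.mulVec, dotProduct, Fin.sum_univ_four]

omit [Fintype F] in
theorem form_iff (M : Matrix (Fin 4) (Fin 4) F) :
    (∀ u v, Cfsg.Lie.altForm4 (M *ᵥ u) (M *ᵥ v) = Cfsg.Lie.altForm4 u v) ↔ Symp M := by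
  have key : ∀ u v, Cfsg.Lie.altForm4 (M *ᵥ u) (M *ᵥ v) = u ⬝ᵥ ((Mᵀ * wM F * M) *ᵥ v) := by
    intro u v
    calc Cfsg.Lie.altForm4 (M *ᵥ u) (M *ᵥ v) = (M *ᵥ u) ⬝ᵥ ((wM F * M) *ᵥ v) := by
          rw [altForm4_eq, Matrix.mulVec_mulVec]
      _ = ((wM F * M) *ᵥ v) ⬝ᵥ (M *ᵥ u) := dotProduct_comm _ _
      _ = (Mᵀ *ᵥ ((wM F * M) *ᵥ v)) ⬝ᵥ u := by
          rw [Matrix.dotProduct_mulVec, Matrix.mulVec_transpose]
      _ = u ⬝ᵥ (Mᵀ *ᵥ ((wM F * M) *ᵥ v)) := dotProduct_comm _ _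
      _ = u ⬝ᵥ ((Mᵀ * wM F * M) *ᵥ v) := by rw [Matrix.mulVec_mulVec, Matrix.mul_assoc]
  constructor
  · intro h
    ext i j
    have h1 := h (Pi.single i 1) (Pi.single j 1)
    rw [key, altForm4_eq, Matrix.mulVec_single_one, Matrix.mulVec_single_one,
      single_one_dotProduct, single_one_dotProduct] at h1
    exact h1
  · intro h u v
    have h' : Mᵀ * wM F * M = wM F := h
    rw [key, altForm4_eq, h']

/-- The Suzuki group of Lie type is the image of the ovoid stabiliser. -/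
theorem lieSz_eq (D : SzData F s) :
    Cfsg.Lie.Sz F s = (SzG F s).map Matrix.SpecialLinearGroup.toGL := by
  apply le_antisymm
  · unfold Cfsg.Lie.Sz
    rw [Subgroup.closure_le]
    rintro g ⟨hg1, hg2⟩
    have hg1' : ∀ u v, Cfsg.Lie.altForm4 ((g : Matrix (Fin 4) (Fin 4) F) *ᵥ u)
        ((g : Matrix (Fin 4) (Fin 4) F) *ᵥ v) = Cfsg.Lie.altForm4 u v := hg1
    have hsm : Sm s (g : Matrix (Fin 4) (Fin 4) F) := ⟨(form_iff _).mp hg1', hg2⟩
    obtain ⟨g₀, hg₀, h⟩ := mem_of_Sm D hsm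
    exact ⟨g₀, hg₀, Units.ext h⟩
  · rintro _ ⟨g₀, hg₀, rfl⟩
    have hsm := Sm_of_mem D hg₀
    have h1 : ∀ u v, Cfsg.Lie.altForm4 ((g₀ : Matrix (Fin 4) (Fin 4) F) *ᵥ u)
        ((g₀ : Matrix (Fin 4) (Fin 4) F) *ᵥ v) = Cfsg.Lie.altForm4 u v := (form_iff _).mpr hsm.1
    exact Subgroup.subset_closure ⟨h1, hsm.2⟩

/-- The isomorphism between the two realisations of the Suzuki group. -/
noncomputable def lieEquiv (D : SzData F s) : SzG F s ≃* Cfsg.Lie.Sz F s :=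
  ((SzG F s).equivMapOfInjective _ Matrix.SpecialLinearGroup.toGL_injective).trans
    (MulEquiv.subgroupCongr (lieSz_eq D).symm)

/-- The Suzuki group of Lie type is simple. -/
theorem lie_simple (D : SzData F s) : IsSimpleGroup (Cfsg.Lie.Sz F s) := by
  haveI := simple D
  exact (lieEquiv D).symm.isSimpleGroup

end Cfsg.Agent.Helper6.Sz
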