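import Mathlib
import Cfsg.Agent.Helper6.SzLie
import Cfsg.Agent.Helper6.SzMore
import Cfsg.Agent.Helper6.SzFpf

set_option autoImplicit false

/-!
The Suzuki groups have no nilpotent minimal cover: in a nilpotent cover the members containing a
unipotent element and a torus element of a Borel subgroup are distinct and both lie in the Borel
subgroup, so they can be replaced by it.
-/

namespace Cfsg.Agent.Helper6.Sz

variable {F : Type*} [Field F] [Fintype F] {s : ℕ}

/-- `G` has a nilpotent minimal cover. -/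
def NilMinCover (G : Type*) [Group G] : Prop :=
  ∃ 𝓐 : Finset (Subgroup G), ((∀ A ∈ 𝓐, A ≠ ⊤) ∧ (∀ g : G, ∃ A ∈ 𝓐, g ∈ A)) ∧
    (∀ 𝓑 : Finset (Subgroup G), (∀ A ∈ 𝓑, A ≠ ⊤) ∧ (∀ g : G, ∃ A ∈ 𝓑, g ∈ A) →
      𝓐.card ≤ 𝓑.card) ∧
    (∀ A ∈ 𝓐, Group.IsNilpotent ↥A)

/-- If all nilpotent subgroups containing `x`, and all those containing `y`, lie in one proper
subgroup `M`, and no nilpotent subgroup contains both, there is no nilpotent minimal cover. -/
theorem no_cover_of {G : Type*} [Group G] (M : Subgroup G) (hM : M ≠ ⊤) (x y : G)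
    (hx : ∀ A : Subgroup G, Group.IsNilpotent ↥A → x ∈ A → A ≤ M)
    (hy : ∀ A : Subgroup G, Group.IsNilpotent ↥A → y ∈ A → A ≤ M)
    (hxy : ∀ A : Subgroup G, Group.IsNilpotent ↥A → x ∈ A → y ∉ A) : ¬ NilMinCover G := by
  classical
  rintro ⟨𝓐, ⟨hprop, hcov⟩, hmin, hnil⟩
  obtain ⟨A, hA, hxA⟩ := hcov x
  obtain ⟨A', hA', hyA'⟩ := hcov y
  have hne : A ≠ A' := by
    rintro rfl
    exact hxy A (hnil A hA) hxA hyA'
  have hAM : A ≤ M := hx A (hnil A hA) hxA
  have hA'M : A' ≤ M := hy A' (hnil A' hA') hyA'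
  have hB : (∀ B ∈ insert M ((𝓐.erase A).erase A'), B ≠ ⊤) ∧
      (∀ g : G, ∃ B ∈ insert M ((𝓐.erase A).erase A'), g ∈ B) := by
    constructor
    · intro B hB
      rcases Finset.mem_insert.mp hB with rfl | hB'
      · exact hM
      · exact hprop B (Finset.mem_of_mem_erase (Finset.mem_of_mem_erase hB'))
    · intro g
      obtain ⟨B, hB, hgB⟩ := hcov g
      by_cases h1 : B = A
      · exact ⟨M, Finset.mem_insert_self _ _, hAM (h1 ▸ hgB)⟩
      · by_cases h2 : B = A'
        · exact ⟨M, Finset.mem_insert_self _ _, hA'M (h2 ▸ hgB)⟩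
        · exact ⟨B, Finset.mem_insert_of_mem
            (Finset.mem_erase.mpr ⟨h2, Finset.mem_erase.mpr ⟨h1, hB⟩⟩), hgB⟩
  have hcard := hmin _ hB
  have h1 : (insert M ((𝓐.erase A).erase A')).card ≤ ((𝓐.erase A).erase A').card + 1 :=
    Finset.card_insert_le _ _
  have h2 : ((𝓐.erase A).erase A').card = (𝓐.erase A).card - 1 :=
    Finset.card_erase_of_mem (Finset.mem_erase.mpr ⟨hne.symm, hA'⟩)
  have h3 : (𝓐.erase A).card = 𝓐.card - 1 := Finset.card_erase_of_mem hA
  have h4 : 2 ≤ 𝓐.card := by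
    have hsub : ({A, A'} : Finset (Subgroup G)) ⊆ 𝓐 := by
      intro B hB
      rcases Finset.mem_insert.mp hB with rfl | hB'
      · exact hA
      · rw [Finset.mem_singleton.mp hB']; exact hA'
    have hc := Finset.card_le_card hsub
    rwa [Finset.card_pair hne] at hc
  omega

/-- A nontrivial nilpotent group has a nontrivial centre. -/
theorem center_ne_bot_of_nilpotent {A : Type*} [Group A] [hA : Group.IsNilpotent A]
    [Nontrivial A] : Subgroup.center A ≠ ⊥ := by
  intro hc
  obtain ⟨n, hn⟩ := hA.nilpotent'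
  have key : ∀ k, Subgroup.upperCentralSeries A k = ⊥ := by
    intro k
    induction k with
    | zero => exact Subgroup.upperCentralSeries_zero A
    | succ k ih =>
      rw [eq_bot_iff]
      intro x hx
      rw [Subgroup.mem_upperCentralSeries_succ_iff] at hx
      have hxc : x ∈ Subgroup.center A := by
        rw [Subgroup.mem_center_iff]
        intro y
        have h := hx y
        rw [ih, Subgroup.mem_bot, commutatorElement_eq_one_iff_commute] at h
        exact h.eq.symm
      rw [hc] at hxc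
      exact hxc
  rw [key n] at hn
  obtain ⟨a, b, hab⟩ := exists_pair_ne A
  have ha : a ∈ (⊥ : Subgroup A) := by rw [hn]; exact Subgroup.mem_top a
  have hb : b ∈ (⊥ : Subgroup A) := by rw [hn]; exact Subgroup.mem_top b
  exact hab ((Subgroup.mem_bot.mp ha).trans (Subgroup.mem_bot.mp hb).symm)

/-- A nilpotent subgroup containing a non-identity element has a non-identity central element. -/
theorem exists_central {G : Type*} [Group G] (A : Subgroup G) (hA : Group.IsNilpotent ↥A)
    {x : G} (hx : x ∈ A) (hx1 : x ≠ 1) : ∃ z ∈ A, z ≠ 1 ∧ ∀ a ∈ A, a * z = z * a := by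
  haveI : Nontrivial ↥A := ⟨⟨⟨x, hx⟩, 1, fun h => hx1 (congrArg Subtype.val h)⟩⟩
  obtain ⟨z, hz1⟩ := (Subgroup.ne_bot_iff_exists_ne_one).mp (center_ne_bot_of_nilpotent (A := ↥A))
  refine ⟨(z : ↥A), (z : ↥A).2, fun h => hz1 (Subtype.ext (Subtype.ext h)), fun a ha => ?_⟩
  have hz := z.2
  rw [Subgroup.mem_center_iff] at hz
  exact congrArg Subtype.val (hz ⟨a, ha⟩)

/-- Transfer of nilpotent minimal covers along an isomorphism. -/
theorem nilMinCover_of_equiv {G G' : Type*} [Group G] [Group G'] (e : G ≃* G')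
    (h : NilMinCover G') : NilMinCover G := by
  classical
  obtain ⟨𝓐, ⟨hprop, hcov⟩, hmin, hnil⟩ := h
  refine ⟨𝓐.image (Subgroup.comap e.toMonoidHom), ⟨?_, ?_⟩, ?_, ?_⟩
  · intro A hA
    obtain ⟨A', hA', rfl⟩ := Finset.mem_image.mp hA
    intro htop
    apply hprop A' hA'
    rw [eq_top_iff]
    intro g _
    have h1 : e.symm g ∈ Subgroup.comap e.toMonoidHom A' := by rw [htop]; exact Subgroup.mem_top _
    rw [Subgroup.mem_comap] at h1
    simpa using h1
  · intro g
    obtain ⟨A', hA', hg⟩ := hcov (e g)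
    exact ⟨_, Finset.mem_image_of_mem _ hA', hg⟩
  · rintro 𝓑 ⟨hBprop, hBcov⟩
    have h1 : 𝓐.card ≤ (𝓑.image (Subgroup.comap e.symm.toMonoidHom)).card := by
      apply hmin
      constructor
      · intro B hB
        obtain ⟨B', hB', rfl⟩ := Finset.mem_image.mp hB
        intro htop
        apply hBprop B' hB'
        rw [eq_top_iff]
        intro g _
        have h1 : e g ∈ Subgroup.comap e.symm.toMonoidHom B' := by
          rw [htop]; exact Subgroup.mem_top _
        rw [Subgroup.mem_comap] at h1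
        simpa using h1
      · intro g
        obtain ⟨B', hB', hg⟩ := hBcov (e.symm g)
        exact ⟨_, Finset.mem_image_of_mem _ hB', hg⟩
    exact (Finset.card_image_le).trans (h1.trans Finset.card_image_le)
  · intro A hA
    obtain ⟨A', hA', rfl⟩ := Finset.mem_image.mp hA
    haveI := hnil A' hA'
    let f : ↥(Subgroup.comap e.toMonoidHom A') ≃* ↥A' :=
      { toFun := fun x => ⟨e x.1, x.2⟩
        invFun := fun y => ⟨e.symm y.1, by
          rw [Subgroup.mem_comap]
          simpa using y.2⟩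
        left_inv := fun x => Subtype.ext (e.symm_apply_apply _)
        right_inv := fun y => Subtype.ext (e.apply_symm_apply _)
        map_mul' := fun x y => Subtype.ext (map_mul e _ _) }
    exact Group.nilpotent_of_mulEquiv f.symm

omit [Fintype F] in
theorem tS_eq_one {a b : F} (h : tS s a b = 1) : a = 0 ∧ b = 0 := by
  have h' : tM s a b = 1 := congrArg Subtype.val h
  constructor
  · have h1 := congrFun (congrFun h' 2) 3
    simpa [tM] using h1
  · have h1 := congrFun (congrFun h' 1) 3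
    simpa [tM] using h1

/-- A nilpotent subgroup containing a non-identity element of `U` lies in `U`. -/
theorem nil_unip (D : SzData F s) {a b : F} (hab : ¬ (a = 0 ∧ b = 0)) (A : Subgroup (SzG F s))
    (hA : Group.IsNilpotent ↥A) (hu : tG D a b ∈ A) :
    ∀ x ∈ A, ∃ a' b' : F, (x : SL4 F) = tS s a' b' := by
  have hu1 : tG D a b ≠ 1 := by
    intro h
    exact hab (tS_eq_one (congrArg Subtype.val h))
  obtain ⟨z, hzA, hz1, hzc⟩ := exists_central A hA hu hu1
  have h1 : (z : SL4 F) * tS s a b = tS s a b * (z : SL4 F) :=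
    (congrArg Subtype.val (hzc _ hu)).symm
  obtain ⟨a₁, b₁, hz⟩ := cent_unip D hab z.2 h1
  have hab₁ : ¬ (a₁ = 0 ∧ b₁ = 0) := by
    rintro ⟨rfl, rfl⟩
    rw [tS_zero D] at hz
    exact hz1 (Subtype.ext hz)
  intro x hx
  have h2 : (x : SL4 F) * tS s a₁ b₁ = tS s a₁ b₁ * (x : SL4 F) := by
    rw [← hz]
    exact congrArg Subtype.val (hzc x hx)
  exact cent_unip D hab₁ x.2 h2

/-- A nilpotent subgroup containing a non-identity element of the torus lies in the torus. -/
theorem nil_torus (D : SzData F s) {c : Fˣ} (hc : c ≠ 1) (A : Subgroup (SzG F s))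
    (hA : Group.IsNilpotent ↥A) (hh : hG D c ∈ A) :
    ∀ x ∈ A, ∃ c' : Fˣ, (x : SL4 F) = hS s c' := by
  have hh1 : hG D c ≠ 1 := by
    intro h
    have h' : hS s c = 1 := congrArg Subtype.val h
    exact hc (hS_inj D (h'.trans hS_one.symm))
  obtain ⟨z, hzA, hz1, hzc⟩ := exists_central A hA hh hh1
  have h1 : (z : SL4 F) * hS s c = hS s c * (z : SL4 F) :=
    (congrArg Subtype.val (hzc _ hh)).symm
  obtain ⟨c₁, hz⟩ := cent_torus D hc z.2 h1
  have hc₁ : c₁ ≠ 1 := by
    rintro rfl
    rw [hS_one] at hz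
    exact hz1 (Subtype.ext hz)
  intro x hx
  have h2 : (x : SL4 F) * hS s c₁ = hS s c₁ * (x : SL4 F) := by
    rw [← hz]
    exact congrArg Subtype.val (hzc x hx)
  exact cent_torus D hc₁ x.2 h2

/-- The ovoid stabiliser has no nilpotent minimal cover. -/
theorem no_nil_cover_SzG (D : SzData F s) : ¬ NilMinCover (SzG F s) := by
  obtain ⟨c, hc⟩ : ∃ c : Fˣ, c ≠ 1 := by
    have h1 : 1 < Nat.card Fˣ := by
      rw [Nat.card_units, Nat.card_eq_fintype_card]
      have := D.eight_le
      omega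
    haveI : Nontrivial Fˣ := Finite.one_lt_card_iff_nontrivial.mp h1
    exact exists_ne 1
  have h10 : ¬ ((1 : F) = 0 ∧ (0 : F) = 0) := fun h => one_ne_zero h.1
  refine no_cover_of (MulAction.stabilizer (SzG F s) (Pinf F)) (stab_coatom D inf_mem).1
    (tG D 1 0) (hG D c) ?_ ?_ ?_
  · intro A hA hu x hx
    obtain ⟨a', b', h⟩ := nil_unip D h10 A hA hu x hx
    rw [MulAction.mem_stabilizer_iff]
    show (x : SL4 F) • Pinf F = Pinf F
    rw [h]; exact tS_inf a' b'
  · intro A hA hh x hx
    obtain ⟨c', h⟩ := nil_torus D hc A hA hh x hx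
    rw [MulAction.mem_stabilizer_iff]
    show (x : SL4 F) • Pinf F = Pinf F
    rw [h]; exact hS_inf c'
  · intro A hA hu hh
    obtain ⟨a', b', h⟩ := nil_unip D h10 A hA hu (hG D c) hh
    have h1 : hS s c = tS s a' b' := h
    have h2 : hS s (c ^ 4) = 1 := by rw [hS_pow, h1]; exact tS_pow_four D a' b'
    have h3 : c ^ 4 = 1 := hS_inj D (h2.trans hS_one.symm)
    exact hc (D.unit_two_pow 2 c (by simpa using h3))

/-- The Suzuki groups have no nilpotent minimal cover. -/
theorem no_nil_cover {m : ℕ} (hm : 1 ≤ m) (hF : Fintype.card F = 2 ^ (2 * m + 1)) :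
    ¬ NilMinCover ↥(Cfsg.Lie.Sz F (2 ^ (m + 1))) := by
  have D := szData hm hF
  intro h
  exact no_nil_cover_SzG D (nilMinCover_of_equiv (lieEquiv D) h)

end Cfsg.Agent.Helper6.Sz
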