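import Mathlib
import Cfsg.Agent.Helper6.SzCover

set_option autoImplicit false

/-!
Alternating and symmetric groups have no nilpotent minimal cover: two long cycles with the same
support are self-centralising, generate cyclic groups meeting trivially, and every nilpotent
subgroup containing one of them stabilises the support.
-/

namespace Cfsg.Agent.Helper6.PermCover

open Equiv Equiv.Perm
open Cfsg.Agent.Helper6.Sz (NilMinCover no_cover_of exists_central nilMinCover_of_equiv)

/-- Two self-centralising elements of a subgroup `K`, generating cyclic groups that meet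
trivially, all of whose non-identity powers have centralisers inside one proper subgroup. -/
theorem cyc_no_cover {S : Type*} [Group S] (K M₀ : Subgroup S) (hM : ¬ K ≤ M₀) (x y : S)
    (hxK : x ∈ K) (hyK : y ∈ K) (hx1 : x ≠ 1) (hy1 : y ≠ 1)
    (cx : ∀ g ∈ K, g * x = x * g → g ∈ Subgroup.zpowers x)
    (cy : ∀ g ∈ K, g * y = y * g → g ∈ Subgroup.zpowers y)
    (hx : ∀ z ∈ Subgroup.zpowers x, z ≠ 1 → ∀ g ∈ K, g * z = z * g → g ∈ M₀)
    (hy : ∀ z ∈ Subgroup.zpowers y, z ≠ 1 → ∀ g ∈ K, g * z = z * g → g ∈ M₀)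
    (hxy : ∀ z ∈ Subgroup.zpowers x, z ∈ Subgroup.zpowers y → z = 1) : ¬ NilMinCover ↥K := by
  have key : ∀ (w : S) (hwK : w ∈ K), w ≠ 1 →
      (∀ g ∈ K, g * w = w * g → g ∈ Subgroup.zpowers w) →
      ∀ A : Subgroup ↥K, Group.IsNilpotent ↥A → (⟨w, hwK⟩ : ↥K) ∈ A →
        ∃ z : ↥K, z ∈ A ∧ (z : S) ≠ 1 ∧ (z : S) ∈ Subgroup.zpowers w ∧
          ∀ g ∈ A, (g : S) * (z : S) = (z : S) * (g : S) := by
    intro w hwK hw1 cw A hA hwA
    have hw1' : (⟨w, hwK⟩ : ↥K) ≠ 1 := fun h => hw1 (congrArg Subtype.val h)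
    obtain ⟨z, hzA, hz1, hzc⟩ := exists_central A hA hwA hw1'
    refine ⟨z, hzA, fun h => hz1 (Subtype.ext h), ?_, fun g hg => congrArg Subtype.val (hzc g hg)⟩
    apply cw (z : S) z.2
    exact (congrArg Subtype.val (hzc _ hwA)).symm
  apply no_cover_of (M₀.subgroupOf K) (fun h => hM (Subgroup.subgroupOf_eq_top.mp h))
    ⟨x, hxK⟩ ⟨y, hyK⟩
  · intro A hA hxA g hg
    obtain ⟨z, hzA, hz1, hzx, hzc⟩ := key x hxK hx1 cx A hA hxA
    rw [Subgroup.mem_subgroupOf]
    exact hx (z : S) hzx hz1 (g : S) g.2 (hzc g hg)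
  · intro A hA hyA g hg
    obtain ⟨z, hzA, hz1, hzy, hzc⟩ := key y hyK hy1 cy A hA hyA
    rw [Subgroup.mem_subgroupOf]
    exact hy (z : S) hzy hz1 (g : S) g.2 (hzc g hg)
  · intro A hA hxA hyA
    obtain ⟨z, hzA, hz1, hzx, hzc⟩ := key x hxK hx1 cx A hA hxA
    have hzy : (z : S) ∈ Subgroup.zpowers y := cy (z : S) z.2 (hzc _ hyA).symm
    exact hz1 (hxy (z : S) hzx hzy)

/-- The version for self-centralising elements of prime order. -/
theorem prime_no_cover {S : Type*} [Group S] [Finite S] (K M₀ : Subgroup S) (hM : ¬ K ≤ M₀)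
    (x y : S) (hxK : x ∈ K) (hyK : y ∈ K) (hxp : (orderOf x).Prime) (hyp : (orderOf y).Prime)
    (cx : ∀ g ∈ K, g * x = x * g → g ∈ Subgroup.zpowers x)
    (cy : ∀ g ∈ K, g * y = y * g → g ∈ Subgroup.zpowers y)
    (hxM : x ∈ M₀) (hyM : y ∈ M₀) (hyx : y ∉ Subgroup.zpowers x) : ¬ NilMinCover ↥K := by
  have gen : ∀ w : S, (orderOf w).Prime → ∀ z ∈ Subgroup.zpowers w, z ≠ 1 →
      Subgroup.zpowers z = Subgroup.zpowers w := by
    intro w hw z hz hz1
    have hle : Subgroup.zpowers z ≤ Subgroup.zpowers w := Subgroup.zpowers_le.mpr hz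
    apply Subgroup.eq_of_le_of_card_ge hle
    rw [Nat.card_zpowers, Nat.card_zpowers]
    have hdvd : orderOf z ∣ orderOf w := by
      have h := Subgroup.card_dvd_of_le hle
      rwa [Nat.card_zpowers, Nat.card_zpowers] at h
    rcases (Nat.dvd_prime hw).mp hdvd with h | h
    · exact absurd (orderOf_eq_one_iff.mp h) hz1
    · exact le_of_eq h.symm
  have x1 : x ≠ 1 := fun h => by rw [h, orderOf_one] at hxp; exact Nat.not_prime_one hxp
  have y1 : y ≠ 1 := fun h => by rw [h, orderOf_one] at hyp; exact Nat.not_prime_one hyp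
  apply cyc_no_cover K M₀ hM x y hxK hyK x1 y1 cx cy
  · intro z hz hz1 g hgK hg
    have hx' : x ∈ Subgroup.zpowers z := by
      rw [gen x hxp z hz hz1]; exact Subgroup.mem_zpowers x
    obtain ⟨k, hk⟩ := Subgroup.mem_zpowers_iff.mp hx'
    have hgx : g * x = x * g := by
      rw [← hk]
      exact (Commute.zpow_right (show Commute g z from hg) k).eq
    exact (Subgroup.zpowers_le.mpr hxM) (cx g hgK hgx)
  · intro z hz hz1 g hgK hg
    have hy' : y ∈ Subgroup.zpowers z := by
      rw [gen y hyp z hz hz1]; exact Subgroup.mem_zpowers y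
    obtain ⟨k, hk⟩ := Subgroup.mem_zpowers_iff.mp hy'
    have hgy : g * y = y * g := by
      rw [← hk]
      exact (Commute.zpow_right (show Commute g z from hg) k).eq
    exact (Subgroup.zpowers_le.mpr hyM) (cy g hgK hgy)
  · intro z hz hz'
    by_contra hz1
    apply hyx
    have h1 := gen x hxp z hz hz1
    have h2 := gen y hyp z hz' hz1
    rw [← h1, h2]
    exact Subgroup.mem_zpowers y

variable {α : Type*} [Fintype α] [DecidableEq α]

theorem pc_inv_apply_self (g : Perm α) (u : α) : g⁻¹ (g u) = u := g.symm_apply_apply u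

theorem pc_apply_inv_self (g : Perm α) (u : α) : g (g⁻¹ u) = u := g.apply_symm_apply u

/-- A non-identity power of a cycle has the same support. -/
theorem support_of_mem_zpowers {x z : Perm α} (hx : x.IsCycle) (hz : z ∈ Subgroup.zpowers x)
    (hz1 : z ≠ 1) : z.support = x.support := by
  have hz' : z ∈ Submonoid.powers x :=
    (isOfFinOrder_of_finite x).mem_powers_iff_mem_zpowers.mpr hz
  obtain ⟨k, rfl⟩ := (Submonoid.mem_powers_iff _ _).mp hz'
  apply Finset.Subset.antisymm
  · exact support_pow_le x k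
  · intro u hu
    rw [mem_support] at hu ⊢
    intro h
    exact hz1 ((hx.pow_eq_one_iff' hu).mpr h)

theorem eq_one_of_fix {x z : Perm α} (hx : x.IsCycle) (hz : z ∈ Subgroup.zpowers x) {a : α}
    (ha : a ∈ x.support) (hza : z a = a) : z = 1 := by
  by_contra h
  have hs := support_of_mem_zpowers hx hz h
  rw [← hs, mem_support] at ha
  exact ha hza

/-- A cycle of length at least `5` and its conjugate by a transposition of two consecutive points
generate cyclic groups meeting trivially. -/
theorem inter_conj_swap {x : Perm α} (hx : x.IsCycle) (h5 : 5 ≤ x.support.card) {a : α}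
    (ha : a ∈ x.support) {z : Perm α} (hz : z ∈ Subgroup.zpowers x)
    (hz' : z ∈ Subgroup.zpowers (swap a (x a) * x * (swap a (x a))⁻¹)) : z = 1 := by
  have hab : a ≠ x a := fun h => (mem_support.mp ha) h.symm
  obtain ⟨τ, hτ⟩ : ∃ τ : Perm α, τ = swap a (x a) := ⟨_, rfl⟩
  rw [← hτ] at hz'
  have hτi : τ⁻¹ = τ := by rw [hτ]; exact swap_inv a (x a)
  have hττ : τ * τ = 1 := by rw [hτ]; exact swap_mul_self a (x a)
  have h1 : τ * z * τ ∈ Subgroup.zpowers x := by
    obtain ⟨k, hk⟩ := Subgroup.mem_zpowers_iff.mp hz'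
    rw [conj_zpow, hτi] at hk
    rw [← hk]
    have e : τ * (τ * x ^ k * τ) * τ = x ^ k := by
      calc τ * (τ * x ^ k * τ) * τ = (τ * τ) * x ^ k * (τ * τ) := by group
        _ = x ^ k := by rw [hττ, one_mul, mul_one]
    rw [e]
    exact Subgroup.zpow_mem_zpowers x k
  have hw : z⁻¹ * (τ * z * τ) ∈ Subgroup.zpowers x := mul_mem (inv_mem hz) h1
  have hw1 : z⁻¹ * (τ * z * τ) = 1 := by
    by_contra hne
    have hs := support_of_mem_zpowers hx hw hne
    have e : z⁻¹ * (τ * z * τ) = swap (z⁻¹ a) (z⁻¹ (x a)) * τ := by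
      rw [swap_apply_apply, inv_inv, ← hτ]; group
    have hne' : z⁻¹ a ≠ z⁻¹ (x a) := fun h => hab (z⁻¹.injective h)
    have hc : (z⁻¹ * (τ * z * τ)).support.card ≤ 4 := by
      rw [e]
      calc (swap (z⁻¹ a) (z⁻¹ (x a)) * τ).support.card
          ≤ ((swap (z⁻¹ a) (z⁻¹ (x a))).support ∪ τ.support).card :=
            Finset.card_le_card (support_mul_le _ _)
        _ ≤ (swap (z⁻¹ a) (z⁻¹ (x a))).support.card + τ.support.card :=
            Finset.card_union_le _ _
        _ = 4 := by rw [card_support_swap hne', hτ, card_support_swap hab]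
    rw [hs] at hc
    omega
  have hcomm : τ * z = z * τ := by
    have h2 : τ * z * τ = z := by
      have h := congrArg (fun t => z * t) hw1
      simpa [mul_assoc] using h
    calc τ * z = τ * z * (τ * τ) := by rw [hττ, mul_one]
      _ = (τ * z * τ) * τ := by group
      _ = z * τ := by rw [h2]
  have h3 : τ (z a) = z (x a) := by
    have h := congrArg (fun t : Perm α => t a) hcomm
    simp only [Perm.mul_apply] at h
    rw [h, hτ, swap_apply_left]
  by_cases hza : z a = a
  · exact eq_one_of_fix hx hz ha hza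
  · exfalso
    by_cases hzb : z a = x a
    · have h4 : x⁻¹ * z = 1 := by
        apply eq_one_of_fix hx (mul_mem (inv_mem (Subgroup.mem_zpowers x)) hz) ha
        rw [Perm.mul_apply, hzb, pc_inv_apply_self]
      have hzx : z = x := (inv_mul_eq_one.mp h4).symm
      rw [hzx, hτ, swap_apply_right] at h3
      have h5' : x ^ 2 = 1 := by
        apply eq_one_of_fix hx (Subgroup.npow_mem_zpowers x 2) ha
        rw [pow_two, Perm.mul_apply]; exact h3.symm
      have hord := orderOf_dvd_of_pow_eq_one h5'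
      rw [hx.orderOf] at hord
      have hle := Nat.le_of_dvd (by norm_num) hord
      omega
    · have h4 : τ (z a) = z a := by rw [hτ]; exact swap_apply_of_ne_of_ne hza hzb
      rw [h4] at h3
      exact hab (z.injective h3)

/-- A permutation commuting with a cycle is a power of it times a permutation supported off the
cycle. -/
theorem commute_cycle_rest {x g : Perm α} (hx : x.IsCycle) (hg : Commute g x) :
    ∃ r ∈ Subgroup.zpowers x, (r⁻¹ * g).support ⊆ x.supportᶜ := by
  obtain ⟨hc', hr⟩ := hx.commute_iff.mp hg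
  refine ⟨_, hr, ?_⟩
  intro u hu
  rw [Finset.mem_compl]
  intro hux
  rw [mem_support] at hu
  apply hu
  rw [Perm.mul_apply, ← ofSubtype_subtypePerm_of_mem hc' hux, pc_inv_apply_self]

theorem cent_cycle_one {x g : Perm α} (hx : x.IsCycle)
    (hcard : Fintype.card α ≤ x.support.card + 1) (hg : Commute g x) :
    g ∈ Subgroup.zpowers x := by
  obtain ⟨r, hr, hsub⟩ := commute_cycle_rest hx hg
  have h1 : (r⁻¹ * g).support.card ≤ 1 := by
    have h := Finset.card_le_card hsub
    rw [Finset.card_compl] at h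
    omega
  have h2 : r⁻¹ * g = 1 := card_support_le_one.mp h1
  exact (inv_mul_eq_one.mp h2) ▸ hr

theorem cent_cycle_two {x g : Perm α} (hx : x.IsCycle)
    (hcard : Fintype.card α ≤ x.support.card + 2) (hsx : Perm.sign x = 1)
    (hsg : Perm.sign g = 1) (hg : Commute g x) : g ∈ Subgroup.zpowers x := by
  obtain ⟨r, hr, hsub⟩ := commute_cycle_rest hx hg
  have h1 : (r⁻¹ * g).support.card ≤ 2 := by
    have h := Finset.card_le_card hsub
    rw [Finset.card_compl] at h
    omega
  have hsr : Perm.sign r = 1 := by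
    obtain ⟨k, rfl⟩ := Subgroup.mem_zpowers_iff.mp hr
    rw [map_zpow, hsx, one_zpow]
  have hs : Perm.sign (r⁻¹ * g) = 1 := by
    rw [Perm.sign_mul, Perm.sign_inv, hsr, hsg, one_mul]
  have h2 : r⁻¹ * g = 1 := by
    by_contra hne
    have h3 := two_le_card_support_of_ne_one hne
    have h4 : (r⁻¹ * g).support.card = 2 := le_antisymm h1 h3
    have h5 := (card_support_eq_two.mp h4).sign_eq
    rw [hs] at h5
    exact absurd h5 (by decide)
  exact (inv_mul_eq_one.mp h2) ▸ hr

/-- the permutations preserving the support of `x` -/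
def suppStab (x : Perm α) : Subgroup (Perm α) where
  carrier := {g | ∀ u, g u ∈ x.support ↔ u ∈ x.support}
  one_mem' := fun u => by simp
  mul_mem' := fun {g h} hg hh u => by rw [Perm.mul_apply, hg, hh]
  inv_mem' := fun {g} hg u => by
    have h := hg (g⁻¹ u)
    rw [pc_apply_inv_self] at h
    exact h.symm

theorem swap_mem_suppStab {x : Perm α} {a b : α} (ha : a ∈ x.support) (hb : b ∈ x.support) :
    swap a b ∈ suppStab x := by
  intro u
  by_cases hua : u = a
  · rw [hua, swap_apply_left]; exact ⟨fun _ => ha, fun _ => hb⟩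
  · by_cases hub : u = b
    · rw [hub, swap_apply_right]; exact ⟨fun _ => hb, fun _ => ha⟩
    · rw [swap_apply_of_ne_of_ne hua hub]

/-- A normal subgroup of a symmetric group containing a self-centralising cycle of length at
least `5` and an element moving its support has no nilpotent minimal cover. -/
theorem perm_no_cover (K : Subgroup (Perm α)) [hK : K.Normal] {x : Perm α} (hxK : x ∈ K)
    (hx : x.IsCycle) (h5 : 5 ≤ x.support.card)
    (hC : ∀ g ∈ K, Commute g x → g ∈ Subgroup.zpowers x)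
    (hP : ∃ g ∈ K, ∃ u ∈ x.support, g u ∉ x.support) : ¬ NilMinCover ↥K := by
  obtain ⟨a, ha⟩ := hx.nonempty_support
  have hb : x a ∈ x.support := apply_mem_support.mpr ha
  obtain ⟨τ, hτ⟩ : ∃ τ : Perm α, τ = swap a (x a) := ⟨_, rfl⟩
  have hτM : τ ∈ suppStab x := by rw [hτ]; exact swap_mem_suppStab ha hb
  have hconj : ∀ g z : Perm α, g * (τ * z * τ⁻¹) = (τ * z * τ⁻¹) * g →
      (τ⁻¹ * g * τ) * z = z * (τ⁻¹ * g * τ) := by
    intro g z h
    calc τ⁻¹ * g * τ * z = τ⁻¹ * (g * (τ * z * τ⁻¹)) * τ := by group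
      _ = τ⁻¹ * ((τ * z * τ⁻¹) * g) * τ := by rw [h]
      _ = z * (τ⁻¹ * g * τ) := by group
  have hstab : ∀ z ∈ Subgroup.zpowers x, z ≠ 1 → ∀ g : Perm α, g * z = z * g →
      g ∈ suppStab x := by
    intro z hz hz1 g hg u
    have hs := support_of_mem_zpowers hx hz hz1
    rw [← hs]
    exact mem_support_iff_of_commute hg u
  apply cyc_no_cover K (suppStab x) ?_ x (τ * x * τ⁻¹) hxK (hK.conj_mem x hxK τ) hx.ne_one
    ?_ ?_ ?_ ?_ ?_ ?_
  · obtain ⟨g, hgK, u, hu, hgu⟩ := hP
    intro hle
    exact hgu ((hle hgK u).mpr hu)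
  · intro h
    exact hx.ne_one (conj_eq_one_iff.mp h)
  · intro g hgK hg
    exact hC g hgK hg
  · intro g hgK hg
    have h1 := hconj g x hg
    have hK' : τ⁻¹ * g * τ ∈ K := by
      have h := hK.conj_mem g hgK τ⁻¹
      rwa [inv_inv] at h
    obtain ⟨k, hk⟩ := Subgroup.mem_zpowers_iff.mp (hC _ hK' h1)
    rw [Subgroup.mem_zpowers_iff]
    refine ⟨k, ?_⟩
    rw [conj_zpow, hk]
    group
  · intro z hz hz1 g _ hg
    exact hstab z hz hz1 g hg
  · intro z hz hz1 g _ hg
    obtain ⟨k, hk⟩ := Subgroup.mem_zpowers_iff.mp hz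
    rw [conj_zpow] at hk
    have hk1 : x ^ k ≠ 1 := by
      intro h
      rw [h, mul_one, mul_inv_cancel] at hk
      exact hz1 hk.symm
    have hg' : g * (τ * x ^ k * τ⁻¹) = (τ * x ^ k * τ⁻¹) * g := by rw [hk]; exact hg
    have h1 := hstab (x ^ k) (Subgroup.zpow_mem_zpowers x k) hk1 _ (hconj g (x ^ k) hg')
    have h2 : g = τ * (τ⁻¹ * g * τ) * τ⁻¹ := by group
    rw [h2]
    exact mul_mem (mul_mem hτM h1) (inv_mem hτM)
  · intro z hz hz'
    rw [hτ] at hz'
    exact inter_conj_swap hx h5 ha hz hz'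

theorem exists_cycle (n L : ℕ) (h2 : 2 ≤ L) (hL : L ≤ n) :
    ∃ x : Perm (Fin n), x.IsCycle ∧ x.support.card = L := by
  haveI : NeZero n := ⟨by omega⟩
  have hi : L - 1 < n := by omega
  have h0 : (⟨L - 1, hi⟩ : Fin n) ≠ 0 := by
    intro h
    have h' : L - 1 = ((0 : Fin n) : ℕ) := congrArg Fin.val h
    rw [Fin.val_zero] at h'
    omega
  refine ⟨Fin.cycleRange ⟨L - 1, hi⟩, Fin.isCycle_cycleRange h0, ?_⟩
  rw [← sum_cycleType, Fin.cycleType_cycleRange h0]
  simp
  omega

theorem sign_cycle_odd {x : Perm α} (hx : x.IsCycle) (hodd : Odd x.support.card) :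
    Perm.sign x = 1 := by
  rw [hx.sign, hodd.neg_one_pow, neg_neg]

theorem exists_not_mem_support {x : Perm α} (h : x.support.card < Fintype.card α) :
    ∃ v, v ∉ x.support := by
  by_contra hne
  push_neg at hne
  have h' : x.support = Finset.univ := Finset.eq_univ_iff_forall.mpr hne
  rw [h', Finset.card_univ] at h
  exact lt_irrefl _ h

theorem conj_swap_not_mem {x : Perm α} {u v : α} (hu : u ∈ x.support) (hv : v ∉ x.support) :
    swap u v * x * (swap u v)⁻¹ ∉ Subgroup.zpowers x := by
  intro h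
  obtain ⟨k, hk⟩ := Subgroup.mem_zpowers_iff.mp h
  have h1 : (x ^ k) v = v := by
    by_contra hne
    exact hv (support_zpow_le x k (mem_support.mpr hne))
  have h2 := congrArg (fun t : Perm α => t v) hk
  simp only [Perm.mul_apply, swap_inv, swap_apply_right] at h2
  rw [h1] at h2
  have hxu : x u ∈ x.support := apply_mem_support.mpr hu
  have hxu1 : x u ≠ u := mem_support.mp hu
  have hxu2 : x u ≠ v := fun h' => hv (h' ▸ hxu)
  rw [swap_apply_of_ne_of_ne hxu1 hxu2] at h2
  exact hxu2 h2.symm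

theorem sym_big (n : ℕ) (h6 : 6 ≤ n) : ¬ NilMinCover (Perm (Fin n)) := by
  obtain ⟨x, hx, hc⟩ := exists_cycle n (n - 1) (by omega) (by omega)
  have key : ¬ NilMinCover ↥(⊤ : Subgroup (Perm (Fin n))) := by
    apply perm_no_cover ⊤ (Subgroup.mem_top x) hx (by omega)
    · intro g _ hg
      exact cent_cycle_one hx (by simp only [Fintype.card_fin]; omega) hg
    · obtain ⟨u, hu⟩ := hx.nonempty_support
      obtain ⟨v, hv⟩ := exists_not_mem_support (x := x) (by simp only [Fintype.card_fin]; omega)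
      exact ⟨swap u v, Subgroup.mem_top _, u, hu, by rw [swap_apply_left]; exact hv⟩
  intro h
  exact key (nilMinCover_of_equiv Subgroup.topEquiv h)

theorem alt_big (n : ℕ) (h6 : 6 ≤ n) : ¬ NilMinCover ↥(alternatingGroup (Fin n)) := by
  obtain ⟨L, hLodd, hL5, hLn, hLn'⟩ : ∃ L, Odd L ∧ 5 ≤ L ∧ L < n ∧ n ≤ L + 2 := by
    rcases Nat.even_or_odd n with he | ho
    · obtain ⟨k, hk⟩ := he
      exact ⟨n - 1, ⟨k - 1, by omega⟩, by omega, by omega, by omega⟩
    · obtain ⟨k, hk⟩ := ho
      exact ⟨n - 2, ⟨k - 1, by omega⟩, by omega, by omega, by omega⟩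
  obtain ⟨x, hx, hc⟩ := exists_cycle n L (by omega) (by omega)
  have hsx : Perm.sign x = 1 := sign_cycle_odd hx (by rw [hc]; exact hLodd)
  apply perm_no_cover (alternatingGroup (Fin n)) (mem_alternatingGroup.mpr hsx) hx (by omega)
  · intro g hgK hg
    exact cent_cycle_two hx (by simp only [Fintype.card_fin]; omega) hsx
      (mem_alternatingGroup.mp hgK) hg
  · obtain ⟨u, hu⟩ := hx.nonempty_support
    have hu' : x u ∈ x.support := apply_mem_support.mpr hu
    have hne : u ≠ x u := fun h => (mem_support.mp hu) h.symm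
    obtain ⟨v, hv⟩ := exists_not_mem_support (x := x) (by simp only [Fintype.card_fin]; omega)
    have huv : u ≠ v := fun h => hv (h ▸ hu)
    refine ⟨swap u v * swap u (x u), ?_, x u, hu', ?_⟩
    · rw [mem_alternatingGroup, Perm.sign_mul, sign_swap huv, sign_swap hne]; simp
    · rw [Perm.mul_apply, swap_apply_right, swap_apply_left]; exact hv

theorem sym_four : ¬ NilMinCover (Perm (Fin 4)) := by
  obtain ⟨x, hx, hc⟩ := exists_cycle 4 3 (by norm_num) (by norm_num)
  obtain ⟨u, hu⟩ := hx.nonempty_support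
  obtain ⟨v, hv⟩ := exists_not_mem_support (x := x) (by simp only [Fintype.card_fin]; omega)
  have huv : u ≠ v := fun h => hv (h ▸ hu)
  have hsx : Perm.sign x = 1 := sign_cycle_odd hx (by rw [hc]; exact ⟨1, rfl⟩)
  have hy : (swap u v * x * (swap u v)⁻¹).IsCycle := hx.conj
  have hcy : (swap u v * x * (swap u v)⁻¹).support.card = 3 := by rw [card_support_conj, hc]
  have key : ¬ NilMinCover ↥(⊤ : Subgroup (Perm (Fin 4))) := by
    apply prime_no_cover ⊤ (alternatingGroup (Fin 4)) ?_ x (swap u v * x * (swap u v)⁻¹)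
      (Subgroup.mem_top _) (Subgroup.mem_top _) ?_ ?_ ?_ ?_ ?_ ?_ (conj_swap_not_mem hu hv)
    · intro hle
      have h := hle (Subgroup.mem_top (swap u v))
      rw [mem_alternatingGroup, sign_swap huv] at h
      exact absurd h (by decide)
    · rw [hx.orderOf, hc]; norm_num
    · rw [hy.orderOf, hcy]; norm_num
    · intro g _ hg
      exact cent_cycle_one hx (by simp only [Fintype.card_fin]; omega) hg
    · intro g _ hg
      exact cent_cycle_one hy (by simp only [Fintype.card_fin]; omega) hg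
    · exact mem_alternatingGroup.mpr hsx
    · rw [mem_alternatingGroup, Perm.sign_mul, Perm.sign_mul, Perm.sign_inv, hsx, mul_one,
        sign_swap huv]
      simp
  intro h
  exact key (nilMinCover_of_equiv Subgroup.topEquiv h)

theorem sym_five : ¬ NilMinCover (Perm (Fin 5)) := by
  obtain ⟨x, hx, hc⟩ := exists_cycle 5 5 (by norm_num) (by norm_num)
  obtain ⟨a, ha⟩ := hx.nonempty_support
  have hab : a ≠ x a := fun h => (mem_support.mp ha) h.symm
  have hsx : Perm.sign x = 1 := sign_cycle_odd hx (by rw [hc]; exact ⟨2, rfl⟩)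
  have hy : (swap a (x a) * x * (swap a (x a))⁻¹).IsCycle := hx.conj
  have hcy : (swap a (x a) * x * (swap a (x a))⁻¹).support.card = 5 := by
    rw [card_support_conj, hc]
  have key : ¬ NilMinCover ↥(⊤ : Subgroup (Perm (Fin 5))) := by
    apply prime_no_cover ⊤ (alternatingGroup (Fin 5)) ?_ x (swap a (x a) * x * (swap a (x a))⁻¹)
      (Subgroup.mem_top _) (Subgroup.mem_top _) ?_ ?_ ?_ ?_ ?_ ?_ ?_
    · intro hle
      have h := hle (Subgroup.mem_top (swap a (x a)))
      rw [mem_alternatingGroup, sign_swap hab] at h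
      exact absurd h (by decide)
    · rw [hx.orderOf, hc]; norm_num
    · rw [hy.orderOf, hcy]; norm_num
    · intro g _ hg
      exact cent_cycle_one hx (by simp only [Fintype.card_fin]; omega) hg
    · intro g _ hg
      exact cent_cycle_one hy (by simp only [Fintype.card_fin]; omega) hg
    · exact mem_alternatingGroup.mpr hsx
    · rw [mem_alternatingGroup, Perm.sign_mul, Perm.sign_mul, Perm.sign_inv, hsx, mul_one,
        sign_swap hab]
      simp
    · intro h
      have h1 := inter_conj_swap hx (by omega) ha h (Subgroup.mem_zpowers _)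
      exact hy.ne_one h1
  intro h
  exact key (nilMinCover_of_equiv Subgroup.topEquiv h)

theorem alt_five : ¬ NilMinCover ↥(alternatingGroup (Fin 5)) := by
  obtain ⟨x, hx, hc⟩ := exists_cycle 5 3 (by norm_num) (by norm_num)
  obtain ⟨u, hu⟩ := hx.nonempty_support
  have hu' : x u ∈ x.support := apply_mem_support.mpr hu
  have hne : u ≠ x u := fun h => (mem_support.mp hu) h.symm
  obtain ⟨v, hv⟩ := exists_not_mem_support (x := x) (by simp only [Fintype.card_fin]; omega)
  obtain ⟨w, hw, hwv⟩ : ∃ w, w ∉ x.support ∧ w ≠ v := by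
    by_contra hcon
    push_neg at hcon
    have hsub : (Finset.univ : Finset (Fin 5)) ⊆ insert v x.support := by
      intro w _
      by_cases hw : w ∈ x.support
      · exact Finset.mem_insert_of_mem hw
      · rw [hcon w hw]; exact Finset.mem_insert_self _ _
    have h1 := Finset.card_le_card hsub
    rw [Finset.card_univ, Fintype.card_fin, Finset.card_insert_of_notMem hv, hc] at h1
    omega
  have huv : u ≠ v := fun h => hv (h ▸ hu)
  have huw : u ≠ w := fun h => hw (h ▸ hu)
  have hwxu : w ≠ x u := fun h' => hw (h' ▸ hu')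
  have hsx : Perm.sign x = 1 := sign_cycle_odd hx (by rw [hc]; exact ⟨1, rfl⟩)
  have hy : (swap u v * x * (swap u v)⁻¹).IsCycle := hx.conj
  have hcy : (swap u v * x * (swap u v)⁻¹).support.card = 3 := by rw [card_support_conj, hc]
  have hsy : Perm.sign (swap u v * x * (swap u v)⁻¹) = 1 :=
    sign_cycle_odd hy (by rw [hcy]; exact ⟨1, rfl⟩)
  apply prime_no_cover (alternatingGroup (Fin 5)) (MulAction.stabilizer (Perm (Fin 5)) w) ?_ x
    (swap u v * x * (swap u v)⁻¹) (mem_alternatingGroup.mpr hsx) (mem_alternatingGroup.mpr hsy)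
    ?_ ?_ ?_ ?_ ?_ ?_ (conj_swap_not_mem hu hv)
  · intro hle
    have hg : swap u w * swap u (x u) ∈ alternatingGroup (Fin 5) := by
      rw [mem_alternatingGroup, Perm.sign_mul, sign_swap huw, sign_swap hne]; simp
    have h := hle hg
    rw [MulAction.mem_stabilizer_iff, Perm.smul_def, Perm.mul_apply,
      swap_apply_of_ne_of_ne (Ne.symm huw) hwxu, swap_apply_right] at h
    exact huw h
  · rw [hx.orderOf, hc]; norm_num
  · rw [hy.orderOf, hcy]; norm_num
  · intro g hgK hg
    exact cent_cycle_two hx (by simp only [Fintype.card_fin]; omega) hsx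
      (mem_alternatingGroup.mp hgK) hg
  · intro g hgK hg
    exact cent_cycle_two hy (by simp only [Fintype.card_fin]; omega) hsy
      (mem_alternatingGroup.mp hgK) hg
  · rw [MulAction.mem_stabilizer_iff, Perm.smul_def]
    exact notMem_support.mp hw
  · rw [MulAction.mem_stabilizer_iff, Perm.smul_def, Perm.mul_apply, Perm.mul_apply, swap_inv,
      swap_apply_of_ne_of_ne (Ne.symm huw) hwv, notMem_support.mp hw,
      swap_apply_of_ne_of_ne (Ne.symm huw) hwv]

/-- Alternating groups of degree at least `5` have no nilpotent minimal cover. -/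
theorem alt_no_cover (n : ℕ) (h5 : 5 ≤ n) : ¬ NilMinCover ↥(alternatingGroup (Fin n)) := by
  rcases Nat.lt_or_ge n 6 with h | h
  · obtain rfl : n = 5 := by omega
    exact alt_five
  · exact alt_big n h

/-- Symmetric groups of degree at least `4` have no nilpotent minimal cover. -/
theorem sym_no_cover (n : ℕ) (h4 : 4 ≤ n) : ¬ NilMinCover (Perm (Fin n)) := by
  rcases Nat.lt_or_ge n 6 with h | h
  · have h' : n = 4 ∨ n = 5 := by omega
    rcases h' with rfl | rfl
    · exact sym_four
    · exact sym_five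
  · exact sym_big n h

end Cfsg.Agent.Helper6.PermCover
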