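import Mathlib
import Cfsg.Prelude.Def_LieRecognition
import Cfsg.Agent.Helper6.RankOne3
import Cfsg.Agent.Helper21.Thompson

set_option autoImplicit false

namespace Cfsg.Agent.Helper6
namespace RankOne

open MulAction

/-- a nilpotent finite group of even order has a central involution -/
theorem exists_central_involution {H : Type*} [Group H] [Finite H] (hn : Group.IsNilpotent H)
    (he : Even (Nat.card H)) : ∃ z : H, z ≠ 1 ∧ z * z = 1 ∧ ∀ x : H, z * x = x * z := by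
  have : Fact (Nat.Prime 2) := ⟨Nat.prime_two⟩
  have hnorm : ∀ (r : ℕ) (_hr : Fact r.Prime) (R : Sylow r H), (R : Subgroup H).Normal :=
    ((Group.isNilpotent_of_finite_tfae (G := H)).out 0 3).mp hn
  obtain ⟨P⟩ : Nonempty (Sylow 2 H) := inferInstance
  have hPne : (P : Subgroup H) ≠ ⊥ := P.ne_bot_of_dvd_card (even_iff_two_dvd.mp he)
  have : Nontrivial (P : Subgroup H) := (Subgroup.nontrivial_iff_ne_bot _).mpr hPne
  have hP2 : IsPGroup 2 (P : Subgroup H) := P.isPGroup'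
  have := hP2.center_nontrivial
  have hZ2 : IsPGroup 2 (Subgroup.center (P : Subgroup H)) := hP2.to_subgroup _
  have hdvd : 2 ∣ Nat.card (Subgroup.center (P : Subgroup H)) := by
    rcases hZ2.card_eq_or_dvd with h | h
    · have := Finite.one_lt_card (α := Subgroup.center (P : Subgroup H))
      omega
    · exact h
  obtain ⟨z, hz⟩ := exists_prime_orderOf_dvd_card' 2 hdvd
  have hzo : orderOf (((z : (P : Subgroup H)) : H)) = 2 := by
    rw [Subgroup.orderOf_coe, Subgroup.orderOf_coe]; exact hz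
  have hz1 : ((z : (P : Subgroup H)) : H) ≠ 1 := fun h => by
    rw [h, orderOf_one] at hzo; omega
  have hz2 : ((z : (P : Subgroup H)) : H) * ((z : (P : Subgroup H)) : H) = 1 := by
    have := pow_orderOf_eq_one (((z : (P : Subgroup H)) : H))
    rw [hzo, pow_two] at this
    exact this
  have hC : ∀ (r : ℕ) [Fact r.Prime],
      ¬ r ∣ (Subgroup.centralizer {((z : (P : Subgroup H)) : H)}).index := by
    intro r hr
    by_cases h2 : r = 2
    · subst h2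
      have hle : (P : Subgroup H) ≤ Subgroup.centralizer {((z : (P : Subgroup H)) : H)} := by
        intro x hx
        rw [Subgroup.mem_centralizer_iff]
        rintro _ rfl
        have := Subgroup.mem_center_iff.mp z.2 ⟨x, hx⟩
        exact (congrArg Subtype.val this).symm
      exact fun hd => P.not_dvd_index (dvd_trans hd (Subgroup.index_dvd_of_le hle))
    · obtain ⟨R⟩ : Nonempty (Sylow r H) := inferInstance
      have hle : (R : Subgroup H) ≤ Subgroup.centralizer {((z : (P : Subgroup H)) : H)} := by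
        intro x hx
        rw [Subgroup.mem_centralizer_iff]
        rintro _ rfl
        have hdis : Disjoint (P : Subgroup H) (R : Subgroup H) :=
          IsPGroup.disjoint_of_ne 2 r (Ne.symm h2) _ _ P.isPGroup' R.isPGroup'
        exact Subgroup.commute_of_normal_of_disjoint _ _ (hnorm 2 inferInstance P)
          (hnorm r hr R) hdis _ x (z : (P : Subgroup H)).2 hx
      exact fun hd => R.not_dvd_index (dvd_trans hd (Subgroup.index_dvd_of_le hle))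
  have hidx : (Subgroup.centralizer {((z : (P : Subgroup H)) : H)}).index = 1 := by
    by_contra h
    obtain ⟨r, hr, hrd⟩ := Nat.exists_prime_and_dvd h
    exact @hC r ⟨hr⟩ hrd
  have htop := Subgroup.index_eq_one.mp hidx
  refine ⟨((z : (P : Subgroup H)) : H), hz1, hz2, fun x => ?_⟩
  have : x ∈ Subgroup.centralizer {((z : (P : Subgroup H)) : H)} := by rw [htop]; trivial
  exact Subgroup.mem_centralizer_iff.mp this _ rfl

theorem commute_of_sq {G : Type*} [Group G] {k x : G} (hk : Odd (orderOf k))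
    (h : k * k * x = x * (k * k)) : k * x = x * k := by
  obtain ⟨j, hj⟩ := hk
  have e : k = (k * k) ^ (j + 1) := by
    rw [← pow_two, ← pow_mul]
    have : 2 * (j + 1) = orderOf k + 1 := by omega
    rw [this, pow_succ, pow_orderOf_eq_one, one_mul]
  have hc : Commute (k * k) x := h
  have := hc.pow_left (j + 1)
  rw [← e] at this
  exact this

theorem conj_ne_one' {G : Type*} [Group G] {u : G} (hu : u ≠ 1) (g : G) : g * u * g⁻¹ ≠ 1 := by
  intro h; apply hu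
  have : u = g⁻¹ * (g * u * g⁻¹) * g := by group
  rw [this, h]; group

variable {G Ω : Type*} [Group G] [MulAction G Ω] {a : Ω} {t : G} {Q : Subgroup G}

theorem inverted_pow (hS : Cfsg.IsRankOneSetup G Ω a t Q) {k : G} (hkt : t * k * t = k⁻¹) (n : ℕ) :
    t * k ^ n * t = (k ^ n)⁻¹ := by
  have h := conj_pow (a := t) (b := k) (i := n)
  rw [t_inv hS, hkt] at h
  rw [← h, _root_.inv_pow]

theorem odd_orderOf_D (hS : Cfsg.IsRankOneSetup G Ω a t Q) {d : G}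
    (hd : d ∈ stabilizer G a ⊓ stabilizer G (t • a)) : Odd (orderOf d) :=
  Odd.of_dvd_nat hS.odd_card (Subgroup.orderOf_dvd_natCard _ hd)

/-- a nontrivial element of `D` inverted by `t` centralizes no nontrivial element of `Q` -/
theorem inv_fpf (hS : Cfsg.IsRankOneSetup G Ω a t Q) [Finite G] {k x : G}
    (hk : k ∈ stabilizer G a ⊓ stabilizer G (t • a)) (hkt : t * k * t = k⁻¹) (hk1 : k ≠ 1)
    (hx : x ∈ Q) (hc : k * x * k⁻¹ = x) : x = 1 := by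
  by_contra hx1
  have hka : k • a = a := mem_stabilizer_iff.mp (Subgroup.mem_inf.mp hk).1
  have hkb : k • t • a = t • a := mem_stabilizer_iff.mp (Subgroup.mem_inf.mp hk).2
  have hkx : k * x = x * k := by
    calc k * x = k * x * k⁻¹ * k := by group
      _ = x * k := by rw [hc]
  have hkc : k • x • t • a = x • t • a := by rw [← mul_smul, hkx, mul_smul, hkb]
  have hca : x • t • a ≠ a := stab_smul_ne hS (hS.le hx) (ta_ne hS)
  have hcb : x • t • a ≠ t • a := fun h => hx1 (semireg hS hx (ta_ne hS) h)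
  have hX : ({k} : Set G) ⊆ ((stabilizer G a ⊓ stabilizer G (t • a) : Subgroup G) : Set G) :=
    Set.singleton_subset_iff.mpr hk
  have h3 : ∃ b c d : Ω, b ≠ c ∧ b ≠ d ∧ c ≠ d ∧
      ∀ y ∈ ({k} : Set G), y • b = b ∧ y • c = c ∧ y • d = d :=
    ⟨a, t • a, x • t • a, (ta_ne hS).symm, hca.symm, hcb.symm, by
      rintro _ rfl; exact ⟨hka, hkb, hkc⟩⟩
  obtain ⟨u, huc, hu2, hua⟩ := exists_centralizer_swap hS hX h3
  obtain ⟨hk0, -, -⟩ := swap_conj hS hu2 hua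
  have huk : k * u = u * k := Subgroup.mem_centralizer_iff.mp huc k rfl
  have hinv : (t * u) * k * (t * u)⁻¹ = k⁻¹ := by
    calc (t * u) * k * (t * u)⁻¹ = t * (u * k) * u⁻¹ * t⁻¹ := by group
      _ = t * (k * u) * u⁻¹ * t⁻¹ := by rw [huk]
      _ = t * k * t⁻¹ := by group
      _ = k⁻¹ := by rw [t_inv hS, hkt]
  exact hk1 (eq_one_of_conj_inv_of_odd (odd_orderOf_D hS hk0) (odd_orderOf_D hS hk) hinv)

theorem conj_mem_inv {u g : G} {c : Ω} (hu1 : u ≠ 1) (hu2 : u * u = 1) (hc : u • c = c)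
    (hg : g • c = a) : g * u * g⁻¹ ∈ Cfsg.involutionsIn (stabilizer G a : Set G) := by
  refine ⟨?_, conj_ne_one' hu1 g, conj_sq_one hu2 g⟩
  rw [SetLike.mem_coe, mem_stabilizer_iff, mul_smul, mul_smul, ← hg, inv_smul_smul, hc]

theorem exists_two_inv (hS : Cfsg.IsRankOneSetup G Ω a t Q) [Finite G]
    (h2 : ∃ x y : G, x ≠ 1 ∧ y ≠ 1 ∧ x ≠ y ∧ x * x = 1 ∧ y * y = 1 ∧ x * y = y * x) :
    ∃ s s' : G, s ∈ Cfsg.involutionsIn (stabilizer G a : Set G) ∧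
      s' ∈ Cfsg.involutionsIn (stabilizer G a : Set G) ∧ s ≠ s' := by
  obtain ⟨x, y, hx1, hy1, hxy, hx2, hy2, hc⟩ := h2
  obtain ⟨c, hcx⟩ := exists_fixed_of_sq_one hS hx2
  have hcy : y • c = c := by
    refine fixed_unique hS hx1 hx2 ?_ hcx
    rw [← mul_smul, hc, mul_smul, hcx]
  have := hS.two_transitive
  have : IsPretransitive G Ω := isPretransitive_of_is_two_pretransitive
  obtain ⟨g, hg⟩ := exists_smul_eq G c a
  refine ⟨g * x * g⁻¹, g * y * g⁻¹, conj_mem_inv hx1 hx2 hcx hg, conj_mem_inv hy1 hy2 hcy hg, ?_⟩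
  intro h
  exact hxy (mul_left_cancel (mul_right_cancel h))

theorem exists_inv_ne_one (hS : Cfsg.IsRankOneSetup G Ω a t Q) [Finite G]
    (h2 : ∃ x y : G, x ≠ 1 ∧ y ≠ 1 ∧ x ≠ y ∧ x * x = 1 ∧ y * y = 1 ∧ x * y = y * x) :
    ∃ k ∈ stabilizer G a ⊓ stabilizer G (t • a), t * k * t = k⁻¹ ∧ k ≠ 1 := by
  obtain ⟨s, s', hs, hs', hne⟩ := exists_two_inv hS h2
  obtain ⟨k, hk, hks⟩ := inv_trans hS hs hs'
  obtain ⟨hkD, hkt⟩ := hk
  refine ⟨k, hkD, ?_, ?_⟩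
  · rwa [t_inv hS] at hkt
  · rintro rfl
    apply hne; rw [← hks]; group

/-- **`Q` is nilpotent** (Thompson). -/
theorem Q_nilpotent (hS : Cfsg.IsRankOneSetup G Ω a t Q) [Finite G]
    (h2 : ∃ x y : G, x ≠ 1 ∧ y ≠ 1 ∧ x ≠ y ∧ x * x = 1 ∧ y * y = 1 ∧ x * y = y * x) :
    Group.IsNilpotent Q := by
  obtain ⟨k, hkD, hkt, hk1⟩ := exists_inv_ne_one hS h2
  have hm1 : orderOf k ≠ 1 := fun h => hk1 (orderOf_eq_one_iff.mp h)
  have hm0 : 0 < orderOf k := orderOf_pos k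
  have hpp : (orderOf k).minFac.Prime := Nat.minFac_prime hm1
  have hpd : (orderOf k).minFac ∣ orderOf k := Nat.minFac_dvd _
  obtain ⟨k', hk'⟩ : ∃ k' : G, k' = k ^ (orderOf k / (orderOf k).minFac) := ⟨_, rfl⟩
  have hk'D : k' ∈ stabilizer G a ⊓ stabilizer G (t • a) := by
    rw [hk']; exact Subgroup.pow_mem _ hkD _
  have hk't : t * k' * t = k'⁻¹ := by rw [hk']; exact inverted_pow hS hkt _
  have hk'p : k' ^ (orderOf k).minFac = 1 := by
    rw [hk', ← pow_mul, Nat.div_mul_cancel hpd, pow_orderOf_eq_one]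
  have hk'1 : k' ≠ 1 := by
    rw [hk']
    apply pow_ne_one_of_lt_orderOf
    · exact (Nat.div_pos (Nat.le_of_dvd hm0 hpd) hpp.pos).ne'
    · exact Nat.div_lt_self hm0 hpp.one_lt
  let φ : ↥Q ≃* ↥Q := Cfsg.Agent.Helper21.restrictEquiv (MulAut.conj k') Q
    (fun x hx => by rw [MulAut.conj_apply]; exact D_conj hS hk'D hx)
  have hφ : ∀ x : ↥Q, ((φ x : ↥Q) : G) = k' * x * k'⁻¹ := fun x => rfl
  have key : ∀ (n : ℕ) (x : ↥Q), (((⇑φ)^[n] x : ↥Q) : G) = k' ^ n * x * (k' ^ n)⁻¹ := by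
    intro n
    induction n with
    | zero => intro x; simp
    | succ n ih =>
      intro x
      rw [Function.iterate_succ_apply', hφ, ih, pow_succ']
      group
  refine Cfsg.Agent.Helper21.thompson_nilpotent φ ?_ _ hpp ?_
  · intro x hx
    have h1 : k' * (x : G) * k'⁻¹ = x := by rw [← hφ, hx]
    exact Subtype.ext (inv_fpf hS hk'D hk't hk'1 x.2 h1)
  · intro x
    apply Subtype.ext
    rw [key, hk'p]; group

theorem exists_central_inv_Q (hS : Cfsg.IsRankOneSetup G Ω a t Q) [Finite G]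
    (h2 : ∃ x y : G, x ≠ 1 ∧ y ≠ 1 ∧ x ≠ y ∧ x * x = 1 ∧ y * y = 1 ∧ x * y = y * x) :
    ∃ z ∈ Cfsg.involutionsIn (stabilizer G a : Set G), ∀ x ∈ Q, z * x = x * z := by
  obtain ⟨z, hz1, hz2, hzc⟩ := exists_central_involution (Q_nilpotent hS h2) hS.even_card
  refine ⟨(z : G), ⟨hS.le z.2, fun h => hz1 (Subtype.ext h), congrArg Subtype.val hz2⟩,
    fun x hx => ?_⟩
  exact congrArg Subtype.val (hzc ⟨x, hx⟩)

/-- every involution of `G_a` is central in `Q` -/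
theorem inv_central (hS : Cfsg.IsRankOneSetup G Ω a t Q) [Finite G]
    (h2 : ∃ x y : G, x ≠ 1 ∧ y ≠ 1 ∧ x ≠ y ∧ x * x = 1 ∧ y * y = 1 ∧ x * y = y * x) {s : G}
    (hs : s ∈ Cfsg.involutionsIn (stabilizer G a : Set G)) : ∀ x ∈ Q, s * x = x * s := by
  obtain ⟨z, hz, hzc⟩ := exists_central_inv_Q hS h2
  obtain ⟨k, hk, hks⟩ := inv_trans hS hz hs
  obtain ⟨hkD, -⟩ := hk
  intro x hx
  have h1 := hzc _ (D_conj hS hkD hx)
  calc s * x = k⁻¹ * (z * (k * x * k⁻¹)) * k := by rw [← hks]; group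
    _ = k⁻¹ * ((k * x * k⁻¹) * z) * k := by rw [h1]
    _ = x * s := by rw [← hks]; group

theorem inv_mul (hS : Cfsg.IsRankOneSetup G Ω a t Q) [Finite G]
    (h2 : ∃ x y : G, x ≠ 1 ∧ y ≠ 1 ∧ x ≠ y ∧ x * x = 1 ∧ y * y = 1 ∧ x * y = y * x) {s s' : G}
    (hs : s ∈ Cfsg.involutionsIn (stabilizer G a : Set G))
    (hs' : s' ∈ Cfsg.involutionsIn (stabilizer G a : Set G)) :
    s * s' = 1 ∨ s * s' ∈ Cfsg.involutionsIn (stabilizer G a : Set G) := by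
  by_cases h : s * s' = 1
  · exact Or.inl h
  · right
    obtain ⟨hsa, hs1, hs2⟩ := hs
    obtain ⟨hsa', hs1', hs2'⟩ := hs'
    have hc := inv_central hS h2 ⟨hsa, hs1, hs2⟩ s' (sq_one_mem_Q hS hsa' hs2')
    refine ⟨Subgroup.mul_mem _ hsa hsa', h, ?_⟩
    calc s * s' * (s * s') = s * (s' * s) * s' := by group
      _ = s * (s * s') * s' := by rw [hc]
      _ = (s * s) * (s' * s') := by group
      _ = 1 := by rw [hs2, hs2', one_mul]

/-- `D = K · C_D(t)` -/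
theorem D_decomp (hS : Cfsg.IsRankOneSetup G Ω a t Q) [Finite G] {d : G}
    (hd : d ∈ stabilizer G a ⊓ stabilizer G (t • a)) :
    ∃ k ∈ stabilizer G a ⊓ stabilizer G (t • a), t * k * t = k⁻¹ ∧
      ∃ d₀ ∈ stabilizer G a ⊓ stabilizer G (t • a), t * d₀ * t = d₀ ∧ d = k * d₀ := by
  obtain ⟨m, hm⟩ : ∃ m : G, m = d * (t * d⁻¹ * t) := ⟨_, rfl⟩
  have hmD : m ∈ stabilizer G a ⊓ stabilizer G (t • a) := by
    rw [hm]; exact Subgroup.mul_mem _ hd (t_conj_mem hS (Subgroup.inv_mem _ hd))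
  have hmt : t * m * t = m⁻¹ := by
    have e1 : t * m * t = t * d * t * d⁻¹ * (t * t) := by rw [hm]; group
    have e2 : m⁻¹ = t⁻¹ * d * t⁻¹ * d⁻¹ := by rw [hm]; group
    rw [e1, e2, hS.mul_self, mul_one, t_inv hS]
  obtain ⟨j, hj⟩ := odd_orderOf_D hS hmD
  obtain ⟨k, hk⟩ : ∃ k : G, k = m ^ (j + 1) := ⟨_, rfl⟩
  have hkk : k * k = m := by
    rw [hk, ← pow_add]
    have : j + 1 + (j + 1) = orderOf m + 1 := by omega
    rw [this, pow_succ, pow_orderOf_eq_one, one_mul]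
  have hkD : k ∈ stabilizer G a ⊓ stabilizer G (t • a) := by
    rw [hk]; exact Subgroup.pow_mem _ hmD _
  have hkt : t * k * t = k⁻¹ := by rw [hk]; exact inverted_pow hS hmt _
  have h1 : t * k⁻¹ * t = k := by
    have := congrArg Inv.inv hkt
    rw [mul_inv_rev, mul_inv_rev, t_inv hS, inv_inv, ← mul_assoc] at this
    exact this
  have h2 : m * (t * d * t) = d := by
    calc m * (t * d * t) = d * t * d⁻¹ * (t * t) * d * t := by rw [hm]; group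
      _ = d * t * d⁻¹ * d * t := by rw [hS.mul_self, mul_one]
      _ = d * (t * t) := by group
      _ = d := by rw [hS.mul_self, mul_one]
  refine ⟨k, hkD, hkt, k⁻¹ * d, Subgroup.mul_mem _ (Subgroup.inv_mem _ hkD) hd, ?_, by group⟩
  calc t * (k⁻¹ * d) * t = (t * k⁻¹ * t) * (t⁻¹ * d * t) := by group
    _ = k * (t * d * t) := by rw [h1, t_inv hS]
    _ = k⁻¹ * (k * k * (t * d * t)) := by group
    _ = k⁻¹ * d := by rw [hkk, h2]

/-- `C_D(t)` controls fusion of its subsets -/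
theorem fusion_D0 (hS : Cfsg.IsRankOneSetup G Ω a t Q) [Finite G] (X : Set G)
    (hX : X ⊆ (((stabilizer G a ⊓ stabilizer G (t • a)) ⊓ Subgroup.centralizer {t} : Subgroup G) : Set G))
    (g : G)
    (hY : (fun x => g * x * g⁻¹) '' X ⊆
      (((stabilizer G a ⊓ stabilizer G (t • a)) ⊓ Subgroup.centralizer {t} : Subgroup G) : Set G)) :
    ∃ v ∈ (stabilizer G a ⊓ stabilizer G (t • a)) ⊓ Subgroup.centralizer {t},
      (fun x => v * x * v⁻¹) '' X = (fun x => g * x * g⁻¹) '' X := by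
  have hXD : X ⊆ ((stabilizer G a ⊓ stabilizer G (t • a) : Subgroup G) : Set G) :=
    fun x hx => (Subgroup.mem_inf.mp (hX hx)).1
  have hXt : ∀ x ∈ X, x * t = t * x := fun x hx =>
    (Subgroup.mem_centralizer_iff.mp (Subgroup.mem_inf.mp (hX hx)).2 t rfl).symm
  obtain ⟨c₀, hc₀⟩ := exists_fixed_of_sq_one hS hS.mul_self
  have hc₀a : c₀ ≠ a := fun h => hS.not_mem (by rw [h] at hc₀; exact mem_stabilizer_iff.mpr hc₀)
  have hc₀b : c₀ ≠ t • a := by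
    intro h
    rw [h, t_ta hS] at hc₀
    exact ta_ne hS hc₀.symm
  have hXc : ∀ x ∈ X, x • c₀ = c₀ := fun x hx => by
    refine fixed_unique hS hS.ne_one hS.mul_self ?_ hc₀
    rw [← mul_smul, ← hXt x hx, mul_smul, hc₀]
  have hfix := D_fix hS hXD
  have h3 : ∃ b c d : Ω, b ≠ c ∧ b ≠ d ∧ c ≠ d ∧ ∀ x ∈ X, x • b = b ∧ x • c = c ∧ x • d = d :=
    ⟨a, t • a, c₀, (ta_ne hS).symm, hc₀a.symm, hc₀b.symm,
      fun x hx => ⟨hfix.1 x hx, hfix.2 x hx, hXc x hx⟩⟩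
  have hg1 : ∀ x ∈ X, x • g⁻¹ • a = g⁻¹ • a := fun x hx => by
    have := mem_stabilizer_iff.mp
      (Subgroup.mem_inf.mp (Subgroup.mem_inf.mp (hY ⟨x, hx, rfl⟩)).1).1
    rw [mul_smul, mul_smul] at this
    exact eq_inv_smul_iff.mpr this
  have hg2 : ∀ x ∈ X, x • g⁻¹ • t • a = g⁻¹ • t • a := fun x hx => by
    have := mem_stabilizer_iff.mp
      (Subgroup.mem_inf.mp (Subgroup.mem_inf.mp (hY ⟨x, hx, rfl⟩)).1).2
    rw [mul_smul, mul_smul] at this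
    exact eq_inv_smul_iff.mpr this
  obtain ⟨c, hcC, hca, hcb⟩ := centralizer_two_trans hS h3 hfix.1 hfix.2 hg1 hg2 (ta_ne hS).symm
    (fun h => ta_ne hS (smul_left_cancel _ h).symm)
  have hg'D : g * c ∈ stabilizer G a ⊓ stabilizer G (t • a) := by
    refine Subgroup.mem_inf.mpr ⟨?_, ?_⟩
    · rw [mem_stabilizer_iff, mul_smul, hca, smul_inv_smul]
    · rw [mem_stabilizer_iff, mul_smul, hcb, smul_inv_smul]
  have hg'x : ∀ x ∈ X, (g * c) * x * (g * c)⁻¹ = g * x * g⁻¹ := fun x hx => by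
    have := Subgroup.mem_centralizer_iff.mp hcC x hx
    calc (g * c) * x * (g * c)⁻¹ = g * (c * x) * c⁻¹ * g⁻¹ := by group
      _ = g * (x * c) * c⁻¹ * g⁻¹ := by rw [this]
      _ = g * x * g⁻¹ := by group
  obtain ⟨k, hkD, hkt, d₀, hd₀D, hd₀t, hgk⟩ := D_decomp hS hg'D
  have hd₀C : d₀ ∈ Subgroup.centralizer {t} := by
    rw [Subgroup.mem_centralizer_iff]
    intro y hy
    rw [Set.mem_singleton_iff.mp hy]
    calc t * d₀ = t * d₀ * t * t⁻¹ := by group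
      _ = d₀ * t := by rw [hd₀t, t_inv hS]
  have tk : t * k = k⁻¹ * t := by
    calc t * k = t * k * t * t⁻¹ := by group
      _ = k⁻¹ * t := by rw [hkt, t_inv hS]
  have tk' : t * k⁻¹ = k * t := by
    calc t * k⁻¹ = k * (k⁻¹ * t) * k⁻¹ := by group
      _ = k * (t * k) * k⁻¹ := by rw [tk]
      _ = k * t := by group
  refine ⟨d₀, Subgroup.mem_inf.mpr ⟨hd₀D, hd₀C⟩, ?_⟩
  apply Set.image_congr
  intro x hx
  show d₀ * x * d₀⁻¹ = g * x * g⁻¹
  have hxC : x ∈ Subgroup.centralizer {t} := (Subgroup.mem_inf.mp (hX hx)).2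
  have hx'C : d₀ * x * d₀⁻¹ ∈ Subgroup.centralizer {t} :=
    Subgroup.mul_mem _ (Subgroup.mul_mem _ hd₀C hxC) (Subgroup.inv_mem _ hd₀C)
  have e : g * x * g⁻¹ = k * (d₀ * x * d₀⁻¹) * k⁻¹ := by
    rw [← hg'x x hx, hgk]; group
  have hyC : k * (d₀ * x * d₀⁻¹) * k⁻¹ ∈ Subgroup.centralizer {t} := by
    rw [← e]; exact (Subgroup.mem_inf.mp (hY ⟨x, hx, rfl⟩)).2
  have c1 : t * (d₀ * x * d₀⁻¹) = (d₀ * x * d₀⁻¹) * t :=
    Subgroup.mem_centralizer_iff.mp hx'C t rfl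
  have c2 : t * (k * (d₀ * x * d₀⁻¹) * k⁻¹) = (k * (d₀ * x * d₀⁻¹) * k⁻¹) * t :=
    Subgroup.mem_centralizer_iff.mp hyC t rfl
  have e3 : k⁻¹ * (d₀ * x * d₀⁻¹) * k * t = k * (d₀ * x * d₀⁻¹) * k⁻¹ * t := by
    calc k⁻¹ * (d₀ * x * d₀⁻¹) * k * t = k⁻¹ * (d₀ * x * d₀⁻¹) * (k * t) := by group
      _ = k⁻¹ * (d₀ * x * d₀⁻¹) * (t * k⁻¹) := by rw [tk']
      _ = k⁻¹ * ((d₀ * x * d₀⁻¹) * t) * k⁻¹ := by group
      _ = k⁻¹ * (t * (d₀ * x * d₀⁻¹)) * k⁻¹ := by rw [c1]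
      _ = (k⁻¹ * t) * (d₀ * x * d₀⁻¹) * k⁻¹ := by group
      _ = (t * k) * (d₀ * x * d₀⁻¹) * k⁻¹ := by rw [tk]
      _ = t * (k * (d₀ * x * d₀⁻¹) * k⁻¹) := by group
      _ = k * (d₀ * x * d₀⁻¹) * k⁻¹ * t := c2
  have e4 : k⁻¹ * (d₀ * x * d₀⁻¹) * k = k * (d₀ * x * d₀⁻¹) * k⁻¹ := mul_right_cancel e3
  have e5 : k * k * (d₀ * x * d₀⁻¹) = (d₀ * x * d₀⁻¹) * (k * k) := by
    calc k * k * (d₀ * x * d₀⁻¹) = k * (k * (d₀ * x * d₀⁻¹) * k⁻¹) * k := by group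
      _ = k * (k⁻¹ * (d₀ * x * d₀⁻¹) * k) * k := by rw [e4]
      _ = (d₀ * x * d₀⁻¹) * (k * k) := by group
  have hkx := commute_of_sq (odd_orderOf_D hS hkD) e5
  calc d₀ * x * d₀⁻¹ = (d₀ * x * d₀⁻¹) * k * k⁻¹ := by group
    _ = k * (d₀ * x * d₀⁻¹) * k⁻¹ := by rw [← hkx]
    _ = g * x * g⁻¹ := e.symm

theorem not_both_fix (hS : Cfsg.IsRankOneSetup G Ω a t Q) [Finite G]
    (h2 : ∃ x y : G, x ≠ 1 ∧ y ≠ 1 ∧ x ≠ y ∧ x * x = 1 ∧ y * y = 1 ∧ x * y = y * x) {u v : G}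
    (hu1 : u ≠ 1) (hu2 : u * u = 1) (hv1 : v ≠ 1) (hv2 : v * v = 1)
    (hx : (u * v) * (u * v) ≠ 1) {c : Ω} (huc : u • c = c) (hvc : v • c = c) : False := by
  have := hS.two_transitive
  have : IsPretransitive G Ω := isPretransitive_of_is_two_pretransitive
  obtain ⟨g, hg⟩ := exists_smul_eq G c a
  have h := inv_mul hS h2 (conj_mem_inv hu1 hu2 huc hg) (conj_mem_inv hv1 hv2 hvc hg)
  have hsq : (g * u * g⁻¹ * (g * v * g⁻¹)) * (g * u * g⁻¹ * (g * v * g⁻¹)) = 1 := by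
    rcases h with h | h
    · rw [h, one_mul]
    · exact h.2.2
  apply hx
  calc u * v * (u * v)
      = g⁻¹ * ((g * u * g⁻¹ * (g * v * g⁻¹)) * (g * u * g⁻¹ * (g * v * g⁻¹))) * g := by group
    _ = 1 := by rw [hsq]; group

theorem prod_conj (hS : Cfsg.IsRankOneSetup G Ω a t Q) [Finite G]
    (h2 : ∃ x y : G, x ≠ 1 ∧ y ≠ 1 ∧ x ≠ y ∧ x * x = 1 ∧ y * y = 1 ∧ x * y = y * x) {u v : G}
    (hu1 : u ≠ 1) (hu2 : u * u = 1) (hv1 : v ≠ 1) (hv2 : v * v = 1)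
    (hx : (u * v) * (u * v) ≠ 1) :
    ∃ g : G, ∃ u' ∈ Cfsg.involutionsIn (stabilizer G a : Set G), g * (u * v) * g⁻¹ = u' * t := by
  have h2t := hS.two_transitive
  have : IsPretransitive G Ω := isPretransitive_of_is_two_pretransitive
  obtain ⟨c, hc⟩ := exists_fixed_of_sq_one hS hu2
  obtain ⟨g₁, hg₁⟩ := exists_smul_eq G c a
  obtain ⟨hu₁s, hu₁1, hu₁2⟩ := conj_mem_inv (a := a) hu1 hu2 hc hg₁
  have hv₁1 : g₁ * v * g₁⁻¹ ≠ 1 := conj_ne_one' hv1 g₁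
  have hv₁2 := conj_sq_one hv2 g₁
  obtain ⟨c₁, hc₁⟩ := exists_fixed_of_sq_one hS hv₁2
  have hc₁a : c₁ ≠ a := by
    intro h
    rw [h, mul_smul, mul_smul, ← hg₁, inv_smul_smul] at hc₁
    exact not_both_fix hS h2 hu1 hu2 hv1 hv2 hx hc (smul_left_cancel g₁ hc₁)
  obtain ⟨c₀, hc₀⟩ := exists_fixed_of_sq_one hS hS.mul_self
  have hc₀a : c₀ ≠ a := fun h => hS.not_mem (by rw [h] at hc₀; exact mem_stabilizer_iff.mpr hc₀)
  obtain ⟨h, hha, hhc⟩ := exists_fix_map hS hc₁a hc₀a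
  obtain ⟨hu₂s, hu₂1, hu₂2⟩ := conj_mem_inv (a := a) hu₁1 hu₁2 (mem_stabilizer_iff.mp hu₁s) hha
  have hv₂1 := conj_ne_one' hv₁1 h
  have hv₂2 := conj_sq_one hv₁2 h
  have hv₂c : (h * (g₁ * v * g₁⁻¹) * h⁻¹) • c₀ = c₀ := by
    rw [mul_smul, mul_smul, ← hhc, inv_smul_smul, hc₁]
  rw [MulAction.is_two_pretransitive_iff] at h2t
  obtain ⟨w, hwc, hwa⟩ := h2t hc₀a (ta_ne hS).symm
  have hs₁ := conj_mem_inv (a := a) hv₂1 hv₂2 hv₂c hwc
  have hs₂ := conj_mem_inv (a := a) hS.ne_one hS.mul_self hc₀ hwc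
  obtain ⟨k, hk, hks⟩ := inv_trans hS hs₁ hs₂
  obtain ⟨hkD, -⟩ := hk
  have hh'a : (w⁻¹ * k⁻¹ * w) • a = a := by
    have hkb : k⁻¹ • t • a = t • a :=
      mem_stabilizer_iff.mp (Subgroup.mem_inf.mp (Subgroup.inv_mem _ hkD)).2
    rw [mul_smul, mul_smul, hwa, hkb, inv_smul_eq_iff, hwa]
  have ht : (w⁻¹ * k⁻¹ * w) * (h * (g₁ * v * g₁⁻¹) * h⁻¹) * (w⁻¹ * k⁻¹ * w)⁻¹ = t := by
    calc (w⁻¹ * k⁻¹ * w) * (h * (g₁ * v * g₁⁻¹) * h⁻¹) * (w⁻¹ * k⁻¹ * w)⁻¹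
        = w⁻¹ * (k⁻¹ * (w * (h * (g₁ * v * g₁⁻¹) * h⁻¹) * w⁻¹) * k) * w := by group
      _ = w⁻¹ * (w * t * w⁻¹) * w := by rw [hks]
      _ = t := by group
  have hu₃ := conj_mem_inv (a := a) hu₂1 hu₂2 (mem_stabilizer_iff.mp hu₂s) hh'a
  refine ⟨(w⁻¹ * k⁻¹ * w) * h * g₁, _, hu₃, ?_⟩
  calc (w⁻¹ * k⁻¹ * w) * h * g₁ * (u * v) * ((w⁻¹ * k⁻¹ * w) * h * g₁)⁻¹
      = ((w⁻¹ * k⁻¹ * w) * (h * (g₁ * u * g₁⁻¹) * h⁻¹) * (w⁻¹ * k⁻¹ * w)⁻¹) *
        ((w⁻¹ * k⁻¹ * w) * (h * (g₁ * v * g₁⁻¹) * h⁻¹) * (w⁻¹ * k⁻¹ * w)⁻¹) := by group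
    _ = _ := by rw [ht]

theorem odd_centralizer_prod (hS : Cfsg.IsRankOneSetup G Ω a t Q) [Finite G]
    (h2 : ∃ x y : G, x ≠ 1 ∧ y ≠ 1 ∧ x ≠ y ∧ x * x = 1 ∧ y * y = 1 ∧ x * y = y * x) {u v : G}
    (hu1 : u ≠ 1) (hu2 : u * u = 1) (hv1 : v ≠ 1) (hv2 : v * v = 1)
    (hx : (u * v) * (u * v) ≠ 1) :
    Odd (Nat.card ↥(Subgroup.centralizer {u * v})) := by
  rw [← Nat.not_even_iff_odd]
  intro hev
  have h2t := hS.two_transitive
  have : Fact (Nat.Prime 2) := ⟨Nat.prime_two⟩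
  obtain ⟨w, hw⟩ := exists_prime_orderOf_dvd_card' 2 (even_iff_two_dvd.mp hev)
  have hwo : orderOf (w : G) = 2 := by rw [Subgroup.orderOf_coe]; exact hw
  have hw1 : (w : G) ≠ 1 := fun h => by rw [h, orderOf_one] at hwo; omega
  have hw2 : (w : G) * (w : G) = 1 := by rw [← pow_two, ← hwo, pow_orderOf_eq_one]
  have hwx : (u * v) * (w : G) = (w : G) * (u * v) :=
    Subgroup.mem_centralizer_iff.mp w.2 (u * v) rfl
  obtain ⟨c, hc⟩ := exists_fixed_of_sq_one hS hw2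
  have hxc : (u * v) • c = c := by
    refine fixed_unique hS hw1 hw2 ?_ hc
    rw [← mul_smul, ← hwx, mul_smul, hc]
  have hui : u⁻¹ = u := inv_eq_of_mul_eq_one_left hu2
  have hvi : v⁻¹ = v := inv_eq_of_mul_eq_one_left hv2
  have hxc' : (u * v) • u • c = u • c := by
    have e : u * v * u = u * (u * v)⁻¹ := by rw [mul_inv_rev, hui, hvi]; group
    rw [← mul_smul, e, mul_smul, inv_smul_eq_iff.mpr hxc.symm]
  have hcc' : u • c ≠ c := by
    intro h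
    have hvc : v • c = c := by
      have e : v = u * (u * v) := by rw [← mul_assoc, hu2, one_mul]
      rw [e, mul_smul, hxc, h]
    exact not_both_fix hS h2 hu1 hu2 hv1 hv2 hx h hvc
  have hxc'' : (u * v) • (w : G) • u • c = (w : G) • u • c := by
    rw [← mul_smul, hwx, mul_smul, hxc']
  have hc''c : (w : G) • u • c ≠ c := by
    intro h
    apply hcc'
    have : (w : G) • u • c = (w : G) • c := by rw [h, hc]
    exact smul_left_cancel _ this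
  have hc''c' : (w : G) • u • c ≠ u • c := fun h => hcc' (fixed_unique hS hw1 hw2 h hc)
  rw [MulAction.is_two_pretransitive_iff] at h2t
  obtain ⟨g, hgc, hgc'⟩ := h2t hcc'.symm (ta_ne hS).symm
  have hgi : g⁻¹ • a = c := by rw [inv_smul_eq_iff, hgc]
  have hfixconj : ∀ {e : Ω}, (u * v) • e = e → (g * (u * v) * g⁻¹) • g • e = g • e := by
    intro e he; rw [mul_smul, mul_smul, inv_smul_smul, he]
  have hx₁a : (g * (u * v) * g⁻¹) • a = a := by have := hfixconj hxc; rwa [hgc] at this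
  have hx₁b : (g * (u * v) * g⁻¹) • t • a = t • a := by
    have := hfixconj hxc'; rwa [hgc'] at this
  have hx₁d := hfixconj hxc''
  have hx₁D : g * (u * v) * g⁻¹ ∈ stabilizer G a ⊓ stabilizer G (t • a) :=
    Subgroup.mem_inf.mpr ⟨mem_stabilizer_iff.mpr hx₁a, mem_stabilizer_iff.mpr hx₁b⟩
  have hX : ({g * (u * v) * g⁻¹} : Set G) ⊆
      ((stabilizer G a ⊓ stabilizer G (t • a) : Subgroup G) : Set G) :=
    Set.singleton_subset_iff.mpr hx₁D
  have h3 : ∃ b c' d : Ω, b ≠ c' ∧ b ≠ d ∧ c' ≠ d ∧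
      ∀ y ∈ ({g * (u * v) * g⁻¹} : Set G), y • b = b ∧ y • c' = c' ∧ y • d = d := by
    refine ⟨a, t • a, g • (w : G) • u • c, (ta_ne hS).symm, ?_, ?_, ?_⟩
    · rw [← hgc]; exact fun h => hc''c (smul_left_cancel g h).symm
    · rw [← hgc']; exact fun h => hc''c' (smul_left_cancel g h).symm
    · rintro _ rfl; exact ⟨hx₁a, hx₁b, hx₁d⟩
  obtain ⟨u₀, hu₀c, hu₀2, hu₀a⟩ := exists_centralizer_swap hS hX h3
  obtain ⟨hk₀, -, -⟩ := swap_conj hS hu₀2 hu₀a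
  have hu₁2 := conj_sq_one hu2 g
  have hu₁a : (g * u * g⁻¹) • a = t • a := by
    rw [mul_smul, mul_smul, hgi, hgc']
  obtain ⟨hk₁, -, -⟩ := swap_conj hS hu₁2 hu₁a
  have hdD : (t * (g * u * g⁻¹))⁻¹ * (t * u₀) ∈ stabilizer G a ⊓ stabilizer G (t • a) :=
    Subgroup.mul_mem _ (Subgroup.inv_mem _ hk₁) hk₀
  have hcomm0 : g * (u * v) * g⁻¹ * u₀ = u₀ * (g * (u * v) * g⁻¹) :=
    Subgroup.mem_centralizer_iff.mp hu₀c _ rfl
  have hinv : ((t * (g * u * g⁻¹))⁻¹ * (t * u₀)) * (g * (u * v) * g⁻¹) *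
      ((t * (g * u * g⁻¹))⁻¹ * (t * u₀))⁻¹ = (g * (u * v) * g⁻¹)⁻¹ := by
    calc ((t * (g * u * g⁻¹))⁻¹ * (t * u₀)) * (g * (u * v) * g⁻¹) *
          ((t * (g * u * g⁻¹))⁻¹ * (t * u₀))⁻¹
        = (g * u * g⁻¹)⁻¹ * (u₀ * (g * (u * v) * g⁻¹)) * u₀⁻¹ * (g * u * g⁻¹) := by group
      _ = (g * u * g⁻¹)⁻¹ * (g * (u * v) * g⁻¹ * u₀) * u₀⁻¹ * (g * u * g⁻¹) := by rw [hcomm0]
      _ = g * (v * u) * g⁻¹ := by group
      _ = g * (v⁻¹ * u⁻¹) * g⁻¹ := by rw [hui, hvi]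
      _ = (g * (u * v) * g⁻¹)⁻¹ := by group
  have hx₁1 := eq_one_of_conj_inv_of_odd (odd_orderOf_D hS hdD) (odd_orderOf_D hS hx₁D) hinv
  apply hx
  have huv : u * v = 1 := by
    have : u * v = g⁻¹ * (g * (u * v) * g⁻¹) * g := by group
    rw [this, hx₁1]; group
  rw [huv, one_mul]

end RankOne
end Cfsg.Agent.Helper6
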