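import Mathlib
import Cfsg.Agent.Helper6.SzFpf

set_option autoImplicit false

/-!
The number of fixed-point-free elements of the Suzuki group `Sz(q)` on the ovoid is
`q³ (q - 1)² / 2`.
-/

namespace Cfsg.Agent.Helper6.Sz

open Matrix
open scoped Pointwise

variable {F : Type*} [Field F] [Fintype F] {s : ℕ}

theorem card_stab (D : SzData F s) {a : Projectivization F (Fin 4 → F)} (ha : a ∈ ov F s) :
    Nat.card {g : SzG F s // (g : SL4 F) • a = a} =
      Fintype.card F ^ 2 * (Fintype.card F - 1) := by
  obtain ⟨k, hk, hka⟩ := exists_to_inf D ha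
  rw [← card_stab_inf D]
  refine Nat.card_congr (Equiv.subtypeEquiv (MulAut.conj (⟨k, hk⟩ : SzG F s)).toEquiv
    (fun g => ?_))
  show (g : SL4 F) • a = a ↔ (k * (g : SL4 F) * k⁻¹) • Pinf F = Pinf F
  rw [← hka, conj_smul]
  constructor
  · intro h; rw [h]
  · intro h; exact smul_left_cancel k h

theorem card_stab2 (D : SzData F s) {a b : Projectivization F (Fin 4 → F)} (ha : a ∈ ov F s)
    (hb : b ∈ ov F s) (hab : a ≠ b) :
    Nat.card {g : SzG F s // (g : SL4 F) • a = a ∧ (g : SL4 F) • b = b} =
      Fintype.card F - 1 := by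
  obtain ⟨k, hk, hka, hkb⟩ := exists_to_pair D ha hb hab
  obtain ⟨e⟩ := stab_two_equiv D
  rw [← Nat.card_eq_fintype_card (α := F), ← Nat.card_units, ← Nat.card_congr e.toEquiv]
  refine Nat.card_congr (Equiv.subtypeEquiv (MulAut.conj (⟨k, hk⟩ : SzG F s)).toEquiv
    (fun g => ?_))
  show ((g : SL4 F) • a = a ∧ (g : SL4 F) • b = b) ↔
    ((k * (g : SL4 F) * k⁻¹) • Pinf F = Pinf F ∧ (k * (g : SL4 F) * k⁻¹) • P0 F = P0 F)
  rw [← hka, ← hkb, conj_smul, conj_smul]
  constructor
  · rintro ⟨h1, h2⟩
    rw [h1, h2]
    exact ⟨rfl, rfl⟩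
  · rintro ⟨h1, h2⟩
    exact ⟨smul_left_cancel k h1, smul_left_cancel k h2⟩

/-- The number of fixed-point-free elements. -/
theorem card_fpf (D : SzData F s) :
    2 * {g : SzG F s | Fpf s (g : SL4 F)}.ncard =
      Fintype.card F ^ 3 * (Fintype.card F - 1) ^ 2 := by
  classical
  haveI : Fintype (SzG F s) := Fintype.ofFinite _
  haveI : Fintype (ov F s) := Fintype.ofFinite _
  let fixR : SzG F s → ov F s → Prop := fun g a =>
    (g : SL4 F) • (a : Projectivization F (Fin 4 → F)) = a
  let f : SzG F s → ℕ := fun g => (Finset.univ.filter (fixR g)).card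
  -- first moment
  have h1 : ∑ g : SzG F s, f g =
      (Fintype.card F ^ 2 + 1) * (Fintype.card F ^ 2 * (Fintype.card F - 1)) := by
    have hb := Finset.sum_card_bipartiteAbove_eq_sum_card_bipartiteBelow fixR
      (s := (Finset.univ : Finset (SzG F s))) (t := (Finset.univ : Finset (ov F s)))
    have hR : ∀ a : ov F s, (Finset.bipartiteBelow fixR Finset.univ a).card =
        Fintype.card F ^ 2 * (Fintype.card F - 1) := by
      intro a
      calc (Finset.bipartiteBelow fixR Finset.univ a).card
          = Fintype.card {g : SzG F s //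
              (g : SL4 F) • (a : Projectivization F (Fin 4 → F)) = a} :=
            (Fintype.card_subtype _).symm
        _ = Nat.card {g : SzG F s //
              (g : SL4 F) • (a : Projectivization F (Fin 4 → F)) = a} :=
            Nat.card_eq_fintype_card.symm
        _ = _ := card_stab D a.2
    calc ∑ g : SzG F s, f g
        = ∑ g ∈ (Finset.univ : Finset (SzG F s)), (Finset.bipartiteAbove fixR Finset.univ g).card :=
          rfl
      _ = ∑ a ∈ (Finset.univ : Finset (ov F s)), (Finset.bipartiteBelow fixR Finset.univ a).card :=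
          hb
      _ = ∑ a ∈ (Finset.univ : Finset (ov F s)),
            Fintype.card F ^ 2 * (Fintype.card F - 1) := Finset.sum_congr rfl (fun a _ => hR a)
      _ = _ := by
          rw [Finset.sum_const, Finset.card_univ, smul_eq_mul,
            ← Nat.card_eq_fintype_card (α := ↥(ov F s)), card_ov]
  -- second moment
  have h2 : ∑ g : SzG F s, (f g * f g - f g) =
      ((Fintype.card F ^ 2 + 1) * (Fintype.card F ^ 2 + 1) - (Fintype.card F ^ 2 + 1)) *
        (Fintype.card F - 1) := by
    let r2 : SzG F s → ov F s × ov F s → Prop := fun g p => fixR g p.1 ∧ fixR g p.2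
    have hb := Finset.sum_card_bipartiteAbove_eq_sum_card_bipartiteBelow r2
      (s := (Finset.univ : Finset (SzG F s))) (t := (Finset.univ : Finset (ov F s)).offDiag)
    have hL : ∀ g : SzG F s,
        (Finset.bipartiteAbove r2 (Finset.univ : Finset (ov F s)).offDiag g).card =
          f g * f g - f g := by
      intro g
      have e : Finset.bipartiteAbove r2 (Finset.univ : Finset (ov F s)).offDiag g =
          (Finset.univ.filter (fixR g)).offDiag := by
        ext ⟨a, b⟩
        simp only [Finset.mem_bipartiteAbove, Finset.mem_offDiag, Finset.mem_filter,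
          Finset.mem_univ, true_and, r2]
        tauto
      rw [e, Finset.offDiag_card]
    have hR : ∀ p ∈ (Finset.univ : Finset (ov F s)).offDiag,
        (Finset.bipartiteBelow r2 Finset.univ p).card = Fintype.card F - 1 := by
      rintro ⟨a, b⟩ hp
      have hab : (a : Projectivization F (Fin 4 → F)) ≠ b := by
        have h := (Finset.mem_offDiag.mp hp).2.2
        exact fun h' => h (Subtype.ext h')
      calc (Finset.bipartiteBelow r2 Finset.univ (a, b)).card
          = Fintype.card {g : SzG F s //
              (g : SL4 F) • (a : Projectivization F (Fin 4 → F)) = a ∧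
              (g : SL4 F) • (b : Projectivization F (Fin 4 → F)) = b} :=
            (Fintype.card_subtype _).symm
        _ = Nat.card {g : SzG F s //
              (g : SL4 F) • (a : Projectivization F (Fin 4 → F)) = a ∧
              (g : SL4 F) • (b : Projectivization F (Fin 4 → F)) = b} :=
            Nat.card_eq_fintype_card.symm
        _ = _ := card_stab2 D a.2 b.2 hab
    calc ∑ g : SzG F s, (f g * f g - f g)
        = ∑ g ∈ (Finset.univ : Finset (SzG F s)),
            (Finset.bipartiteAbove r2 (Finset.univ : Finset (ov F s)).offDiag g).card :=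
          Finset.sum_congr rfl (fun g _ => (hL g).symm)
      _ = ∑ p ∈ (Finset.univ : Finset (ov F s)).offDiag,
            (Finset.bipartiteBelow r2 Finset.univ p).card := hb
      _ = ∑ p ∈ (Finset.univ : Finset (ov F s)).offDiag, (Fintype.card F - 1) :=
          Finset.sum_congr rfl hR
      _ = _ := by
          rw [Finset.sum_const, Finset.offDiag_card, Finset.card_univ, smul_eq_mul,
            ← Nat.card_eq_fintype_card (α := ↥(ov F s)), card_ov]
  -- pointwise facts
  have hf1 : f 1 = Fintype.card F ^ 2 + 1 := by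
    have e : Finset.univ.filter (fixR 1) = Finset.univ := by
      rw [Finset.filter_eq_self]
      intro a _
      show ((1 : SzG F s) : SL4 F) • (a : Projectivization F (Fin 4 → F)) = a
      exact one_smul _ _
    show (Finset.univ.filter (fixR 1)).card = _
    rw [e, Finset.card_univ, ← Nat.card_eq_fintype_card, card_ov]
  have hf2 : ∀ g : SzG F s, g ≠ 1 → f g ≤ 2 := by
    intro g hg
    by_contra hlt
    have hlt' : 2 < (Finset.univ.filter (fixR g)).card := not_le.mp hlt
    obtain ⟨a, b, c, ha, hb, hc, hab, hac, hbc⟩ := Finset.two_lt_card_iff.mp hlt'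
    have ha' := (Finset.mem_filter.mp ha).2
    have hb' := (Finset.mem_filter.mp hb).2
    have hc' := (Finset.mem_filter.mp hc).2
    apply hg
    apply Subtype.ext
    exact eq_one_of_fix_three D g.2 a.2 b.2 c.2 (fun h => hab (Subtype.ext h))
      (fun h => hbc (Subtype.ext h)) (fun h => hac (Subtype.ext h)) ha' hb' hc'
  obtain ⟨c, hc⟩ : ∃ c : ℕ, c + Fintype.card F ^ 2 = Fintype.card F ^ 2 * Fintype.card F ^ 2 :=
    ⟨Fintype.card F ^ 2 * Fintype.card F ^ 2 - Fintype.card F ^ 2,
      Nat.sub_add_cancel (Nat.le_mul_self _)⟩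
  have key : ∀ g : SzG F s, 2 * (if Fpf s (g : SL4 F) then 1 else 0) + 2 * f g +
      (if g = 1 then c else 0) + f g = 2 + f g * f g := by
    intro g
    have hfpf : Fpf s (g : SL4 F) ↔ f g = 0 := by
      show _ ↔ (Finset.univ.filter (fixR g)).card = 0
      rw [Finset.card_eq_zero, Finset.filter_eq_empty_iff]
      constructor
      · intro h a _
        exact h a a.2
      · intro h a ha
        exact h (Finset.mem_univ (⟨a, ha⟩ : ov F s))
    by_cases hg : g = 1
    · subst hg
      have hnf : ¬ Fpf s ((1 : SzG F s) : SL4 F) := by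
        rw [hfpf, hf1]; omega
      rw [if_neg hnf, if_pos rfl, hf1]
      nlinarith [hc]
    · rw [if_neg hg]
      have h2 := hf2 g hg
      by_cases h0 : f g = 0
      · rw [if_pos (hfpf.mpr h0), h0]
      · rw [if_neg (fun h => h0 (hfpf.mp h))]
        have h12 : f g = 1 ∨ f g = 2 := by omega
        rcases h12 with h | h <;> rw [h]
  have e1 : ∑ g : SzG F s, (if Fpf s (g : SL4 F) then 1 else 0) =
      (Finset.univ.filter (fun g : SzG F s => Fpf s (g : SL4 F))).card :=
    (Finset.card_filter _ _).symm
  have e2 : ∑ g : SzG F s, (if g = 1 then c else 0) = c := by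
    rw [Finset.sum_ite_eq']; simp
  have hff : ∑ g : SzG F s, f g * f g = ∑ g : SzG F s, (f g * f g - f g) + ∑ g : SzG F s, f g := by
    rw [← Finset.sum_add_distrib]
    exact Finset.sum_congr rfl (fun g _ => (Nat.sub_add_cancel (Nat.le_mul_self _)).symm)
  have hsum : ∑ g : SzG F s, (2 * (if Fpf s (g : SL4 F) then 1 else 0) + 2 * f g +
      (if g = 1 then c else 0) + f g) = ∑ g : SzG F s, (2 + f g * f g) :=
    Finset.sum_congr rfl (fun g _ => key g)
  rw [Finset.sum_add_distrib, Finset.sum_add_distrib, Finset.sum_add_distrib,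
    Finset.sum_add_distrib, ← Finset.mul_sum, ← Finset.mul_sum, e1, e2, hff, h1, h2,
    Finset.sum_const, Finset.card_univ, smul_eq_mul, ← Nat.card_eq_fintype_card (α := SzG F s),
    card_SzG D] at hsum
  rw [Set.ncard_eq_toFinset_card', Set.toFinset_setOf]
  have hq := D.eight_le
  obtain ⟨t, ht⟩ : ∃ t, Fintype.card F = t + 1 := ⟨Fintype.card F - 1, by omega⟩
  rw [ht] at hsum hc ⊢
  rw [Nat.add_sub_cancel] at hsum ⊢
  have e3 : ((t + 1) ^ 2 + 1) * ((t + 1) ^ 2 + 1) - ((t + 1) ^ 2 + 1) =
      ((t + 1) ^ 2 + 1) * (t + 1) ^ 2 := by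
    rw [Nat.sub_eq_iff_eq_add (Nat.le_mul_self _)]; ring
  rw [e3] at hsum
  nlinarith [hsum, hc]

end Cfsg.Agent.Helper6.Sz
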