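import Mathlib
import Cfsg.Agent.Helper6.SzFpf

set_option autoImplicit false

/-!
The normaliser of the centraliser `A` of a fixed-point-free element of `Sz(q)` has order at most
`4 |A|`: the conjugates of a generator are roots of a polynomial of degree four in a field.
-/

namespace Cfsg.Agent.Helper6.Sz

open Matrix
open scoped Pointwise

variable {F : Type*} [Field F] [Fintype F] {s : ℕ}

theorem roots_bound {R K : Type*} [CommRing R] [IsDomain R] [Field K] [Algebra K R]
    (χ : Polynomial K) (hχ : χ.Monic) (T : Finset R)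
    (hT : ∀ y ∈ T, Polynomial.aeval y χ = 0) : T.card ≤ χ.natDegree := by
  classical
  have hmon : (χ.map (algebraMap K R)).Monic := hχ.map _
  have hne : χ.map (algebraMap K R) ≠ 0 := hmon.ne_zero
  have hsub : T ⊆ (χ.map (algebraMap K R)).roots.toFinset := by
    intro y hy
    rw [Multiset.mem_toFinset, Polynomial.mem_roots hne, Polynomial.IsRoot.def,
      Polynomial.eval_map, ← Polynomial.aeval_def]
    exact hT y hy
  calc T.card ≤ (χ.map (algebraMap K R)).roots.toFinset.card := Finset.card_le_card hsub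
    _ ≤ Multiset.card (χ.map (algebraMap K R)).roots := Multiset.toFinset_card_le _
    _ ≤ (χ.map (algebraMap K R)).natDegree := Polynomial.card_roots' _
    _ ≤ χ.natDegree := Polynomial.natDegree_map_le

/-- the index of the centraliser of a fixed-point-free element in its normaliser is at most 4 -/
theorem norm_le (D : SzData F s) {g : SzG F s} (hf : Fpf s (g : SL4 F)) :
    Nat.card (Subgroup.normalizer
      ((Subgroup.centralizer ({g} : Set (SzG F s)) : Subgroup (SzG F s)) : Set (SzG F s))) ≤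
      4 * Nat.card (Subgroup.centralizer ({g} : Set (SzG F s))) := by
  classical
  obtain ⟨p, hp, hp2, hdvd, n, hxp, hx1⟩ := fpf_prime D g.2 hf
  haveI : Fact p.Prime := ⟨hp⟩
  have hxA : g ^ n ∈ Subgroup.centralizer ({g} : Set (SzG F s)) := by
    rw [Subgroup.mem_centralizer_singleton_iff]
    exact pow_mul_comm' g n
  have hx1' : g ^ n ≠ 1 := by
    intro h
    apply hx1
    have h' : ((g ^ n : SzG F s) : SL4 F) = 1 := by rw [h]; rfl
    rw [← h', Subgroup.coe_pow]
  have hCx : Subgroup.centralizer ({g ^ n} : Set (SzG F s)) =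
      Subgroup.centralizer ({g} : Set (SzG F s)) := cent_eq_of_mem D hf hxA hx1'
  have hirr : Irr ((((g : SL4 F) ^ n : SL4 F)) : Matrix (Fin 4) (Fin 4) F) :=
    irr_of_order hp2 hdvd hxp hx1
  generalize hMdef : ((((g : SL4 F) ^ n : SL4 F)) : Matrix (Fin 4) (Fin 4) F) = M at hirr
  let S : Subalgebra F (Matrix (Fin 4) (Fin 4) F) :=
    Subalgebra.centralizer F ({M} : Set (Matrix (Fin 4) (Fin 4) F))
  have hSmem : ∀ a : ↥S, (a : Matrix (Fin 4) (Fin 4) F) * M = M * (a : Matrix (Fin 4) (Fin 4) F) := by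
    intro a
    exact ((Subalgebra.mem_centralizer_iff F).mp a.2 M rfl).symm
  haveI instNT : Nontrivial ↥S :=
    ⟨⟨0, 1, fun h => zero_ne_one (α := Matrix (Fin 4) (Fin 4) F) (congrArg Subtype.val h)⟩⟩
  haveI instNZD : NoZeroDivisors ↥S := ⟨by
    intro a b hab
    by_cases ha : a = 0
    · exact Or.inl ha
    · right
      apply Subtype.ext
      show (b : Matrix (Fin 4) (Fin 4) F) = 0
      apply eq_zero_of_mulVec
      intro v
      have ha' : (a : Matrix (Fin 4) (Fin 4) F) ≠ 0 := fun h => ha (Subtype.ext h)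
      apply ker_bot hirr (hSmem a) ha'
      rw [Matrix.mulVec_mulVec]
      have hab' : (a : Matrix (Fin 4) (Fin 4) F) * (b : Matrix (Fin 4) (Fin 4) F) = 0 :=
        congrArg Subtype.val hab
      rw [hab', Matrix.zero_mulVec]⟩
  letI instCR : CommRing ↥S :=
    { (inferInstance : Ring ↥S) with
      mul_comm := fun a b => Subtype.ext (cent_comm hirr (hSmem a) (hSmem b)) }
  haveI instDom : IsDomain ↥S := NoZeroDivisors.to_isDomain _
  -- conjugates of `g ^ n` under the normaliser
  have hconjA : ∀ ν : ↥(Subgroup.normalizer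
      ((Subgroup.centralizer ({g} : Set (SzG F s)) : Subgroup (SzG F s)) : Set (SzG F s))),
      (ν : SzG F s) * g ^ n * (ν : SzG F s)⁻¹ ∈ Subgroup.centralizer ({g} : Set (SzG F s)) :=
    fun ν => (Subgroup.mem_set_normalizer_iff.mp ν.2 (g ^ n)).mp hxA
  have hcommM : ∀ e : SzG F s, e ∈ Subgroup.centralizer ({g} : Set (SzG F s)) →
      ((e : SL4 F) : Matrix (Fin 4) (Fin 4) F) * M = M * ((e : SL4 F) : Matrix (Fin 4) (Fin 4) F) := by
    intro e he
    have h1 : (e : SL4 F) * (g : SL4 F) = (g : SL4 F) * (e : SL4 F) := comm_of g e he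
    have h2 : (e : SL4 F) * (g : SL4 F) ^ n = (g : SL4 F) ^ n * (e : SL4 F) :=
      Commute.pow_right h1 n
    rw [← hMdef]
    exact congrArg Subtype.val h2
  let Φ : ↥(Subgroup.normalizer
      ((Subgroup.centralizer ({g} : Set (SzG F s)) : Subgroup (SzG F s)) : Set (SzG F s))) → ↥S :=
    fun ν => ⟨((((ν : SzG F s) * g ^ n * (ν : SzG F s)⁻¹ : SzG F s) : SL4 F) :
        Matrix (Fin 4) (Fin 4) F),
      (Subalgebra.mem_centralizer_iff F).mpr (fun m hm => by
        rw [Set.mem_singleton_iff.mp hm]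
        exact (hcommM _ (hconjA ν)).symm)⟩
  have hroot : ∀ ν, Polynomial.aeval (Φ ν) M.charpoly = 0 := by
    intro ν
    apply Subtype.ext
    have h1 : S.val (Polynomial.aeval (Φ ν) M.charpoly) =
        Polynomial.aeval (S.val (Φ ν)) M.charpoly :=
      (Polynomial.aeval_algHom_apply S.val (Φ ν) M.charpoly).symm
    refine h1.trans ?_
    let u : (Matrix (Fin 4) (Fin 4) F)ˣ :=
      ⟨(((ν : SzG F s) : SL4 F) : Matrix (Fin 4) (Fin 4) F),
        ((((ν : SzG F s) : SL4 F)⁻¹ : SL4 F) : Matrix (Fin 4) (Fin 4) F),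
        by rw [← Matrix.SpecialLinearGroup.coe_mul, mul_inv_cancel,
          Matrix.SpecialLinearGroup.coe_one],
        by rw [← Matrix.SpecialLinearGroup.coe_mul, inv_mul_cancel,
          Matrix.SpecialLinearGroup.coe_one]⟩
    have hval : (S.val (Φ ν) : Matrix (Fin 4) (Fin 4) F) =
        (u : Matrix (Fin 4) (Fin 4) F) * M * ((u : Matrix (Fin 4) (Fin 4) F))⁻¹ := by
      rw [← Matrix.coe_units_inv, ← hMdef]
      rfl
    rw [hval, ← Matrix.charpoly_units_conj u M]
    exact Matrix.aeval_self_charpoly _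
  haveI : Fintype ↥(Subgroup.normalizer
      ((Subgroup.centralizer ({g} : Set (SzG F s)) : Subgroup (SzG F s)) : Set (SzG F s))) :=
    Fintype.ofFinite _
  haveI : Fintype ↥(Subgroup.centralizer ({g} : Set (SzG F s))) := Fintype.ofFinite _
  have himg : (Finset.univ.image Φ).card ≤ 4 := by
    have h := roots_bound M.charpoly (Matrix.charpoly_monic M) (Finset.univ.image Φ) (by
      intro y hy
      obtain ⟨ν, -, rfl⟩ := Finset.mem_image.mp hy
      exact hroot ν)
    rw [Matrix.charpoly_natDegree_eq_dim, Fintype.card_fin] at h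
    exact h
  have hfib : ∀ b ∈ Finset.univ.image Φ, (Finset.univ.filter (fun ν => Φ ν = b)).card ≤
      Nat.card (Subgroup.centralizer ({g} : Set (SzG F s))) := by
    intro b hb
    obtain ⟨ν₀, -, rfl⟩ := Finset.mem_image.mp hb
    rw [Nat.card_eq_fintype_card, ← Finset.card_univ]
    let ψ : ↥(Subgroup.normalizer
        ((Subgroup.centralizer ({g} : Set (SzG F s)) : Subgroup (SzG F s)) : Set (SzG F s))) →
        ↥(Subgroup.centralizer ({g} : Set (SzG F s))) := fun ν =>
      if h : (ν₀ : SzG F s)⁻¹ * (ν : SzG F s) ∈ Subgroup.centralizer ({g} : Set (SzG F s))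
      then ⟨_, h⟩ else 1
    apply Finset.card_le_card_of_injOn ψ (fun _ _ => Finset.mem_coe.mpr (Finset.mem_univ _))
    intro ν hν ν' hν' hψ
    have key : ∀ μ : ↥(Subgroup.normalizer
        ((Subgroup.centralizer ({g} : Set (SzG F s)) : Subgroup (SzG F s)) : Set (SzG F s))),
        Φ μ = Φ ν₀ →
        (ν₀ : SzG F s)⁻¹ * (μ : SzG F s) ∈ Subgroup.centralizer ({g} : Set (SzG F s)) := by
      intro μ hμ
      have h1 : (μ : SzG F s) * g ^ n * (μ : SzG F s)⁻¹ =
          (ν₀ : SzG F s) * g ^ n * (ν₀ : SzG F s)⁻¹ := by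
        apply Subtype.ext
        apply Subtype.ext
        have h0 : ((Φ μ : ↥S) : Matrix (Fin 4) (Fin 4) F) =
            ((Φ ν₀ : ↥S) : Matrix (Fin 4) (Fin 4) F) := congrArg Subtype.val hμ
        exact h0
      have hm : (ν₀ : SzG F s)⁻¹ * (μ : SzG F s) ∈
          Subgroup.centralizer ({g ^ n} : Set (SzG F s)) := by
        rw [Subgroup.mem_centralizer_singleton_iff]
        calc (ν₀ : SzG F s)⁻¹ * (μ : SzG F s) * g ^ n
            = (ν₀ : SzG F s)⁻¹ * ((μ : SzG F s) * g ^ n * (μ : SzG F s)⁻¹) * (μ : SzG F s) := by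
              group
          _ = (ν₀ : SzG F s)⁻¹ * ((ν₀ : SzG F s) * g ^ n * (ν₀ : SzG F s)⁻¹) * (μ : SzG F s) := by
              rw [h1]
          _ = g ^ n * ((ν₀ : SzG F s)⁻¹ * (μ : SzG F s)) := by group
      rw [hCx] at hm
      exact hm
    have hν1 := key ν (Finset.mem_filter.mp (Finset.mem_coe.mp hν)).2
    have hν2 := key ν' (Finset.mem_filter.mp (Finset.mem_coe.mp hν')).2
    simp only [ψ, dif_pos hν1, dif_pos hν2] at hψ
    have h3 : (ν₀ : SzG F s)⁻¹ * (ν : SzG F s) = (ν₀ : SzG F s)⁻¹ * (ν' : SzG F s) :=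
      congrArg Subtype.val hψ
    exact Subtype.ext (mul_left_cancel h3)
  have hmain := Finset.card_le_mul_card_image (f := Φ) Finset.univ
    (Nat.card (Subgroup.centralizer ({g} : Set (SzG F s)))) hfib
  rw [Finset.card_univ, ← Nat.card_eq_fintype_card] at hmain
  calc Nat.card _ ≤ Nat.card (Subgroup.centralizer ({g} : Set (SzG F s))) *
        (Finset.univ.image Φ).card := hmain
    _ ≤ Nat.card (Subgroup.centralizer ({g} : Set (SzG F s))) * 4 :=
        Nat.mul_le_mul_left _ himg
    _ = 4 * Nat.card (Subgroup.centralizer ({g} : Set (SzG F s))) := mul_comm _ _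

end Cfsg.Agent.Helper6.Sz
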