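import Mathlib
import Cfsg.Agent.Helper6.SzCount
import Cfsg.Agent.Helper6.SzNorm
import Cfsg.Agent.Helper6.GrpClass

set_option autoImplicit false

/-!
The non-split tori of the Suzuki group `Sz(q)`, `q = 2 r²`: the centralisers of the
fixed-point-free elements are cyclic of order `q + 2r + 1` or `q - 2r + 1`, both orders occur, and
they have index `4` in their normalisers.
-/

namespace Cfsg.Agent.Helper6.Sz

open Matrix
open scoped Pointwise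

variable {F : Type*} [Field F] [Fintype F] {s : ℕ}

/-- the set of elements conjugate into `A \ 1` -/
def XA (A : Subgroup (SzG F s)) : Set (SzG F s) :=
  {y | y ≠ 1 ∧ ∃ k : SzG F s, k * y * k⁻¹ ∈ A}

/-- a torus: the centraliser of a fixed-point-free element -/
def IsTor (s : ℕ) (A : Subgroup (SzG F s)) : Prop :=
  ∃ g : SzG F s, Fpf s (g : SL4 F) ∧ A = Subgroup.centralizer ({g} : Set (SzG F s))

/-- conjugacy of tori, in terms of elements -/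
def Rel (A B : Subgroup (SzG F s)) : Prop :=
  ∃ u ∈ B, u ≠ 1 ∧ ∃ k : SzG F s, k * u * k⁻¹ ∈ A

theorem tor_of_fpf {g : SzG F s} (hf : Fpf s (g : SL4 F)) :
    IsTor s (Subgroup.centralizer ({g} : Set (SzG F s))) := ⟨g, hf, rfl⟩

theorem tor_TI (D : SzData F s) {A : Subgroup (SzG F s)} (hA : IsTor s A) :
    ∀ u ∈ A, u ≠ 1 → Subgroup.centralizer ({u} : Set (SzG F s)) = A := by
  obtain ⟨g, hf, rfl⟩ := hA
  intro u hu hu1
  exact cent_eq_of_mem D hf hu hu1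

theorem tor_fpf (D : SzData F s) {A : Subgroup (SzG F s)} (hA : IsTor s A) :
    ∀ u ∈ A, u ≠ 1 → Fpf s (u : SL4 F) := by
  obtain ⟨g, hf, rfl⟩ := hA
  intro u hu hu1
  exact fpf_of_cent D hf hu hu1

theorem tor_comm (D : SzData F s) {A : Subgroup (SzG F s)} (hA : IsTor s A) :
    ∀ u ∈ A, ∀ v ∈ A, u * v = v * u := by
  obtain ⟨g, hf, rfl⟩ := hA
  intro u hu v hv
  exact cent_comm_fpf D hf hu hv

theorem tor_cyclic (D : SzData F s) {A : Subgroup (SzG F s)} (hA : IsTor s A) : IsCyclic A := by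
  obtain ⟨g, hf, rfl⟩ := hA
  exact cent_cyclic_fpf D hf

theorem tor_dvd (D : SzData F s) {A : Subgroup (SzG F s)} (hA : IsTor s A) :
    Nat.card A ∣ Fintype.card F ^ 2 + 1 := by
  obtain ⟨g, hf, rfl⟩ := hA
  exact card_cent_dvd D hf

theorem tor_norm (D : SzData F s) {A : Subgroup (SzG F s)} (hA : IsTor s A) :
    Nat.card (Subgroup.normalizer (A : Set (SzG F s))) ≤ 4 * Nat.card A := by
  obtain ⟨g, hf, rfl⟩ := hA
  exact norm_le D hf

theorem tor_five (D : SzData F s) {A : Subgroup (SzG F s)} (hA : IsTor s A) : 5 ≤ Nat.card A := by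
  have hdvd := tor_dvd D hA
  have h2 : ¬ 2 ∣ Nat.card A := fun h => D.not_two_dvd (h.trans hdvd)
  have h3 : ¬ 3 ∣ Nat.card A := fun h => D.not_three_dvd (h.trans hdvd)
  have hpos : 0 < Nat.card A := Nat.card_pos
  have h1 : Nat.card A ≠ 1 := by
    obtain ⟨g, hf, rfl⟩ := hA
    intro h
    have hg1 : g ≠ 1 := fun h' => fpf_ne_one hf (by rw [h']; rfl)
    have hsub : Subsingleton ↥(Subgroup.centralizer ({g} : Set (SzG F s))) :=
      (Nat.card_eq_one_iff_unique.mp h).1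
    have hmem : g ∈ Subgroup.centralizer ({g} : Set (SzG F s)) :=
      Subgroup.mem_centralizer_singleton_iff.mpr rfl
    have h' := Subsingleton.elim (⟨g, hmem⟩ : ↥(Subgroup.centralizer ({g} : Set (SzG F s)))) 1
    exact hg1 (congrArg Subtype.val h')
  omega

theorem xa_sub (D : SzData F s) {A : Subgroup (SzG F s)} (hA : IsTor s A) :
    XA A ⊆ {y : SzG F s | Fpf s (y : SL4 F)} := by
  rintro y ⟨hy1, k, hk⟩
  have hu1 : k * y * k⁻¹ ≠ 1 := fun h => hy1 (conj_eq_one_iff.mp h)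
  have hfu := tor_fpf D hA _ hk hu1
  have h := fpf_conj (k := ((k⁻¹ : SzG F s) : SL4 F)) (k⁻¹ : SzG F s).2 hfu
  have e : ((k⁻¹ : SzG F s) : SL4 F) * ((k * y * k⁻¹ : SzG F s) : SL4 F) *
      ((k⁻¹ : SzG F s) : SL4 F)⁻¹ = (y : SL4 F) := by
    have h' : k⁻¹ * (k * y * k⁻¹) * k⁻¹⁻¹ = y := by group
    exact congrArg Subtype.val h'
  rw [e] at h
  exact h

theorem xa_card (D : SzData F s) {A : Subgroup (SzG F s)} (hA : IsTor s A) :
    (XA A).ncard * Nat.card (Subgroup.normalizer (A : Set (SzG F s))) =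
      Nat.card (SzG F s) * (Nat.card A - 1) :=
  GrpClass.card_class A (tor_TI D hA)

theorem mem_xa_self {g : SzG F s} (hf : Fpf s (g : SL4 F)) :
    g ∈ XA (Subgroup.centralizer ({g} : Set (SzG F s))) := by
  refine ⟨fun h => fpf_ne_one hf (by rw [h]; rfl), 1, ?_⟩
  rw [one_mul, inv_one, mul_one, Subgroup.mem_centralizer_singleton_iff]

theorem card_cent_of_xa (D : SzData F s) {A : Subgroup (SzG F s)} (hA : IsTor s A)
    {y : SzG F s} (hy : y ∈ XA A) :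
    Nat.card (Subgroup.centralizer ({y} : Set (SzG F s))) = Nat.card A := by
  obtain ⟨hy1, k, hk⟩ := hy
  have hu1 : k * y * k⁻¹ ≠ 1 := fun h => hy1 (conj_eq_one_iff.mp h)
  rw [← GrpClass.card_cent_conj k y, tor_TI D hA _ hk hu1]

theorem xa_sub_of_rel (D : SzData F s) {A B : Subgroup (SzG F s)} (hA : IsTor s A)
    (hB : IsTor s B) (h : Rel A B) : XA B ⊆ XA A := by
  obtain ⟨u, hu, hu1, k, hk⟩ := h
  rintro y ⟨hy1, l, hl⟩
  refine ⟨hy1, k * l, ?_⟩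
  have hcomm : (l * y * l⁻¹) * u = u * (l * y * l⁻¹) := tor_comm D hB _ hl _ hu
  have hku1 : k * u * k⁻¹ ≠ 1 := fun h => hu1 (conj_eq_one_iff.mp h)
  have e := tor_TI D hA _ hk hku1
  have hm : k * (l * y * l⁻¹) * k⁻¹ ∈ Subgroup.centralizer ({k * u * k⁻¹} : Set (SzG F s)) :=
    (GrpClass.cent_conj_iff k (l * y * l⁻¹) u).mp
      (Subgroup.mem_centralizer_singleton_iff.mpr hcomm)
  rw [e] at hm
  have e2 : k * l * y * (k * l)⁻¹ = k * (l * y * l⁻¹) * k⁻¹ := by group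
  rw [e2]
  exact hm

theorem rel_of_inter {A B : Subgroup (SzG F s)} {y : SzG F s} (hy : y ∈ XA A)
    (hy' : y ∈ XA B) : Rel A B := by
  obtain ⟨hy1, k, hk⟩ := hy
  obtain ⟨-, l, hl⟩ := hy'
  refine ⟨l * y * l⁻¹, hl, fun h => hy1 (conj_eq_one_iff.mp h), k * l⁻¹, ?_⟩
  have e : k * l⁻¹ * (l * y * l⁻¹) * (k * l⁻¹)⁻¹ = k * y * k⁻¹ := by group
  rw [e]
  exact hk

theorem sylow_comm (D : SzData F s) {p : ℕ} [Fact p.Prime] (hp2 : p ≠ 2)
    (P : Sylow p (SzG F s)) :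
    ∀ a ∈ (P : Subgroup (SzG F s)), ∀ b ∈ (P : Subgroup (SzG F s)), a * b = b * a := by
  haveI := sylow_odd_cyclic D hp2 P
  letI : CommGroup ↥(P : Subgroup (SzG F s)) := IsCyclic.commGroup
  intro a ha b hb
  exact congrArg Subtype.val (mul_comm (⟨a, ha⟩ : ↥(P : Subgroup (SzG F s))) ⟨b, hb⟩)

theorem rel_of_prime' (D : SzData F s) {A B : Subgroup (SzG F s)} (hA : IsTor s A)
    (hB : IsTor s B) {p : ℕ} (hp : p.Prime) (hpa : p ∣ Nat.card A) (hpb : p ∣ Nat.card B) :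
    Rel A B := by
  haveI : Fact p.Prime := ⟨hp⟩
  have hp2 : p ≠ 2 := by
    intro h2
    rw [h2] at hpa
    exact D.not_two_dvd (hpa.trans (tor_dvd D hA))
  obtain ⟨P⟩ : Nonempty (Sylow p (SzG F s)) := inferInstance
  exact GrpClass.rel_of_prime P (sylow_comm D hp2 P) A B (tor_TI D hA) hpa hpb

theorem hall (D : SzData F s) {A : Subgroup (SzG F s)} (hA : IsTor s A) {p : ℕ} (hp : p.Prime)
    (hpa : p ∣ Nat.card A) : ¬ p ∣ (Fintype.card F ^ 2 + 1) / Nat.card A := by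
  haveI : Fact p.Prime := ⟨hp⟩
  have hdvd := tor_dvd D hA
  have hq := D.eight_le
  have hp2 : p ≠ 2 := by
    intro h2
    rw [h2] at hpa
    exact D.not_two_dvd (hpa.trans hdvd)
  obtain ⟨P⟩ : Nonempty (Sylow p (SzG F s)) := inferInstance
  have h1 : Nat.card (P : Subgroup (SzG F s)) ∣ Nat.card A :=
    GrpClass.sylow_card_dvd P (sylow_comm D hp2 P) A (tor_TI D hA) hpa
  rw [Sylow.card_eq_multiplicity, card_SzG D] at h1
  intro hdiv
  have hN0 : Fintype.card F ^ 2 + 1 ≠ 0 := Nat.succ_ne_zero _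
  have hΓ0 : Fintype.card F ^ 2 * (Fintype.card F ^ 2 + 1) * (Fintype.card F - 1) ≠ 0 :=
    Nat.mul_ne_zero (Nat.mul_ne_zero (pow_ne_zero 2 (by omega)) hN0) (by omega)
  have hle : (Fintype.card F ^ 2 + 1).factorization p ≤
      (Fintype.card F ^ 2 * (Fintype.card F ^ 2 + 1) * (Fintype.card F - 1)).factorization p :=
    (Nat.factorization_le_iff_dvd hN0 hΓ0).mpr ((dvd_mul_left _ _).mul_right _) p
  have h2 : p ^ (Fintype.card F ^ 2 + 1).factorization p ∣ Nat.card A :=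
    (pow_dvd_pow p hle).trans h1
  have h3 : Nat.card A * p ∣ Fintype.card F ^ 2 + 1 := Nat.mul_dvd_of_dvd_div hdvd hdiv
  have h4 : p ^ ((Fintype.card F ^ 2 + 1).factorization p + 1) ∣ Fintype.card F ^ 2 + 1 := by
    rw [pow_succ]
    exact (Nat.mul_dvd_mul_right h2 p).trans h3
  exact Nat.pow_succ_factorization_not_dvd hN0 hp h4

theorem exists_tor_of_prime (D : SzData F s) {p : ℕ} (hp : p.Prime)
    (hdvd : p ∣ Fintype.card F ^ 2 + 1) :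
    ∃ y : SzG F s, Fpf s (y : SL4 F) ∧
      p ∣ Nat.card (Subgroup.centralizer ({y} : Set (SzG F s))) := by
  haveI : Fact p.Prime := ⟨hp⟩
  have hp2 : p ≠ 2 := by
    intro h2
    rw [h2] at hdvd
    exact D.not_two_dvd hdvd
  have hpG : p ∣ Nat.card (SzG F s) := by
    rw [card_SzG D]
    exact hdvd.trans ((dvd_mul_left _ _).mul_right _)
  obtain ⟨y, hy⟩ := exists_prime_orderOf_dvd_card' p hpG
  have hy1 : (y : SL4 F) ≠ 1 := by
    intro h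
    have h' : y = 1 := Subtype.ext h
    rw [h', orderOf_one] at hy
    exact hp.one_lt.ne hy
  have hyp : (y : SL4 F) ^ p = 1 := by
    have h := pow_orderOf_eq_one y
    rw [hy] at h
    rw [← Subgroup.coe_pow, h, Subgroup.coe_one]
  have hf := fpf_of_order D hp hp2 hdvd y.2 hyp hy1
  refine ⟨y, hf, ?_⟩
  have hmem : y ∈ Subgroup.centralizer ({y} : Set (SzG F s)) :=
    Subgroup.mem_centralizer_singleton_iff.mpr rfl
  have h := orderOf_dvd_natCard (⟨y, hmem⟩ : ↥(Subgroup.centralizer ({y} : Set (SzG F s))))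
  have e : orderOf (⟨y, hmem⟩ : ↥(Subgroup.centralizer ({y} : Set (SzG F s)))) = p := by
    rw [← Subgroup.orderOf_coe]
    exact hy
  rw [e] at h
  exact h

theorem xa_lower (D : SzData F s) {A : Subgroup (SzG F s)} (hA : IsTor s A) :
    Nat.card (SzG F s) ≤ 6 * (XA A).ncard := by
  have h1 := xa_card D hA
  have h2 := tor_norm D hA
  have h5 := tor_five D hA
  obtain ⟨a', ha'⟩ : ∃ a', Nat.card A = a' + 1 := ⟨Nat.card A - 1, by omega⟩
  rw [ha'] at h1 h2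
  rw [Nat.add_sub_cancel] at h1
  have ha4 : 4 ≤ a' := by omega
  generalize (XA A).ncard = x at h1 ⊢
  generalize Nat.card (Subgroup.normalizer (A : Set (SzG F s))) = m at h1 h2
  generalize Nat.card (SzG F s) = Γ at h1 ⊢
  by_contra hlt
  have hlt' : 6 * x + 1 ≤ Γ := by omega
  have h3 : x * m ≤ x * (4 * (a' + 1)) := Nat.mul_le_mul_left x h2
  have h4 : (6 * x + 1) * a' ≤ Γ * a' := Nat.mul_le_mul_right a' hlt'
  have h6 : x * 4 ≤ x * a' := Nat.mul_le_mul_left x ha4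
  nlinarith

/-! ### arithmetic -/

theorem arith_one {t X n N : ℕ} (ht : 7 ≤ t) (hN : N = (t + 1) ^ 2 + 1)
    (E1 : 2 * X = (t + 1) ^ 3 * t ^ 2)
    (E2 : X * (N * n) = (t + 1) ^ 2 * N * t * (t + 1) ^ 2) (hn : N * n ≤ 4 * N) : False := by
  have hNpos : 0 < N := by rw [hN]; positivity
  have hn4 : n ≤ 4 := by
    by_contra h
    have h5 : 5 ≤ n := by omega
    have h' : N * 5 ≤ N * n := Nat.mul_le_mul_left N h5
    omega
  have h3 : N * (X * n) = N * ((t + 1) ^ 4 * t) := by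
    calc N * (X * n) = X * (N * n) := by ring
      _ = (t + 1) ^ 2 * N * t * (t + 1) ^ 2 := E2
      _ = N * ((t + 1) ^ 4 * t) := by ring
  have h4 : X * n = (t + 1) ^ 4 * t := Nat.eq_of_mul_eq_mul_left hNpos h3
  have h5 : ((t + 1) ^ 3 * t) * (t * n) = ((t + 1) ^ 3 * t) * (2 * (t + 1)) := by
    calc ((t + 1) ^ 3 * t) * (t * n) = ((t + 1) ^ 3 * t ^ 2) * n := by ring
      _ = (2 * X) * n := by rw [E1]
      _ = 2 * (X * n) := by ring
      _ = 2 * ((t + 1) ^ 4 * t) := by rw [h4]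
      _ = _ := by ring
  have h6 : t * n = 2 * (t + 1) :=
    Nat.eq_of_mul_eq_mul_left (Nat.mul_pos (by positivity) (by omega)) h5
  interval_cases n <;> omega

theorem arith_two {t X x₁ x₂ x₃ Γ : ℕ} (ht : 7 ≤ t)
    (hΓ : Γ = (t + 1) ^ 2 * ((t + 1) ^ 2 + 1) * t) (E1 : 2 * X = (t + 1) ^ 3 * t ^ 2)
    (h1 : Γ ≤ 6 * x₁) (h2 : Γ ≤ 6 * x₂) (h3 : Γ ≤ 6 * x₃) (hsum : x₁ + x₂ + x₃ ≤ X) : False := by
  have h4 : Γ ≤ 2 * X := by omega
  rw [E1, hΓ] at h4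
  have h5 : ((t + 1) ^ 2 * t) * ((t + 1) ^ 2 + 1) ≤ ((t + 1) ^ 2 * t) * ((t + 1) * t) := by
    calc ((t + 1) ^ 2 * t) * ((t + 1) ^ 2 + 1) = (t + 1) ^ 2 * ((t + 1) ^ 2 + 1) * t := by ring
      _ ≤ (t + 1) ^ 3 * t ^ 2 := h4
      _ = ((t + 1) ^ 2 * t) * ((t + 1) * t) := by ring
  have h6 : (t + 1) ^ 2 + 1 ≤ (t + 1) * t :=
    Nat.le_of_mul_le_mul_left h5 (Nat.mul_pos (by positivity) (by omega))
  nlinarith

theorem arith_prod {b₁ b₂ : ℕ} (h1 : 3 ≤ b₁) (h2 : 2 ≤ b₂) :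
    2 * b₁ + 3 * b₂ ≤ b₁ * b₂ + 6 := by
  obtain ⟨c₁, rfl⟩ := Nat.exists_eq_add_of_le h1
  obtain ⟨c₂, rfl⟩ := Nat.exists_eq_add_of_le h2
  nlinarith [Nat.zero_le (c₁ * c₂)]

theorem arith_cases {n₁ n₂ b₁ b₂ t P T : ℕ} (hn₁ : n₁ ≤ 4) (hn₂ : n₂ ≤ 4) (h1 : 1 ≤ n₁)
    (h2 : 1 ≤ n₂) (ht : 7 ≤ t) (hP' : P + b₁ + b₂ + 1 = T + 2 * t + 2) (hA1 : b₁ * 4 ≤ P)
    (hA2 : 4 * b₂ ≤ P) (hA3 : 2 * b₁ + 3 * b₂ ≤ P + 6) (hA4 : 3 * b₁ + 2 * b₂ ≤ P + 6)
    (e : 2 * n₂ * (P + b₁) + 2 * n₁ * (P + b₂) = n₁ * n₂ * (T + t)) :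
    n₁ = 4 ∧ n₂ = 4 ∧ b₁ + b₂ = 2 * t + 2 := by
  interval_cases n₁ <;> interval_cases n₂ <;> omega

theorem arith_last {b₁ b₂ t r : ℕ} (hP : (b₁ + 1) * (b₂ + 1) = (t + 1) ^ 2 + 1)
    (hsum : b₁ + b₂ = 2 * t + 2) (hq : t + 1 = 2 * r ^ 2) :
    (b₁ + 1 = t + 1 + 2 * r + 1 ∧ b₂ + 1 + 2 * r = t + 1 + 1) ∨
      (b₂ + 1 = t + 1 + 2 * r + 1 ∧ b₁ + 1 + 2 * r = t + 1 + 1) := by
  have hz : ((b₁ : ℤ) - b₂ - 4 * r) * ((b₁ : ℤ) - b₂ + 4 * r) = 0 := by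
    have hP'' : ((b₁ : ℤ) + 1) * ((b₂ : ℤ) + 1) = ((t : ℤ) + 1) ^ 2 + 1 := by exact_mod_cast hP
    have hs : (b₁ : ℤ) + b₂ = 2 * t + 2 := by exact_mod_cast hsum
    have hq' : (t : ℤ) + 1 = 2 * (r : ℤ) ^ 2 := by exact_mod_cast hq
    linear_combination ((b₁ : ℤ) + b₂ + 2 * t + 6) * hs - 4 * hP'' + 8 * hq'
  rcases mul_eq_zero.mp hz with h | h
  · left
    constructor <;> omega
  · right
    constructor <;> omega

set_option maxHeartbeats 400000 in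
theorem arith_final {q r a₁ a₂ m₁ m₂ x₁ x₂ : ℕ} (hq : q = 2 * r ^ 2) (hq8 : 8 ≤ q)
    (h5a : 5 ≤ a₁) (h5b : 5 ≤ a₂) (hP : a₁ * a₂ = q ^ 2 + 1)
    (hX : 2 * (x₁ + x₂) = q ^ 3 * (q - 1) ^ 2)
    (hx₁ : x₁ * m₁ = q ^ 2 * (q ^ 2 + 1) * (q - 1) * (a₁ - 1))
    (hx₂ : x₂ * m₂ = q ^ 2 * (q ^ 2 + 1) * (q - 1) * (a₂ - 1))
    (hd₁ : a₁ ∣ m₁) (hd₂ : a₂ ∣ m₂) (hm₁ : m₁ ≤ 4 * a₁) (hm₂ : m₂ ≤ 4 * a₂) :
    m₁ = 4 * a₁ ∧ m₂ = 4 * a₂ ∧
      ((a₁ = q + 2 * r + 1 ∧ a₂ + 2 * r = q + 1) ∨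
        (a₂ = q + 2 * r + 1 ∧ a₁ + 2 * r = q + 1)) := by
  obtain ⟨n₁, rfl⟩ := hd₁
  obtain ⟨n₂, rfl⟩ := hd₂
  obtain ⟨t, rfl⟩ : ∃ t, q = t + 1 := ⟨q - 1, by omega⟩
  obtain ⟨b₁, rfl⟩ : ∃ b, a₁ = b + 1 := ⟨a₁ - 1, by omega⟩
  obtain ⟨b₂, rfl⟩ : ∃ b, a₂ = b + 1 := ⟨a₂ - 1, by omega⟩
  simp only [Nat.add_sub_cancel] at hX hx₁ hx₂
  have ht : 7 ≤ t := by omega
  have hb₁ : 4 ≤ b₁ := by omega
  have hb₂ : 4 ≤ b₂ := by omega
  have hn₁ : n₁ ≤ 4 := by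
    by_contra h
    have h5 : 5 ≤ n₁ := by omega
    have h' : (b₁ + 1) * 5 ≤ (b₁ + 1) * n₁ := Nat.mul_le_mul_left _ h5
    omega
  have hn₂ : n₂ ≤ 4 := by
    by_contra h
    have h5 : 5 ≤ n₂ := by omega
    have h' : (b₂ + 1) * 5 ≤ (b₂ + 1) * n₂ := Nat.mul_le_mul_left _ h5
    omega
  have hΓpos : 0 < (t + 1) ^ 2 * ((t + 1) ^ 2 + 1) * t :=
    Nat.mul_pos (by positivity) (by omega)
  have hn₁0 : 1 ≤ n₁ := by
    by_contra h
    have h0 : n₁ = 0 := by omega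
    rw [h0, mul_zero, mul_zero] at hx₁
    have hpos : 0 < (t + 1) ^ 2 * ((t + 1) ^ 2 + 1) * t * b₁ := Nat.mul_pos hΓpos (by omega)
    omega
  have hn₂0 : 1 ≤ n₂ := by
    by_contra h
    have h0 : n₂ = 0 := by omega
    rw [h0, mul_zero, mul_zero] at hx₂
    have hpos : 0 < (t + 1) ^ 2 * ((t + 1) ^ 2 + 1) * t * b₂ := Nat.mul_pos hΓpos (by omega)
    omega
  have e₁ : x₁ * n₁ = (t + 1) ^ 2 * t * (b₂ + 1) * b₁ := by
    apply Nat.eq_of_mul_eq_mul_left (show 0 < b₁ + 1 by omega)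
    calc (b₁ + 1) * (x₁ * n₁) = x₁ * ((b₁ + 1) * n₁) := by ring
      _ = (t + 1) ^ 2 * ((t + 1) ^ 2 + 1) * t * b₁ := hx₁
      _ = (t + 1) ^ 2 * ((b₁ + 1) * (b₂ + 1)) * t * b₁ := by rw [hP]
      _ = (b₁ + 1) * ((t + 1) ^ 2 * t * (b₂ + 1) * b₁) := by ring
  have e₂ : x₂ * n₂ = (t + 1) ^ 2 * t * (b₁ + 1) * b₂ := by
    apply Nat.eq_of_mul_eq_mul_left (show 0 < b₂ + 1 by omega)
    calc (b₂ + 1) * (x₂ * n₂) = x₂ * ((b₂ + 1) * n₂) := by ring
      _ = (t + 1) ^ 2 * ((t + 1) ^ 2 + 1) * t * b₂ := hx₂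
      _ = (t + 1) ^ 2 * ((b₁ + 1) * (b₂ + 1)) * t * b₂ := by rw [hP]
      _ = (b₂ + 1) * ((t + 1) ^ 2 * t * (b₁ + 1) * b₂) := by ring
  have e₃ : ((t + 1) ^ 2 * t) * (2 * n₂ * ((b₂ + 1) * b₁) + 2 * n₁ * ((b₁ + 1) * b₂)) =
      ((t + 1) ^ 2 * t) * (n₁ * n₂ * ((t + 1) * t)) := by
    calc ((t + 1) ^ 2 * t) * (2 * n₂ * ((b₂ + 1) * b₁) + 2 * n₁ * ((b₁ + 1) * b₂))
        = 2 * n₂ * ((t + 1) ^ 2 * t * (b₂ + 1) * b₁) +
            2 * n₁ * ((t + 1) ^ 2 * t * (b₁ + 1) * b₂) := by ring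
      _ = 2 * n₂ * (x₁ * n₁) + 2 * n₁ * (x₂ * n₂) := by rw [e₁, e₂]
      _ = n₁ * n₂ * (2 * (x₁ + x₂)) := by ring
      _ = n₁ * n₂ * ((t + 1) ^ 3 * t ^ 2) := by rw [hX]
      _ = _ := by ring
  have e₄ : 2 * n₂ * ((b₂ + 1) * b₁) + 2 * n₁ * ((b₁ + 1) * b₂) = n₁ * n₂ * ((t + 1) * t) :=
    Nat.eq_of_mul_eq_mul_left (Nat.mul_pos (by positivity) (by omega)) e₃
  have hP' : b₁ * b₂ + b₁ + b₂ + 1 = t * t + 2 * t + 2 := by
    calc b₁ * b₂ + b₁ + b₂ + 1 = (b₁ + 1) * (b₂ + 1) := by ring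
      _ = (t + 1) ^ 2 + 1 := hP
      _ = t * t + 2 * t + 2 := by ring
  have hA1 : b₁ * 4 ≤ b₁ * b₂ := Nat.mul_le_mul_left b₁ hb₂
  have hA2 : 4 * b₂ ≤ b₁ * b₂ := Nat.mul_le_mul_right b₂ hb₁
  have hA3 : 2 * b₁ + 3 * b₂ ≤ b₁ * b₂ + 6 := arith_prod (by omega) (by omega)
  have hA4 : 3 * b₁ + 2 * b₂ ≤ b₁ * b₂ + 6 := by
    have h := arith_prod (b₁ := b₂) (b₂ := b₁) (by omega) (by omega)
    rw [mul_comm b₂ b₁] at h
    omega
  have e₄' : 2 * n₂ * (b₁ * b₂ + b₁) + 2 * n₁ * (b₁ * b₂ + b₂) = n₁ * n₂ * (t * t + t) := by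
    calc 2 * n₂ * (b₁ * b₂ + b₁) + 2 * n₁ * (b₁ * b₂ + b₂)
        = 2 * n₂ * ((b₂ + 1) * b₁) + 2 * n₁ * ((b₁ + 1) * b₂) := by ring
      _ = n₁ * n₂ * ((t + 1) * t) := e₄
      _ = n₁ * n₂ * (t * t + t) := by ring
  obtain ⟨h41, h42, hsum⟩ := arith_cases hn₁ hn₂ hn₁0 hn₂0 ht hP' hA1 hA2 hA3 hA4 e₄'
  subst h41
  subst h42
  exact ⟨Nat.mul_comm _ _, Nat.mul_comm _ _, arith_last hP hsum hq⟩

/-! ### the two classes of tori -/

theorem fpf_in_class (D : SzData F s) {A : Subgroup (SzG F s)} (hA : IsTor s A)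
    (hcard : Nat.card A = Fintype.card F ^ 2 + 1) :
    {y : SzG F s | Fpf s (y : SL4 F)} ⊆ XA A := by
  intro g hg
  have hB := tor_of_fpf hg
  have h5 := tor_five D hB
  have hne : Nat.card (Subgroup.centralizer ({g} : Set (SzG F s))) ≠ 1 := by omega
  obtain ⟨p, hp, hpb⟩ := Nat.exists_prime_and_dvd hne
  have hpa : p ∣ Nat.card A := by
    rw [hcard]
    exact hpb.trans (tor_dvd D hB)
  exact xa_sub_of_rel D hA hB (rel_of_prime' D hA hB hp hpa hpb) (mem_xa_self hg)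

theorem not_full (D : SzData F s) {A : Subgroup (SzG F s)} (hA : IsTor s A) :
    Nat.card A ≠ Fintype.card F ^ 2 + 1 := by
  intro hcard
  have hsub := fpf_in_class D hA hcard
  have heq : XA A = {y : SzG F s | Fpf s (y : SL4 F)} :=
    Set.Subset.antisymm (xa_sub D hA) hsub
  have hX := card_fpf D
  rw [← heq] at hX
  have hc := xa_card D hA
  rw [hcard, card_SzG D, Nat.add_sub_cancel] at hc
  have hn := tor_norm D hA
  rw [hcard] at hn
  have hle : A ≤ Subgroup.normalizer (A : Set (SzG F s)) := Subgroup.le_normalizer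
  obtain ⟨n, hn'⟩ := Subgroup.card_dvd_of_le hle
  rw [hcard] at hn'
  rw [hn'] at hc hn
  have hq := D.eight_le
  obtain ⟨t, ht⟩ : ∃ t, Fintype.card F = t + 1 := ⟨Fintype.card F - 1, by omega⟩
  rw [ht] at hX hc hn
  rw [Nat.add_sub_cancel] at hX hc
  exact arith_one (t := t) (N := (t + 1) ^ 2 + 1) (by omega) rfl hX hc hn

theorem exists_other (D : SzData F s) {A : Subgroup (SzG F s)} (hA : IsTor s A) :
    ∃ B : Subgroup (SzG F s), IsTor s B ∧ ¬ Rel A B := by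
  have hdvd := tor_dvd D hA
  have hne := not_full D hA
  have hdiv1 : (Fintype.card F ^ 2 + 1) / Nat.card A ≠ 1 := by
    intro h
    have h' := Nat.div_mul_cancel hdvd
    rw [h, one_mul] at h'
    exact hne h'
  obtain ⟨p, hp, hpd⟩ := Nat.exists_prime_and_dvd hdiv1
  have hpN : p ∣ Fintype.card F ^ 2 + 1 := hpd.trans (Nat.div_dvd_of_dvd hdvd)
  obtain ⟨y, hy, hpy⟩ := exists_tor_of_prime D hp hpN
  have hB := tor_of_fpf hy
  refine ⟨_, hB, ?_⟩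
  rintro ⟨u, hu, hu1, k, hk⟩
  have hux : u ∈ XA A := ⟨hu1, k, hk⟩
  have h1 := card_cent_of_xa D hA hux
  rw [tor_TI D hB u hu hu1] at h1
  rw [h1] at hpy
  exact hall D hA hp hpy hpd

theorem two_classes (D : SzData F s) {A B : Subgroup (SzG F s)} (hA : IsTor s A)
    (hB : IsTor s B) (hAB : ¬ Rel A B) :
    {y : SzG F s | Fpf s (y : SL4 F)} ⊆ XA A ∪ XA B := by
  intro g hg
  by_contra hnot
  have hC := tor_of_fpf hg
  have hgC := mem_xa_self hg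
  have hAC : ¬ Rel A (Subgroup.centralizer ({g} : Set (SzG F s))) := fun h =>
    hnot (Or.inl (xa_sub_of_rel D hA hC h hgC))
  have hBC : ¬ Rel B (Subgroup.centralizer ({g} : Set (SzG F s))) := fun h =>
    hnot (Or.inr (xa_sub_of_rel D hB hC h hgC))
  have d1 : Disjoint (XA A) (XA B) :=
    Set.disjoint_left.mpr (fun y h1 h2 => hAB (rel_of_inter h1 h2))
  have d2 : Disjoint (XA A ∪ XA B) (XA (Subgroup.centralizer ({g} : Set (SzG F s)))) := by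
    rw [Set.disjoint_union_left]
    exact ⟨Set.disjoint_left.mpr (fun y h1 h2 => hAC (rel_of_inter h1 h2)),
      Set.disjoint_left.mpr (fun y h1 h2 => hBC (rel_of_inter h1 h2))⟩
  have hsub : XA A ∪ XA B ∪ XA (Subgroup.centralizer ({g} : Set (SzG F s))) ⊆
      {y : SzG F s | Fpf s (y : SL4 F)} :=
    Set.union_subset (Set.union_subset (xa_sub D hA) (xa_sub D hB)) (xa_sub D hC)
  have hle := Set.ncard_le_ncard hsub (Set.toFinite _)
  rw [Set.ncard_union_eq d2 (Set.toFinite _) (Set.toFinite _),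
    Set.ncard_union_eq d1 (Set.toFinite _) (Set.toFinite _)] at hle
  have hX := card_fpf D
  have l1 := xa_lower D hA
  have l2 := xa_lower D hB
  have l3 := xa_lower D hC
  rw [card_SzG D] at l1 l2 l3
  have hq := D.eight_le
  obtain ⟨t, ht⟩ : ∃ t, Fintype.card F = t + 1 := ⟨Fintype.card F - 1, by omega⟩
  rw [ht] at hX l1 l2 l3
  rw [Nat.add_sub_cancel] at hX l1 l2 l3
  exact arith_two (t := t) (by omega) rfl hX l1 l2 l3 hle

theorem tori_aux (D : SzData F s) {r : ℕ} (hqr : Fintype.card F = 2 * r ^ 2)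
    {A B : Subgroup (SzG F s)} (hA : IsTor s A) (hB : IsTor s B) (hAB : ¬ Rel A B) :
    ∃ A₁ A₂ : Subgroup (SzG F s), IsTor s A₁ ∧ IsTor s A₂ ∧
      Nat.card A₁ = Fintype.card F + 2 * r + 1 ∧ Nat.card A₂ + 2 * r = Fintype.card F + 1 ∧
      Nat.card (Subgroup.normalizer (A₁ : Set (SzG F s))) = 4 * Nat.card A₁ ∧
      Nat.card (Subgroup.normalizer (A₂ : Set (SzG F s))) = 4 * Nat.card A₂ ∧
      {y : SzG F s | Fpf s (y : SL4 F)} ⊆ XA A₁ ∪ XA A₂ := by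
  have hq := D.eight_le
  have hX := card_fpf D
  have hsub := two_classes D hA hB hAB
  have d1 : Disjoint (XA A) (XA B) :=
    Set.disjoint_left.mpr (fun y h1 h2 => hAB (rel_of_inter h1 h2))
  have hXeq : {y : SzG F s | Fpf s (y : SL4 F)} = XA A ∪ XA B :=
    Set.Subset.antisymm hsub (Set.union_subset (xa_sub D hA) (xa_sub D hB))
  rw [hXeq, Set.ncard_union_eq d1 (Set.toFinite _) (Set.toFinite _)] at hX
  have ha5 := tor_five D hA
  have hb5 := tor_five D hB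
  have hcop : Nat.Coprime (Nat.card A) (Nat.card B) :=
    Nat.coprime_of_dvd (fun p hp hpa hpb => hAB (rel_of_prime' D hA hB hp hpa hpb))
  obtain ⟨c, hc⟩ := hcop.mul_dvd_of_dvd_of_dvd (tor_dvd D hA) (tor_dvd D hB)
  have hc1 : c = 1 := by
    by_contra hne
    obtain ⟨p, hp, hpc⟩ := Nat.exists_prime_and_dvd hne
    have hpN : p ∣ Fintype.card F ^ 2 + 1 := by
      rw [hc]
      exact hpc.mul_left _
    obtain ⟨y, hy, hpy⟩ := exists_tor_of_prime D hp hpN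
    rcases hsub hy with h | h
    · have h1 := card_cent_of_xa D hA h
      rw [h1] at hpy
      apply hall D hA hp hpy
      have e : (Fintype.card F ^ 2 + 1) / Nat.card A = Nat.card B * c := by
        rw [hc, mul_assoc]
        exact Nat.mul_div_cancel_left _ (by omega)
      rw [e]
      exact hpc.mul_left _
    · have h1 := card_cent_of_xa D hB h
      rw [h1] at hpy
      apply hall D hB hp hpy
      have e : (Fintype.card F ^ 2 + 1) / Nat.card B = Nat.card A * c := by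
        rw [hc, mul_comm (Nat.card A) (Nat.card B), mul_assoc]
        exact Nat.mul_div_cancel_left _ (by omega)
      rw [e]
      exact hpc.mul_left _
  rw [hc1, mul_one] at hc
  have hxa := xa_card D hA
  have hxb := xa_card D hB
  rw [card_SzG D] at hxa hxb
  have hda : Nat.card A ∣ Nat.card (Subgroup.normalizer (A : Set (SzG F s))) :=
    Subgroup.card_dvd_of_le Subgroup.le_normalizer
  have hdb : Nat.card B ∣ Nat.card (Subgroup.normalizer (B : Set (SzG F s))) :=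
    Subgroup.card_dvd_of_le Subgroup.le_normalizer
  obtain ⟨hm₁, hm₂, h | h⟩ := arith_final hqr hq ha5 hb5 hc.symm hX hxa hxb hda hdb
    (tor_norm D hA) (tor_norm D hB)
  · exact ⟨A, B, hA, hB, h.1, h.2, hm₁, hm₂, hsub⟩
  · refine ⟨B, A, hB, hA, h.1, h.2, hm₂, hm₁, ?_⟩
    rw [Set.union_comm]
    exact hsub

/-- The non-split tori of the Suzuki group. -/
theorem tori (D : SzData F s) {r : ℕ} (hqr : Fintype.card F = 2 * r ^ 2) :
    ∃ A₁ A₂ : Subgroup (SzG F s), IsTor s A₁ ∧ IsTor s A₂ ∧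
      Nat.card A₁ = Fintype.card F + 2 * r + 1 ∧ Nat.card A₂ + 2 * r = Fintype.card F + 1 ∧
      Nat.card (Subgroup.normalizer (A₁ : Set (SzG F s))) = 4 * Nat.card A₁ ∧
      Nat.card (Subgroup.normalizer (A₂ : Set (SzG F s))) = 4 * Nat.card A₂ ∧
      {y : SzG F s | Fpf s (y : SL4 F)} ⊆ XA A₁ ∪ XA A₂ := by
  have hq := D.eight_le
  have hX := card_fpf D
  have hne : {y : SzG F s | Fpf s (y : SL4 F)}.Nonempty := by
    rw [← Set.ncard_pos (Set.toFinite _)]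
    by_contra h
    have h0 : {y : SzG F s | Fpf s (y : SL4 F)}.ncard = 0 := by omega
    rw [h0, mul_zero] at hX
    have hpos : 0 < Fintype.card F ^ 3 * (Fintype.card F - 1) ^ 2 :=
      Nat.mul_pos (pow_pos (by omega) 3) (pow_pos (by omega) 2)
    omega
  obtain ⟨g₁, hg₁⟩ := hne
  have hA := tor_of_fpf hg₁
  obtain ⟨B, hB, hAB⟩ := exists_other D hA
  exact tori_aux D hqr hA hB hAB

end Cfsg.Agent.Helper6.Sz
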