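import Mathlib
import Cfsg.Agent.Helper6.SzToriOrd

set_option autoImplicit false

/-!
The partition of the Suzuki group `Sz(q)` into Sylow `2`-subgroups and cyclic subgroups of orders
`q - 1`, `q + 2r + 1`, `q - 2r + 1`, and the exceptional cyclic subgroups.
-/

namespace Cfsg.Agent.Helper6.Sz

open Matrix
open scoped Pointwise

variable {F : Type*} [Field F] [Fintype F] {s : ℕ}

theorem dvd_two_of {q u : ℕ} (hq : 1 ≤ q) (h1 : u ∣ q - 1) (h2 : u ∣ q ^ 2 + 1) : u ∣ 2 := by
  have e : (q - 1) * (q + 1) + 2 = q ^ 2 + 1 := by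
    obtain ⟨Q, rfl⟩ : ∃ Q, q = Q + 1 := ⟨q - 1, by omega⟩
    rw [Nat.add_sub_cancel]; ring
  rw [← e] at h2
  exact (Nat.dvd_add_right (h1.mul_right _)).mp h2

theorem arith_tor {q y ap am : ℕ} (hap : ap = q + y + 1) (ham : am + y = q + 1)
    (hy : ∃ j, y = 2 ^ j) (hodd : ¬ 2 ∣ am) (h5 : 5 ≤ am) : ¬ ap ∣ am ∧ ¬ am ∣ ap := by
  have e : ap = am + 2 * y := by omega
  obtain ⟨j, rfl⟩ := hy
  have hpos : 0 < 2 ^ j := by positivity
  constructor
  · intro h
    have hle := Nat.le_of_dvd (by omega) h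
    omega
  · intro h
    rw [e] at h
    have h2 : am ∣ 2 * 2 ^ j := (Nat.dvd_add_right (dvd_refl am)).mp h
    rw [← pow_succ'] at h2
    obtain ⟨i, -, hi⟩ := (Nat.dvd_prime_pow Nat.prime_two).mp h2
    rcases Nat.eq_zero_or_pos i with h0 | hipos
    · rw [h0, pow_zero] at hi
      omega
    · apply hodd
      rw [hi]
      exact dvd_pow_self 2 (by omega)

theorem sub_form {x y c : ℕ} (h : c + y = x + 1) (h5 : 5 ≤ c) : c = x - y + 1 := by omega

theorem card_set_iff {x y c : ℕ} (hle : y ≤ x) :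
    (c = x - 1 ∨ c = x + y + 1 ∨ c + y = x + 1) ↔
      c ∈ ({x - 1, x + y + 1, x - y + 1} : Set ℕ) := by
  simp only [Set.mem_insert_iff, Set.mem_singleton_iff]
  omega

/-- A non-identity element lies in at most one Sylow `2`-subgroup. -/
theorem sylow_unique (D : SzData F s) {g : SzG F s} (hg : g ≠ 1) {P Q : Sylow 2 (SzG F s)}
    (hQ : g ∈ (Q : Subgroup (SzG F s))) (hP : g ∈ (P : Subgroup (SzG F s))) :
    (Q : Subgroup (SzG F s)) = (P : Subgroup (SzG F s)) := by
  obtain ⟨k₁, h₁⟩ := sylow_conj D P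
  obtain ⟨k₂, h₂⟩ := sylow_conj D Q
  have hfixU : ∀ k : SzG F s, k⁻¹ * g * k ∈ Usub D →
      (g : SL4 F) • ((k : SL4 F) • Pinf F) = (k : SL4 F) • Pinf F := by
    intro k hk
    obtain ⟨a, b, hab⟩ := hk
    have e : (g : SL4 F) = (k : SL4 F) * tS s a b * (k : SL4 F)⁻¹ := by
      rw [← hab]
      have h' : g = k * (k⁻¹ * g * k) * k⁻¹ := by group
      exact congrArg Subtype.val h'
    rw [e, conj_smul, tS_inf]
  have key : ∀ k : SzG F s, k⁻¹ * g * k ∈ Usub D → ∀ p ∈ ov F s, (g : SL4 F) • p = p →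
      p = (k : SL4 F) • Pinf F := by
    intro k hk p hp hfix
    obtain ⟨a, b, hab⟩ := hk
    have hne : ¬ (a = 0 ∧ b = 0) := by
      rintro ⟨rfl, rfl⟩
      rw [tS_zero D] at hab
      apply hg
      have h1 : k⁻¹ * g * k = 1 := Subtype.ext hab
      have h2 : g = k * (k⁻¹ * g * k) * k⁻¹ := by group
      rw [h2, h1]
      group
    have hp' : (k : SL4 F)⁻¹ • p ∈ ov F s := smul_mem_ov (inv_mem k.2) hp
    have hfix' : tS s a b • ((k : SL4 F)⁻¹ • p) = (k : SL4 F)⁻¹ • p := by
      rw [← hab]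
      show ((k : SL4 F)⁻¹ * (g : SL4 F) * (k : SL4 F)) • ((k : SL4 F)⁻¹ • p) = (k : SL4 F)⁻¹ • p
      rw [mul_smul, mul_smul, smul_inv_smul, hfix]
    have h3 := unip_fix D hne hp' hfix'
    rw [← h3, smul_inv_smul]
  have hg₁ := (h₁ g).mp hP
  have hg₂ := (h₂ g).mp hQ
  have heq : (k₁ : SL4 F) • Pinf F = (k₂ : SL4 F) • Pinf F :=
    key k₂ hg₂ _ (smul_mem_ov k₁.2 inf_mem) (hfixU k₁ hg₁)
  have hn : ((k₂⁻¹ * k₁ : SzG F s) : SL4 F) • Pinf F = Pinf F := by
    show ((k₂ : SL4 F)⁻¹ * (k₁ : SL4 F)) • Pinf F = Pinf F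
    rw [mul_smul, heq, inv_smul_smul]
  have hn' : (((k₂⁻¹ * k₁)⁻¹ : SzG F s) : SL4 F) • Pinf F = Pinf F := by
    show ((k₂ : SL4 F)⁻¹ * (k₁ : SL4 F))⁻¹ • Pinf F = Pinf F
    rw [inv_smul_eq_iff]
    exact hn.symm
  ext x
  rw [h₁ x, h₂ x]
  constructor
  · intro h
    have h' := U_conj_mem D hn' h
    have e : (k₂⁻¹ * k₁)⁻¹ * (k₂⁻¹ * x * k₂) * (k₂⁻¹ * k₁)⁻¹⁻¹ = k₁⁻¹ * x * k₁ := by group
    rw [e] at h'
    exact h'
  · intro h
    have h' := U_conj_mem D hn h
    have e : (k₂⁻¹ * k₁) * (k₁⁻¹ * x * k₁) * (k₂⁻¹ * k₁)⁻¹ = k₂⁻¹ * x * k₂ := by group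
    rw [e] at h'
    exact h'

/-- The partition of the Suzuki group. -/
theorem partition (D : SzData F s) {r : ℕ} (hqr : Fintype.card F = 2 * r ^ 2)
    (hy : ∃ j, 2 * r = 2 ^ j) (g : SzG F s) (hg : g ≠ 1) :
    ∃! U : Subgroup (SzG F s), ((∃ P : Sylow 2 (SzG F s), U = (P : Subgroup (SzG F s))) ∨
      (IsCyclic U ∧ (Nat.card U = Fintype.card F - 1 ∨ Nat.card U = Fintype.card F + 2 * r + 1 ∨
        Nat.card U + 2 * r = Fintype.card F + 1))) ∧ g ∈ U := by
  obtain ⟨A₁, A₂, hA₁, hA₂, hc₁, hc₂, -, -, hsub⟩ := tori D hqr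
  have hq := D.eight_le
  have hodd₁ : ¬ 2 ∣ Nat.card A₁ := fun h => D.not_two_dvd (h.trans (tor_dvd D hA₁))
  have hodd₂ : ¬ 2 ∣ Nat.card A₂ := fun h => D.not_two_dvd (h.trans (tor_dvd D hA₂))
  have h5₁ := tor_five D hA₁
  have h5₂ := tor_five D hA₂
  have hg1 : (g : SL4 F) ≠ 1 := fun h => hg (Subtype.ext h)
  have hcycl : ∀ U : Subgroup (SzG F s), IsCyclic U → ∀ u ∈ U, ∀ v ∈ U, u * v = v * u := by
    intro U hU u hu v hv
    letI : CommGroup ↥U := IsCyclic.commGroup
    exact congrArg Subtype.val (mul_comm (⟨u, hu⟩ : ↥U) ⟨v, hv⟩)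
  haveI : Fact (Nat.Prime 2) := ⟨Nat.prime_two⟩
  by_cases hfp : Fpf s (g : SL4 F)
  · -- fixed-point-free elements
    have hT := tor_of_fpf hfp
    have hgC : g ∈ Subgroup.centralizer ({g} : Set (SzG F s)) :=
      Subgroup.mem_centralizer_singleton_iff.mpr rfl
    have hcard : Nat.card (Subgroup.centralizer ({g} : Set (SzG F s))) = Nat.card A₁ ∨
        Nat.card (Subgroup.centralizer ({g} : Set (SzG F s))) = Nat.card A₂ := by
      rcases hsub hfp with h | h
      · exact Or.inl (card_cent_of_xa D hA₁ h)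
      · exact Or.inr (card_cent_of_xa D hA₂ h)
    refine ⟨Subgroup.centralizer ({g} : Set (SzG F s)),
      ⟨Or.inr ⟨cent_cyclic_fpf D hfp, ?_⟩, hgC⟩, ?_⟩
    · rcases hcard with h | h
      · right; left; rw [h, hc₁]
      · right; right; rw [h, hc₂]
    · rintro U ⟨hU | ⟨hUc, hUcard⟩, hgU⟩
      · exfalso
        obtain ⟨P, rfl⟩ := hU
        obtain ⟨n, hn⟩ := P.isPGroup' ⟨g, hgU⟩
        have h1 : g ^ 2 ^ n = 1 := congrArg Subtype.val hn
        have h2 : (g : SL4 F) ^ 2 ^ n = 1 := by rw [← Subgroup.coe_pow, h1, Subgroup.coe_one]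
        obtain ⟨a, ha, hfix⟩ := exists_fix_of_pow (p := 2) D.not_two_dvd g.2 h2
        exact hfp a ha hfix
      · have hle : U ≤ Subgroup.centralizer ({g} : Set (SzG F s)) := by
          intro u hu
          rw [Subgroup.mem_centralizer_singleton_iff]
          exact hcycl U hUc u hu g hgU
        have hdvd := Subgroup.card_dvd_of_le hle
        apply Subgroup.eq_of_le_of_card_ge hle
        have hCdvd := tor_dvd D hT
        obtain ⟨htp, htm⟩ := arith_tor hc₁ hc₂ hy hodd₂ h5₂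
        rcases hUcard with hu | hu | hu
        · exfalso
          have h2 : Nat.card U ∣ 2 := dvd_two_of (by omega) hu.dvd (hdvd.trans hCdvd)
          have hle2 := Nat.le_of_dvd (by norm_num) h2
          have h5 : 5 ≤ Nat.card (Subgroup.centralizer ({g} : Set (SzG F s))) := tor_five D hT
          omega
        · rcases hcard with h | h
          · exact le_of_eq (by rw [h, hc₁, hu])
          · exfalso
            rw [h, hu, ← hc₁] at hdvd
            exact htp hdvd
        · have hu' : Nat.card U = Nat.card A₂ := by omega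
          rcases hcard with h | h
          · exfalso
            rw [h, hu'] at hdvd
            exact htm hdvd
          · exact le_of_eq (by rw [h, hu'])
  · -- elements with a fixed point
    have hex : ∃ a ∈ ov F s, (g : SL4 F) • a = a := by
      by_contra h
      apply hfp
      intro a ha hfix
      exact h ⟨a, ha, hfix⟩
    obtain ⟨a, ha, hfix⟩ := hex
    obtain ⟨k, hk, h | ⟨c, hc⟩⟩ := fix_cases D g.2 ha hfix
    · -- unipotent elements
      obtain ⟨a', b', hkg⟩ := h
      have hg4 : g ^ 4 = 1 := by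
        apply Subtype.ext
        have h4 : (k * (g : SL4 F) * k⁻¹) ^ 4 = 1 := by rw [hkg]; exact tS_pow_four D a' b'
        rw [conj_pow] at h4
        rw [Subgroup.coe_pow, Subgroup.coe_one]
        exact conj_eq_one_iff.mp h4
      have hzp : IsPGroup 2 (Subgroup.zpowers g) := by
        have hord : orderOf g ∣ 2 ^ 2 := orderOf_dvd_of_pow_eq_one hg4
        obtain ⟨j, -, hj⟩ := (Nat.dvd_prime_pow Nat.prime_two).mp hord
        exact IsPGroup.of_card (n := j) (by rw [Nat.card_zpowers, hj])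
      obtain ⟨P, hP⟩ := hzp.exists_le_sylow
      have hgP : g ∈ (P : Subgroup (SzG F s)) := hP (Subgroup.mem_zpowers g)
      refine ⟨(P : Subgroup (SzG F s)), ⟨Or.inl ⟨P, rfl⟩, hgP⟩, ?_⟩
      rintro U ⟨hU | ⟨hUc, hUcard⟩, hgU⟩
      · obtain ⟨Q, rfl⟩ := hU
        exact sylow_unique D hg hgU hgP
      · exfalso
        have hoddU : ¬ 2 ∣ Nat.card U := by
          rcases hUcard with hu | hu | hu
          · rw [hu]
            obtain ⟨j, hj⟩ := D.two_dvd_card
            omega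
          · rw [hu, ← hc₁]
            exact hodd₁
          · have hu' : Nat.card U = Nat.card A₂ := by omega
            rw [hu']
            exact hodd₂
        have hord1 : orderOf g ∣ 4 := orderOf_dvd_of_pow_eq_one hg4
        have hord2 : orderOf g ∣ Nat.card U := by
          have h := orderOf_dvd_natCard (⟨g, hgU⟩ : ↥U)
          have e : orderOf (⟨g, hgU⟩ : ↥U) = orderOf g :=
            (Subgroup.orderOf_coe (⟨g, hgU⟩ : ↥U)).symm
          rw [e] at h
          exact h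
        have hcop : Nat.Coprime (2 ^ 2) (Nat.card U) :=
          Nat.Coprime.pow_left 2 ((Nat.Prime.coprime_iff_not_dvd Nat.prime_two).mpr hoddU)
        have h6 : Nat.gcd 4 (Nat.card U) = 1 := hcop
        have h7 := Nat.dvd_gcd hord1 hord2
        rw [h6] at h7
        exact hg (orderOf_eq_one_iff.mp (Nat.dvd_one.mp h7))
    · -- torus elements
      have hc1 : c ≠ 1 := by
        intro h1
        rw [h1, hS_one] at hc
        exact hg1 (conj_eq_one_iff.mp hc)
      let k' : SzG F s := ⟨k, hk⟩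
      let U₀ : Subgroup (SzG F s) := ((hG D).range).comap (MulAut.conj k').toMonoidHom
      have hmemU : ∀ x : SzG F s, x ∈ U₀ ↔ ∃ c' : Fˣ, k * (x : SL4 F) * k⁻¹ = hS s c' := by
        intro x
        show (k' * x * k'⁻¹) ∈ (hG D).range ↔ _
        constructor
        · rintro ⟨c', hc'⟩
          exact ⟨c', (congrArg Subtype.val hc').symm⟩
        · rintro ⟨c', hc'⟩
          exact ⟨c', Subtype.ext hc'.symm⟩
      have hgU₀ : g ∈ U₀ := (hmemU g).mpr ⟨c, hc⟩
      have hinjG : Function.Injective (hG D) := fun c c' h =>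
        hS_inj D (congrArg Subtype.val h)
      have hcardU : Nat.card U₀ = Fintype.card F - 1 := by
        have e1 : Nat.card U₀ = Nat.card (hG D).range :=
          Nat.card_congr (Equiv.subtypeEquiv (MulAut.conj k').toEquiv (fun x => Iff.rfl))
        have e2 : Nat.card (hG D).range = Nat.card Fˣ :=
          (Nat.card_congr (MonoidHom.ofInjective hinjG).toEquiv).symm
        rw [e1, e2, Nat.card_units, Nat.card_eq_fintype_card]
      have hcycU : IsCyclic U₀ := by
        haveI : IsCyclic (hG D).range :=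
          isCyclic_of_surjective (hG D).rangeRestrict (hG D).rangeRestrict_surjective
        let f : ↥U₀ →* ↥(hG D).range :=
          { toFun := fun x => ⟨k' * (x : SzG F s) * k'⁻¹, x.2⟩
            map_one' := Subtype.ext (by
              show k' * ((1 : ↥U₀) : SzG F s) * k'⁻¹ = 1
              rw [Subgroup.coe_one, mul_one, mul_inv_cancel])
            map_mul' := fun x y => Subtype.ext (by
              show k' * ((x * y : ↥U₀) : SzG F s) * k'⁻¹ =
                k' * (x : SzG F s) * k'⁻¹ * (k' * (y : SzG F s) * k'⁻¹)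
              rw [Subgroup.coe_mul]; group) }
        have hinj : Function.Injective f := by
          intro x y h
          have h' : k' * (x : SzG F s) * k'⁻¹ = k' * (y : SzG F s) * k'⁻¹ :=
            congrArg Subtype.val h
          exact Subtype.ext (mul_left_cancel (mul_right_cancel h'))
        exact isCyclic_of_injective f hinj
      refine ⟨U₀, ⟨Or.inr ⟨hcycU, Or.inl hcardU⟩, hgU₀⟩, ?_⟩
      rintro U ⟨hU | ⟨hUc, hUcard⟩, hgU⟩
      · exfalso
        obtain ⟨Q, rfl⟩ := hU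
        obtain ⟨n, hn⟩ := Q.isPGroup' ⟨g, hgU⟩
        have h1 : g ^ 2 ^ n = 1 := congrArg Subtype.val hn
        have h2 : (g : SL4 F) ^ 2 ^ n = 1 := by rw [← Subgroup.coe_pow, h1, Subgroup.coe_one]
        have h3 : (k * (g : SL4 F) * k⁻¹) ^ 2 ^ n = 1 := by
          rw [conj_pow, h2, mul_one, mul_inv_cancel]
        rw [hc, ← hS_pow] at h3
        have h4 : c ^ 2 ^ n = 1 := hS_inj D (h3.trans hS_one.symm)
        exact hc1 (D.unit_two_pow n c h4)
      · have hle : U ≤ U₀ := by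
          intro u hu
          rw [hmemU]
          have hcomm : u * g = g * u := hcycl U hUc u hu g hgU
          have hcomm' : (k * (u : SL4 F) * k⁻¹) * hS s c = hS s c * (k * (u : SL4 F) * k⁻¹) := by
            rw [← hc]
            exact conj_comm k (congrArg Subtype.val hcomm)
          exact cent_torus D hc1 (mul_mem (mul_mem hk u.2) (inv_mem hk)) hcomm'
        have hdvd := Subgroup.card_dvd_of_le hle
        rw [hcardU] at hdvd
        apply Subgroup.eq_of_le_of_card_ge hle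
        rcases hUcard with hu | hu | hu
        · exact le_of_eq (by rw [hcardU, hu])
        · exfalso
          have hN : Nat.card U ∣ Fintype.card F ^ 2 + 1 := by
            rw [hu, ← hc₁]
            exact tor_dvd D hA₁
          have h2 : Nat.card U ∣ 2 := dvd_two_of (by omega) hdvd hN
          have hle2 := Nat.le_of_dvd (by norm_num) h2
          omega
        · exfalso
          have hu' : Nat.card U = Nat.card A₂ := by omega
          have hN : Nat.card U ∣ Fintype.card F ^ 2 + 1 := by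
            rw [hu']
            exact tor_dvd D hA₂
          have h2 : Nat.card U ∣ 2 := dvd_two_of (by omega) hdvd hN
          have hle2 := Nat.le_of_dvd (by norm_num) h2
          omega

/-- `S0333` for the group `SzG`. -/
theorem s0333 {m : ℕ} (hm : 1 ≤ m) (hF : Fintype.card F = 2 ^ (2 * m + 1)) :
    ∀ k ∈ ({2 ^ (2 * m + 1) + 2 ^ (m + 1) + 1, 2 ^ (2 * m + 1) - 2 ^ (m + 1) + 1} : Set ℕ),
      ∃ U : Subgroup (SzG F (2 ^ (m + 1))), IsCyclic U ∧ Nat.card U = k ∧
        (∀ u ∈ U, u ≠ 1 → Subgroup.centralizer {u} = U) ∧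
        Nat.card (Subgroup.normalizer (U : Set (SzG F (2 ^ (m + 1))))) = 4 * k := by
  have D := szData hm hF
  have hqr : Fintype.card F = 2 * (2 ^ m) ^ 2 := by rw [hF]; ring
  have h2r : 2 * 2 ^ m = 2 ^ (m + 1) := by ring
  obtain ⟨A₁, A₂, hA₁, hA₂, hc₁, hc₂, hn₁, hn₂, -⟩ := tori D hqr
  rw [hF, h2r] at hc₁ hc₂
  have h5 := tor_five D hA₂
  intro k hk
  rcases hk with hk | hk
  · subst hk
    exact ⟨A₁, tor_cyclic D hA₁, hc₁, tor_TI D hA₁, by rw [hn₁, hc₁]⟩
  · have hk' : k = 2 ^ (2 * m + 1) - 2 ^ (m + 1) + 1 := hk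
    have hc₂' : Nat.card A₂ = k := by
      rw [hk']
      exact sub_form hc₂ h5
    exact ⟨A₂, tor_cyclic D hA₂, hc₂', tor_TI D hA₂, by rw [hn₂, hc₂']⟩

/-- `S2238` for the group `SzG`. -/
theorem s2238 {m : ℕ} (hm : 1 ≤ m) (hF : Fintype.card F = 2 ^ (2 * m + 1))
    (g : SzG F (2 ^ (m + 1))) (hg : g ≠ 1) :
    ∃! U : Subgroup (SzG F (2 ^ (m + 1))),
      ((∃ P : Sylow 2 (SzG F (2 ^ (m + 1))), U = (P : Subgroup (SzG F (2 ^ (m + 1))))) ∨
        (IsCyclic U ∧ Nat.card U ∈ ({2 ^ (2 * m + 1) - 1, 2 ^ (2 * m + 1) + 2 ^ (m + 1) + 1,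
          2 ^ (2 * m + 1) - 2 ^ (m + 1) + 1} : Set ℕ))) ∧ g ∈ U := by
  have D := szData hm hF
  have hqr : Fintype.card F = 2 * (2 ^ m) ^ 2 := by rw [hF]; ring
  have h2r : 2 * 2 ^ m = 2 ^ (m + 1) := by ring
  have hP := partition D hqr ⟨m + 1, h2r⟩ g hg
  have hle : 2 ^ (m + 1) ≤ 2 ^ (2 * m + 1) := Nat.pow_le_pow_right (by norm_num) (by omega)
  refine (existsUnique_congr (fun U => ?_)).mp hP
  rw [hF, h2r, card_set_iff hle]

end Cfsg.Agent.Helper6.Sz
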