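import Mathlib
import Cfsg.Prelude.Def_Sz
import Cfsg.Agent.Helper6.SzLie

set_option autoImplicit false

/-!
The Suzuki group of Lie type `Cfsg.Lie.Sz F s`: order, Sylow `2`-normaliser, and the doubly transitive
action on the cosets of the Sylow `2`-normaliser.
-/

namespace Cfsg.Agent.Helper6.Sz

open Matrix
open scoped Pointwise

variable {F : Type*} [Field F] [Fintype F] {s : ℕ}

/-- Transfer of a doubly transitive action to the cosets of a point stabiliser. -/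
theorem coset_action {L Ω : Type*} [Group L] (act : L → Ω → Ω)
    (hmul : ∀ g h x, act (g * h) x = act g (act h x)) (hone : ∀ x, act 1 x = x) (o : Ω)
    (U N : Subgroup L) (hN : ∀ g : L, g ∈ N ↔ act g o = o)
    (h2 : ∀ a b c d : Ω, a ≠ b → c ≠ d → ∃ g : L, act g a = c ∧ act g b = d)
    (hreg : ∀ x y : Ω, x ≠ o → y ≠ o → ∃! u : U, act (u : L) x = y) :
    Nat.card (L ⧸ N) = Nat.card Ω ∧ MulAction.IsMultiplyPretransitive L (L ⧸ N) 2 ∧
      ∀ x y : L ⧸ N, x ≠ QuotientGroup.mk 1 → y ≠ QuotientGroup.mk 1 →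
        ∃! u : U, (u : L) • x = y := by
  have hwd : ∀ a b : L, QuotientGroup.leftRel N a b → act a o = act b o := by
    intro a b hab
    rw [QuotientGroup.leftRel_apply] at hab
    have h := (hN _).mp hab
    calc act a o = act a (act (a⁻¹ * b) o) := by rw [h]
      _ = act b o := by rw [← hmul, mul_inv_cancel_left]
  let φ : L ⧸ N → Ω := fun q => Quotient.liftOn' q (fun g => act g o) hwd
  have hφmk : ∀ g : L, φ (QuotientGroup.mk g) = act g o := fun g => rfl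
  have hinj : Function.Injective φ := by
    intro q q'
    refine QuotientGroup.induction_on q (fun a => ?_)
    refine QuotientGroup.induction_on q' (fun b => ?_)
    intro h
    rw [hφmk, hφmk] at h
    apply QuotientGroup.eq.mpr
    apply (hN _).mpr
    rw [hmul, ← h, ← hmul, inv_mul_cancel, hone]
  have hequiv : ∀ (g : L) (q : L ⧸ N), φ (g • q) = act g (φ q) := by
    intro g q
    refine QuotientGroup.induction_on q (fun a => ?_)
    show act (g * a) o = act g (act a o)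
    exact hmul g a o
  have hsurj : Function.Surjective φ := by
    intro x
    by_cases hx : x = o
    · exact ⟨QuotientGroup.mk 1, by rw [hφmk, hone, hx]⟩
    · obtain ⟨g, hg, -⟩ := h2 o x x o (Ne.symm hx) hx
      exact ⟨QuotientGroup.mk g, by rw [hφmk, hg]⟩
  refine ⟨Nat.card_congr (Equiv.ofBijective φ ⟨hinj, hsurj⟩), ?_, ?_⟩
  · rw [MulAction.is_two_pretransitive_iff]
    intro a b c d hab hcd
    obtain ⟨g, h1, h2'⟩ := h2 (φ a) (φ b) (φ c) (φ d) (fun h => hab (hinj h))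
      (fun h => hcd (hinj h))
    exact ⟨g, hinj (by rw [hequiv, h1]), hinj (by rw [hequiv, h2'])⟩
  · intro x y hx hy
    have hφ1 : φ (QuotientGroup.mk 1) = o := by rw [hφmk, hone]
    have hx' : φ x ≠ o := fun h => hx (hinj (h.trans hφ1.symm))
    have hy' : φ y ≠ o := fun h => hy (hinj (h.trans hφ1.symm))
    obtain ⟨u, hu, huniq⟩ := hreg (φ x) (φ y) hx' hy'
    refine ⟨u, hinj (by rw [hequiv]; exact hu), fun u' hu' => huniq u' ?_⟩
    show act (u' : L) (φ x) = φ y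
    rw [← hequiv, hu']

theorem normalizer_U (D : SzData F s) (g : SzG F s) :
    g ∈ Subgroup.normalizer ((Usub D : Subgroup (SzG F s)) : Set (SzG F s)) ↔
      (g : SL4 F) • Pinf F = Pinf F := by
  have hmemU : ∀ x y : F, tG D x y ∈ Usub D := fun x y => ⟨x, y, rfl⟩
  rw [Subgroup.mem_set_normalizer_iff]
  constructor
  · intro hN
    obtain ⟨a₁, b₁, h3⟩ := (hN _).mp (hmemU 1 0)
    have h3' : (g : SL4 F) * tS s 1 0 * (g : SL4 F)⁻¹ = tS s a₁ b₁ := h3
    have hne : ¬ (a₁ = 0 ∧ b₁ = 0) := by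
      rintro ⟨rfl, rfl⟩
      rw [tS_zero D] at h3'
      have h4 : tS s (1 : F) 0 = tS s 0 0 := by rw [tS_zero D]; exact conj_eq_one_iff.mp h3'
      exact one_ne_zero (tS_inj D h4).1
    apply unip_fix D hne (smul_mem_ov g.2 inf_mem)
    rw [← h3', mul_smul, mul_smul, inv_smul_smul, tS_inf]
  · intro hg h
    have hg' : ((g⁻¹ : SzG F s) : SL4 F) • Pinf F = Pinf F := by
      show (g : SL4 F)⁻¹ • Pinf F = Pinf F
      rw [inv_smul_eq_iff, hg]
    constructor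
    · intro hu
      exact U_conj_mem D hg hu
    · intro hu
      have h3 := U_conj_mem D hg' hu
      have h4 : g⁻¹ * (g * h * g⁻¹) * g⁻¹⁻¹ = h := by group
      rw [h4] at h3
      exact h3

theorem exists_sylow_U (D : SzData F s) :
    ∃ P₀ : Sylow 2 (SzG F s), (P₀ : Subgroup (SzG F s)) = Usub D := by
  obtain ⟨n, hn⟩ := D.card_pow
  haveI : Fact (Nat.Prime 2) := ⟨Nat.prime_two⟩
  have hUp : IsPGroup 2 (Usub D) := fun u => ⟨2, tU_pow_four D u⟩
  obtain ⟨S0, hS0⟩ := hUp.exists_le_sylow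
  exact ⟨S0, (Subgroup.eq_of_le_of_card_ge hS0 (by rw [(sylow_props D hn S0).1, card_U D])).symm⟩

/-- Order, Sylow `2`-normaliser and coset action of the Suzuki group of Lie type. -/
theorem lie_sylow (D : SzData F s) :
    Nat.card (Cfsg.Lie.Sz F s) =
      Fintype.card F ^ 2 * (Fintype.card F - 1) * (Fintype.card F ^ 2 + 1) ∧
    ∃ S : Sylow 2 (Cfsg.Lie.Sz F s),
      Nat.card (Subgroup.normalizer ((S : Subgroup (Cfsg.Lie.Sz F s)) : Set (Cfsg.Lie.Sz F s))) =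
        Fintype.card F ^ 2 * (Fintype.card F - 1) ∧
      (Subgroup.normalizer ((S : Subgroup (Cfsg.Lie.Sz F s)) : Set (Cfsg.Lie.Sz F s))).index =
        Fintype.card F ^ 2 + 1 ∧
      MulAction.IsMultiplyPretransitive (Cfsg.Lie.Sz F s)
        (Cfsg.Lie.Sz F s ⧸
          Subgroup.normalizer ((S : Subgroup (Cfsg.Lie.Sz F s)) : Set (Cfsg.Lie.Sz F s))) 2 ∧
      ∀ x y : Cfsg.Lie.Sz F s ⧸
          Subgroup.normalizer ((S : Subgroup (Cfsg.Lie.Sz F s)) : Set (Cfsg.Lie.Sz F s)),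
        x ≠ QuotientGroup.mk 1 → y ≠ QuotientGroup.mk 1 →
          ∃! u : (S : Subgroup (Cfsg.Lie.Sz F s)), (u : Cfsg.Lie.Sz F s) • x = y := by
  haveI : Fact (Nat.Prime 2) := ⟨Nat.prime_two⟩
  obtain ⟨e, -⟩ : ∃ e : Cfsg.Lie.Sz F s ≃* SzG F s, e = (lieEquiv D).symm := ⟨_, rfl⟩
  have hcardL : Nat.card (Cfsg.Lie.Sz F s) =
      Fintype.card F ^ 2 * (Fintype.card F - 1) * (Fintype.card F ^ 2 + 1) := by
    rw [Nat.card_congr e.toEquiv, card_SzG D]; ring
  refine ⟨hcardL, ?_⟩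
  obtain ⟨P₀, hP₀⟩ := exists_sylow_U D
  obtain ⟨S, hS⟩ : ∃ S : Sylow 2 (Cfsg.Lie.Sz F s),
      (S : Subgroup (Cfsg.Lie.Sz F s)) = (Usub D).comap e.toMonoidHom :=
    ⟨P₀.comapOfInjective e.toMonoidHom e.injective (by
      intro x _
      exact ⟨e.symm x, e.apply_symm_apply x⟩), by rw [← hP₀]; rfl⟩
  refine ⟨S, ?_⟩
  obtain ⟨act, hact⟩ : ∃ act : Cfsg.Lie.Sz F s → ov F s → ov F s, ∀ g a,
      ((act g a : ov F s) : Projectivization F (Fin 4 → F)) =
        ((e g : SzG F s) : SL4 F) • (a : Projectivization F (Fin 4 → F)) :=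
    ⟨fun g a => ⟨((e g : SzG F s) : SL4 F) • (a : Projectivization F (Fin 4 → F)),
      smul_mem_ov (e g).2 a.2⟩, fun g a => rfl⟩
  have hN : ∀ g : Cfsg.Lie.Sz F s,
      g ∈ Subgroup.normalizer ((S : Subgroup (Cfsg.Lie.Sz F s)) : Set (Cfsg.Lie.Sz F s)) ↔
        act g ⟨Pinf F, inf_mem⟩ = ⟨Pinf F, inf_mem⟩ := by
    intro g
    rw [hS, ← Subgroup.comap_normalizer_eq_of_surjective _ e.surjective, Subgroup.mem_comap,
      normalizer_U D]
    constructor
    · intro h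
      exact Subtype.ext ((hact g _).trans h)
    · intro h
      exact (hact g _).symm.trans (congrArg Subtype.val h)
  have h2 : ∀ a b c d : ov F s, a ≠ b → c ≠ d →
      ∃ g : Cfsg.Lie.Sz F s, act g a = c ∧ act g b = d := by
    intro a b c d hab hcd
    obtain ⟨g₀, hg₀, h1, h2⟩ := two_trans D a.2 b.2 c.2 d.2 (fun h => hab (Subtype.ext h))
      (fun h => hcd (Subtype.ext h))
    refine ⟨e.symm ⟨g₀, hg₀⟩, Subtype.ext ?_, Subtype.ext ?_⟩
    · rw [hact, e.apply_symm_apply]; exact h1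
    · rw [hact, e.apply_symm_apply]; exact h2
  have hmemS : ∀ g : Cfsg.Lie.Sz F s, g ∈ (S : Subgroup (Cfsg.Lie.Sz F s)) ↔ e g ∈ Usub D := by
    intro g; rw [hS]; exact Iff.rfl
  have hreg : ∀ x y : ov F s, x ≠ ⟨Pinf F, inf_mem⟩ → y ≠ ⟨Pinf F, inf_mem⟩ →
      ∃! u : (S : Subgroup (Cfsg.Lie.Sz F s)), act (u : Cfsg.Lie.Sz F s) x = y := by
    rintro ⟨x, hx⟩ ⟨y, hy⟩ hxo hyo
    rcases mem_ov.mp hx with rfl | ⟨x₁, y₁, rfl⟩
    · exact absurd rfl hxo
    rcases mem_ov.mp hy with rfl | ⟨x₂, y₂, rfl⟩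
    · exact absurd rfl hyo
    have hu₀ : e (e.symm (tG D (x₂ - x₁) (y₂ - y₁ - (x₂ - x₁) ^ s * x₁))) ∈ Usub D := by
      rw [e.apply_symm_apply]; exact ⟨_, _, rfl⟩
    refine ⟨⟨e.symm (tG D (x₂ - x₁) (y₂ - y₁ - (x₂ - x₁) ^ s * x₁)), (hmemS _).mpr hu₀⟩, ?_, ?_⟩
    · apply Subtype.ext
      rw [hact, e.apply_symm_apply]
      show tS s (x₂ - x₁) (y₂ - y₁ - (x₂ - x₁) ^ s * x₁) • Paff s x₁ y₁ = Paff s x₂ y₂
      rw [tS_aff D]
      have e1 : x₁ + (x₂ - x₁) = x₂ := by ring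
      have e2 : y₁ + (y₂ - y₁ - (x₂ - x₁) ^ s * x₁) + (x₂ - x₁) ^ s * x₁ = y₂ := by ring
      rw [e1, e2]
    · rintro ⟨u', hu'⟩ hact'
      obtain ⟨a, b, hab⟩ := (hmemS u').mp hu'
      have h1 : ((e u' : SzG F s) : SL4 F) • Paff s x₁ y₁ = Paff s x₂ y₂ :=
        (hact u' _).symm.trans (congrArg Subtype.val hact')
      rw [hab, tS_aff D] at h1
      obtain ⟨h2, h3⟩ := Paff_inj h1
      have ha : a = x₂ - x₁ := by linear_combination h2
      have hb : b = y₂ - y₁ - (x₂ - x₁) ^ s * x₁ := by rw [← ha]; linear_combination h3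
      subst ha
      subst hb
      apply Subtype.ext
      show u' = e.symm (tG D (x₂ - x₁) (y₂ - y₁ - (x₂ - x₁) ^ s * x₁))
      rw [MulEquiv.eq_symm_apply]
      exact Subtype.ext hab
  obtain ⟨hcardQ, h2tr, hregQ⟩ := coset_action act
    (fun g h x => Subtype.ext (by rw [hact, hact, hact, map_mul, Subgroup.coe_mul, mul_smul]))
    (fun x => Subtype.ext (by rw [hact, map_one, Subgroup.coe_one, one_smul]))
    (⟨Pinf F, inf_mem⟩ : ov F s) (S : Subgroup (Cfsg.Lie.Sz F s))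
    (Subgroup.normalizer ((S : Subgroup (Cfsg.Lie.Sz F s)) : Set (Cfsg.Lie.Sz F s))) hN h2 hreg
  have hidx : (Subgroup.normalizer ((S : Subgroup (Cfsg.Lie.Sz F s)) :
      Set (Cfsg.Lie.Sz F s))).index = Fintype.card F ^ 2 + 1 := by
    rw [Subgroup.index, hcardQ, card_ov]
  refine ⟨?_, hidx, h2tr, hregQ⟩
  have hmul := Subgroup.card_mul_index
    (Subgroup.normalizer ((S : Subgroup (Cfsg.Lie.Sz F s)) : Set (Cfsg.Lie.Sz F s)))
  rw [hidx, hcardL] at hmul
  exact Nat.eq_of_mul_eq_mul_right (Nat.succ_pos _) hmul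

end Cfsg.Agent.Helper6.Sz
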