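import Mathlib
import Cfsg.Prelude.Def_Transfer
import Cfsg.Agent.Helper6.SzMore

set_option autoImplicit false

/-!
Elementary abelian TI-subgroups of the Suzuki group `Sz(q)` (stabiliser of the Suzuki–Tits ovoid in
`SL₄`): they correspond to the subfields of the field of definition.
-/

namespace Cfsg.Agent.Helper6.Sz

open Matrix
open scoped Pointwise

variable {F : Type*} [Field F] [Fintype F] {s : ℕ}

theorem tG_zero_mul (D : SzData F s) (t t' : F) : tG D 0 t * tG D 0 t' = tG D 0 (t + t') := by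
  apply Subtype.ext
  show tS s 0 t * tS s 0 t' = tS s 0 (t + t')
  rw [tS_mul D]
  have e1 : (0 : F) + 0 = 0 := add_zero 0
  have e2 : t + t' + (0 : F) ^ s * 0 = t + t' := by rw [mul_zero, add_zero]
  rw [e1, e2]

theorem tG_zero_zero (D : SzData F s) : tG D (0 : F) 0 = 1 := Subtype.ext (tS_zero D)

theorem tG_zero_inj (D : SzData F s) {t t' : F} (h : tG D 0 t = tG D 0 t') : t = t' :=
  (tS_inj D (congrArg Subtype.val h)).2

theorem tG_zero_sq (D : SzData F s) (t : F) : tG D 0 t * tG D 0 t = 1 := by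
  rw [tG_zero_mul, D.add_self, tG_zero_zero]

theorem conj_center (D : SzData F s) (a b : F) (c : Fˣ) (v : F) :
    (tS s a b * hS s c) * tS s 0 v = tS s 0 ((c : F) ^ (2 * s + 2) * v) * (tS s a b * hS s c) := by
  have h1 : tS s a b * hS s c * tS s 0 v = tS s a b * (hS s c * tS s 0 v) := by group
  rw [h1, hS_tS D, ← mul_assoc, ← mul_assoc, tS_mul D, tS_mul D]
  have e1 : a + (c : F) ^ 2 * 0 = 0 + a := by ring
  have e2 : b + (c : F) ^ (2 * s + 2) * v + a ^ s * ((c : F) ^ 2 * 0) =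
      (c : F) ^ (2 * s + 2) * v + b + (0 : F) ^ s * a := by
    rw [zero_pow D.s_ne]; ring
  rw [e1, e2]

/-- A subfield gives an elementary abelian TI-subgroup of the same order. -/
theorem ti_of_subfield (D : SzData F s) {K' : Type*} [Field K'] [Finite K'] (φ : K' →+* F) :
    ∃ E : Subgroup (SzG F s), Cfsg.IsElementaryAbelian 2 E ∧ Nat.card E = Nat.card K' ∧
      ∀ x : SzG F s, E ⊓ E.map (MulAut.conj x).toMonoidHom ≠ ⊥ →
        x ∈ Subgroup.normalizer (E : Set (SzG F s)) := by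
  let E : Subgroup (SzG F s) :=
    { carrier := {g | ∃ u : K', g = tG D 0 (φ u)}
      mul_mem' := by
        rintro _ _ ⟨u, rfl⟩ ⟨u', rfl⟩
        exact ⟨u + u', by rw [tG_zero_mul, map_add]⟩
      one_mem' := ⟨0, by rw [map_zero, tG_zero_zero]⟩
      inv_mem' := by
        rintro _ ⟨u, rfl⟩
        exact ⟨u, inv_eq_of_mul_eq_one_right (tG_zero_sq D _)⟩ }
  have hmem : ∀ g : SzG F s, g ∈ E ↔ ∃ u : K', g = tG D 0 (φ u) := fun g => Iff.rfl
  have hφ : Function.Injective φ := φ.injective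
  refine ⟨E, ⟨⟨⟨fun a b => ?_⟩⟩, ?_⟩, ?_, ?_⟩
  · obtain ⟨u, hu⟩ := (hmem _).mp a.2
    obtain ⟨u', hu'⟩ := (hmem _).mp b.2
    apply Subtype.ext
    rw [Subgroup.coe_mul, Subgroup.coe_mul, hu, hu', tG_zero_mul, tG_zero_mul, add_comm]
  · intro a ha
    obtain ⟨u, rfl⟩ := (hmem _).mp ha
    rw [sq, tG_zero_sq]
  · have hbij : Function.Bijective
        (fun u : K' => (⟨tG D 0 (φ u), (hmem _).mpr ⟨u, rfl⟩⟩ : E)) := by
      constructor
      · intro u u' h
        exact hφ (tG_zero_inj D (congrArg Subtype.val h))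
      · rintro ⟨g, hg⟩
        obtain ⟨u, rfl⟩ := (hmem _).mp hg
        exact ⟨u, rfl⟩
    exact (Nat.card_congr (Equiv.ofBijective _ hbij)).symm
  · intro x hx
    obtain ⟨z, hz, hz1⟩ : ∃ z ∈ E ⊓ E.map (MulAut.conj x).toMonoidHom, z ≠ 1 := by
      by_contra h
      push Not at h
      exact hx ((Subgroup.eq_bot_iff_forall _).mpr h)
    obtain ⟨hzE, hzM⟩ := hz
    obtain ⟨u, rfl⟩ := (hmem _).mp hzE
    obtain ⟨e, heE, he⟩ := Subgroup.mem_map.mp hzM
    obtain ⟨u', rfl⟩ := (hmem _).mp heE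
    have he' : x * tG D 0 (φ u') * x⁻¹ = tG D 0 (φ u) := he
    have hu0 : φ u ≠ 0 := by
      intro h0
      rw [h0, tG_zero_zero] at hz1
      exact hz1 rfl
    have hfix : (x : SL4 F) • Pinf F = Pinf F := by
      apply unip_fix D (a := 0) (b := φ u) (fun h => hu0 h.2) (smul_mem_ov x.2 inf_mem)
      have h1 : tS s 0 (φ u) = (x : SL4 F) * tS s 0 (φ u') * (x : SL4 F)⁻¹ :=
        (congrArg Subtype.val he').symm
      rw [h1, mul_smul, mul_smul, inv_smul_smul, tS_inf]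
    obtain ⟨a, b, c, hxc⟩ := stab_one D x.2 hfix
    have hconj : ∀ v : F, x * tG D 0 v * x⁻¹ = tG D 0 ((c : F) ^ (2 * s + 2) * v) := by
      intro v
      apply Subtype.ext
      show (x : SL4 F) * tS s 0 v * (x : SL4 F)⁻¹ = tS s 0 ((c : F) ^ (2 * s + 2) * v)
      rw [hxc, conj_center D, mul_inv_cancel_right]
    rw [hconj] at he'
    have hl : (c : F) ^ (2 * s + 2) * φ u' = φ u := tG_zero_inj D he'
    have hu'0 : u' ≠ 0 := by
      rintro rfl
      rw [map_zero, mul_zero] at hl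
      exact hu0 hl.symm
    have hlφ : (c : F) ^ (2 * s + 2) = φ (u / u') := by
      rw [map_div₀]
      exact eq_div_of_mul_eq ((map_ne_zero φ).mpr hu'0) hl
    have hl0 : u / u' ≠ 0 := by
      intro h
      rw [h, map_zero] at hlφ
      exact (pow_ne_zero _ c.ne_zero) hlφ
    rw [Subgroup.mem_set_normalizer_iff]
    intro h
    constructor
    · intro hh
      obtain ⟨v, rfl⟩ := (hmem _).mp hh
      exact (hmem _).mpr ⟨u / u' * v, by rw [hconj, hlφ, map_mul]⟩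
    · intro hh
      obtain ⟨v, hv⟩ := (hmem _).mp hh
      refine (hmem _).mpr ⟨(u / u')⁻¹ * v, ?_⟩
      have h2 : x * tG D 0 (φ ((u / u')⁻¹ * v)) * x⁻¹ = x * h * x⁻¹ := by
        rw [hconj, hlφ, hv, ← map_mul, ← mul_assoc, mul_inv_cancel₀ hl0, one_mul]
      exact (mul_left_cancel (mul_right_cancel h2)).symm

theorem ti_exists (D : SzData F s) {N : ℕ} (hN : Fintype.card F = 2 ^ N) {n : ℕ} (hn : 2 ≤ n)
    (hdvd : n ∣ N) :
    ∃ E : Subgroup (SzG F s), Cfsg.IsElementaryAbelian 2 E ∧ Nat.card E = 2 ^ n ∧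
      ∀ x : SzG F s, E ⊓ E.map (MulAut.conj x).toMonoidHom ≠ ⊥ →
        x ∈ Subgroup.normalizer (E : Set (SzG F s)) := by
  haveI : Fact (Nat.Prime 2) := ⟨Nat.prime_two⟩
  haveI : CharP F 2 := CharTwo.of_one_ne_zero_of_two_eq_zero one_ne_zero D.two
  letI : Algebra (ZMod 2) F := ZMod.algebra F 2
  have hn0 : n ≠ 0 := by omega
  have h1 : Module.finrank (ZMod 2) (GaloisField 2 n) = n := GaloisField.finrank 2 hn0
  have h2 : Module.finrank (ZMod 2) F = N := by
    have h := FiniteField.pow_finrank_eq_card 2 F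
    rw [hN] at h
    exact Nat.pow_right_injective (le_refl 2) h
  obtain ⟨φ⟩ := FiniteField.nonempty_algHom_of_finrank_dvd (F := ZMod 2) (K := GaloisField 2 n)
    (L := F) (by rw [h1, h2]; exact hdvd)
  obtain ⟨E, hE, hcard, hTI⟩ := ti_of_subfield D (φ : GaloisField 2 n →+* F)
  exact ⟨E, hE, by rw [hcard, GaloisField.card 2 n hn0], hTI⟩

theorem ti_dvd (D : SzData F s) {N : ℕ} (hN : Fintype.card F = 2 ^ N) {n : ℕ} (hn : 2 ≤ n)
    (E : Subgroup (SzG F s)) (hE : Cfsg.IsElementaryAbelian 2 E) (hcard : Nat.card E = 2 ^ n)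
    (hTI : ∀ x : SzG F s, E ⊓ E.map (MulAut.conj x).toMonoidHom ≠ ⊥ →
      x ∈ Subgroup.normalizer (E : Set (SzG F s))) : n ∣ N := by
  haveI : Fact (Nat.Prime 2) := ⟨Nat.prime_two⟩
  have hEp : IsPGroup 2 E := fun e => ⟨1, by
    apply Subtype.ext
    have h := hE.2 e e.2
    simpa using h⟩
  obtain ⟨P, hEP⟩ := hEp.exists_le_sylow
  obtain ⟨k, hk⟩ := sylow_conj D P
  have F1 : ∀ e ∈ E, ∃ t : F, e = k * tG D 0 t * k⁻¹ := by
    intro e he
    obtain ⟨a, b, hab⟩ := (hk e).mp (hEP he)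
    have hu : k⁻¹ * e * k = tG D a b := Subtype.ext hab
    have hsq : tG D a b * tG D a b = 1 := by
      rw [← hu]
      have he2 : e * e = 1 := by rw [← sq]; exact hE.2 e he
      calc k⁻¹ * e * k * (k⁻¹ * e * k) = k⁻¹ * (e * e) * k := by group
        _ = 1 := by rw [he2]; group
    rw [tG_sq D, ← tG_zero_zero D] at hsq
    have ha : a = 0 := by
      have h := tG_zero_inj D hsq
      exact (pow_eq_zero_iff (Nat.succ_ne_zero s)).mp h
    refine ⟨b, ?_⟩
    rw [← ha, ← hu]; group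
  have hEne : E ≠ ⊥ := by
    rw [← Subgroup.one_lt_card_iff_ne_bot, hcard]
    exact Nat.one_lt_two_pow (by omega)
  obtain ⟨e₀, he₀, he₀1⟩ : ∃ e ∈ E, e ≠ 1 := by
    by_contra h
    push Not at h
    exact hEne ((Subgroup.eq_bot_iff_forall _).mpr h)
  obtain ⟨a₀, ha₀⟩ := F1 e₀ he₀
  have ha₀0 : a₀ ≠ 0 := by
    rintro rfl
    rw [tG_zero_zero D] at ha₀
    apply he₀1
    rw [ha₀]; group
  have hA₀ : k * tG D 0 a₀ * k⁻¹ ∈ E := by rw [← ha₀]; exact he₀
  have F2 : ∀ t t' : F, k * tG D 0 t * k⁻¹ ∈ E → k * tG D 0 t' * k⁻¹ ∈ E →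
      k * tG D 0 (t + t') * k⁻¹ ∈ E := by
    intro t t' h h'
    have h1 : k * tG D 0 (t + t') * k⁻¹ = (k * tG D 0 t * k⁻¹) * (k * tG D 0 t' * k⁻¹) := by
      rw [← tG_zero_mul]; group
    rw [h1]; exact mul_mem h h'
  have F3 : k * tG D 0 0 * k⁻¹ ∈ E := by
    have h1 : k * tG D 0 0 * k⁻¹ = 1 := by rw [tG_zero_zero D]; group
    rw [h1]; exact one_mem E
  have F5 : ∀ a a' : F, k * tG D 0 a * k⁻¹ ∈ E → k * tG D 0 a' * k⁻¹ ∈ E → a ≠ 0 → a' ≠ 0 →
      ∀ t : F, k * tG D 0 t * k⁻¹ ∈ E → k * tG D 0 (a' / a * t) * k⁻¹ ∈ E := by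
    intro a a' ha ha' ha0 ha'0 t ht
    obtain ⟨μ, hμ⟩ := D.sqrt (a' / a)
    have hμ0 : μ ≠ 0 := by
      rintro rfl
      rw [zero_pow two_ne_zero] at hμ
      exact (div_ne_zero ha'0 ha0) hμ.symm
    obtain ⟨c₁, hc₁⟩ := D.exists_root hμ0
    have hc₁0 : c₁ ≠ 0 := by
      rintro rfl
      rw [zero_pow (Nat.succ_ne_zero s)] at hc₁
      exact hμ0 hc₁.symm
    have hlam : c₁ ^ (2 * s + 2) = a' / a := by
      rw [← hμ, ← hc₁]; ring
    obtain ⟨x, hx⟩ : ∃ x : SzG F s, x = k * hG D (Units.mk0 c₁ hc₁0) * k⁻¹ := ⟨_, rfl⟩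
    have hxc : ∀ v : F, x * (k * tG D 0 v * k⁻¹) * x⁻¹ = k * tG D 0 (a' / a * v) * k⁻¹ := by
      intro v
      have h1 := hG_conj_tG D (Units.mk0 c₁ hc₁0) 0 v
      rw [Units.val_mk0, mul_zero, hlam] at h1
      rw [← h1, hx]; group
    have hne : E ⊓ E.map (MulAut.conj x).toMonoidHom ≠ ⊥ := by
      intro hbot
      have hz : k * tG D 0 a' * k⁻¹ ∈ E ⊓ E.map (MulAut.conj x).toMonoidHom := by
        refine ⟨ha', Subgroup.mem_map.mpr ⟨k * tG D 0 a * k⁻¹, ha, ?_⟩⟩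
        show x * (k * tG D 0 a * k⁻¹) * x⁻¹ = _
        rw [hxc, div_mul_cancel₀ a' ha0]
      rw [hbot, Subgroup.mem_bot] at hz
      have h1 : tG D 0 a' = 1 := conj_eq_one_iff.mp hz
      rw [← tG_zero_zero D] at h1
      exact ha'0 (tG_zero_inj D h1)
    have hNx := hTI x hne
    rw [Subgroup.mem_set_normalizer_iff] at hNx
    have h3 := (hNx _).mp ht
    rw [hxc] at h3
    exact h3
  let K₀ : Subring F :=
    { carrier := {l | ∀ t : F, k * tG D 0 t * k⁻¹ ∈ E → k * tG D 0 (l * t) * k⁻¹ ∈ E}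
      mul_mem' := by
        intro l l' hl hl' t ht
        rw [mul_assoc l l' t]
        exact hl _ (hl' t ht)
      one_mem' := by
        intro t ht
        rw [one_mul]; exact ht
      add_mem' := by
        intro l l' hl hl' t ht
        rw [add_mul]
        exact F2 _ _ (hl t ht) (hl' t ht)
      zero_mem' := by
        intro t _
        rw [zero_mul]; exact F3
      neg_mem' := by
        intro l hl t ht
        rw [D.neg]; exact hl t ht }
  let K : Subfield F :=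
    { K₀ with
      inv_mem' := by
        intro l hl
        by_cases hl0 : l = 0
        · rw [hl0, _root_.inv_zero]; exact K₀.zero_mem
        · have h1 : l * l ^ (Fintype.card F - 2) = 1 := by
            rw [← pow_succ', show Fintype.card F - 2 + 1 = Fintype.card F - 1 by
              have := D.card; have := D.four; omega]
            exact FiniteField.pow_card_sub_one_eq_one l hl0
          rw [← eq_inv_of_mul_eq_one_right h1]
          exact pow_mem (show l ∈ K₀ from hl) _ }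
  have hKmem : ∀ l : F, l ∈ K ↔
      ∀ t : F, k * tG D 0 t * k⁻¹ ∈ E → k * tG D 0 (l * t) * k⁻¹ ∈ E := fun l => Iff.rfl
  have hbij : Function.Bijective (fun l : K =>
      (⟨k * tG D 0 ((l : F) * a₀) * k⁻¹, (hKmem _).mp l.2 a₀ hA₀⟩ : E)) := by
    constructor
    · intro l l' h
      have h1 : k * tG D 0 ((l : F) * a₀) * k⁻¹ = k * tG D 0 ((l' : F) * a₀) * k⁻¹ :=
        congrArg Subtype.val h
      have h2 := tG_zero_inj D (mul_left_cancel (mul_right_cancel h1))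
      exact Subtype.ext (mul_right_cancel₀ ha₀0 h2)
    · rintro ⟨e, he⟩
      obtain ⟨t, rfl⟩ := F1 e he
      by_cases ht0 : t = 0
      · refine ⟨⟨0, K.zero_mem⟩, Subtype.ext ?_⟩
        show k * tG D 0 ((0 : F) * a₀) * k⁻¹ = k * tG D 0 t * k⁻¹
        rw [zero_mul, ht0]
      · refine ⟨⟨t / a₀, (hKmem _).mpr (F5 a₀ t hA₀ he ha₀0 ht0)⟩, Subtype.ext ?_⟩
        show k * tG D 0 (t / a₀ * a₀) * k⁻¹ = k * tG D 0 t * k⁻¹
        rw [div_mul_cancel₀ t ha₀0]
  have hKcard : Nat.card K = 2 ^ n := by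
    rw [Nat.card_congr (Equiv.ofBijective _ hbij), hcard]
  have hFK := Module.natCard_eq_pow_finrank (K := K) (V := F)
  rw [Nat.card_eq_fintype_card, hN, hKcard, ← pow_mul] at hFK
  exact ⟨_, Nat.pow_right_injective (le_refl 2) hFK⟩

/-- Elementary abelian TI-subgroups of order `2 ^ n` exist exactly when `n` divides the degree. -/
theorem ti_iff (D : SzData F s) {N : ℕ} (hN : Fintype.card F = 2 ^ N) (n : ℕ) (hn : 2 ≤ n) :
    (∃ E : Subgroup (SzG F s), Cfsg.IsElementaryAbelian 2 E ∧ Nat.card E = 2 ^ n ∧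
      ∀ x : SzG F s, E ⊓ E.map (MulAut.conj x).toMonoidHom ≠ ⊥ →
        x ∈ Subgroup.normalizer (E : Set (SzG F s))) ↔ n ∣ N :=
  ⟨fun ⟨E, hE, hcard, hTI⟩ => ti_dvd D hN hn E hE hcard hTI, fun h => ti_exists D hN hn h⟩

end Cfsg.Agent.Helper6.Sz
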