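import Mathlib
import Cfsg.Prelude.Def_Sz
import Cfsg.Prelude.Def_KGroupFacts
import Cfsg.Agent.Helper6.SzLie2
import Cfsg.Agent.Helper6.SzTI

set_option autoImplicit false

/-!
The outer automorphism group of the Suzuki group `Sz(q)`: every automorphism is the product of an
inner automorphism and a field automorphism, and no non-trivial field automorphism is inner.
-/

namespace Cfsg.Agent.Helper6.SzOut

open Matrix Cfsg.Agent.Helper6.Sz
open scoped Pointwise

variable {F : Type*} [Field F] [Fintype F] {s : ℕ}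

/-! ### field automorphisms -/

/-- entrywise action of a field automorphism on `SL₄` -/
def slMap (σ : RingAut F) : SL4 F →* SL4 F := Matrix.SpecialLinearGroup.map σ.toRingHom

theorem slMap_apply (σ : RingAut F) (g : SL4 F) (i j : Fin 4) :
    (slMap σ g : Matrix (Fin 4) (Fin 4) F) i j = σ ((g : Matrix (Fin 4) (Fin 4) F) i j) := rfl

theorem slMap_tS (σ : RingAut F) (a b : F) : slMap σ (tS s a b) = tS s (σ a) (σ b) := by
  apply Subtype.ext
  ext i j
  rw [slMap_apply]
  show σ (tM s a b i j) = tM s (σ a) (σ b) i j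
  fin_cases i <;> fin_cases j <;> simp [tM, fz, map_add, map_mul, map_pow]

theorem slMap_hS (σ : RingAut F) (c : Fˣ) :
    slMap σ (hS s c) = hS s (Units.map σ.toRingHom.toMonoidHom c) := by
  apply Subtype.ext
  ext i j
  rw [slMap_apply]
  show σ (hM s (c : F) i j) = hM s (σ (c : F)) i j
  fin_cases i <;> fin_cases j <;> simp [hM, map_pow, map_inv₀]

theorem slMap_wS (D : SzData F s) (σ : RingAut F) : slMap σ (wS D) = wS D := by
  apply Subtype.ext
  ext i j
  rw [slMap_apply]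
  show σ (wM F i j) = wM F i j
  fin_cases i <;> fin_cases j <;> simp [wM]

theorem slMap_mem (D : SzData F s) (σ : RingAut F) {g : SL4 F} (hg : g ∈ SzG F s) :
    slMap σ g ∈ SzG F s := by
  rcases SzG_cases D hg with ⟨a, b, c, rfl⟩ | ⟨a, b, a', b', c, rfl⟩
  · rw [map_mul, slMap_tS, slMap_hS]
    exact mul_mem (tS_mem D _ _) (hS_mem D _)
  · rw [map_mul, map_mul, map_mul, slMap_tS, slMap_tS, slMap_hS, slMap_wS]
    exact mul_mem (mul_mem (tS_mem D _ _) (wS_mem D)) (mul_mem (tS_mem D _ _) (hS_mem D _))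

/-- the endomorphism of `Sz` induced by a field automorphism -/
def fMap (D : SzData F s) (σ : RingAut F) : SzG F s →* SzG F s :=
  ((slMap σ).comp (SzG F s).subtype).codRestrict (SzG F s) (fun g => slMap_mem D σ g.2)

theorem fMap_tG (D : SzData F s) (σ : RingAut F) (a b : F) :
    fMap D σ (tG D a b) = tG D (σ a) (σ b) :=
  Subtype.ext (slMap_tS σ a b)

theorem fMap_hG (D : SzData F s) (σ : RingAut F) (c : Fˣ) :
    fMap D σ (hG D c) = hG D (Units.map σ.toRingHom.toMonoidHom c) :=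
  Subtype.ext (slMap_hS σ c)

theorem fMap_wG (D : SzData F s) (σ : RingAut F) : fMap D σ (wG D) = wG D :=
  Subtype.ext (slMap_wS D σ)

/-- the automorphism of `Sz` induced by a field automorphism -/
def fAut (D : SzData F s) (σ : RingAut F) : MulAut (SzG F s) where
  toFun := fMap D σ
  invFun := fMap D (RingEquiv.symm σ)
  left_inv g := by
    apply Subtype.ext; apply Subtype.ext; ext i j
    show (RingEquiv.symm σ) (σ (((g : SL4 F) : Matrix (Fin 4) (Fin 4) F) i j)) = _
    exact RingEquiv.symm_apply_apply σ _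
  right_inv g := by
    apply Subtype.ext; apply Subtype.ext; ext i j
    show σ ((RingEquiv.symm σ) (((g : SL4 F) : Matrix (Fin 4) (Fin 4) F) i j)) = _
    exact RingEquiv.apply_symm_apply σ _
  map_mul' := map_mul (fMap D σ)

/-- field automorphisms as a group of automorphisms of `Sz` -/
def fAutHom (D : SzData F s) : RingAut F →* MulAut (SzG F s) where
  toFun := fAut D
  map_one' := by
    apply MulEquiv.ext
    intro g
    apply Subtype.ext; apply Subtype.ext; ext i j
    rfl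
  map_mul' σ τ := by
    apply MulEquiv.ext
    intro g
    apply Subtype.ext; apply Subtype.ext; ext i j
    rfl

theorem fAutHom_apply (D : SzData F s) (σ : RingAut F) (g : SzG F s) :
    fAutHom D σ g = fMap D σ g := rfl

/-! ### basic relations -/

theorem tG_mul (D : SzData F s) (a b c d : F) :
    tG D a b * tG D c d = tG D (a + c) (b + d + a ^ s * c) := Subtype.ext (tS_mul D a b c d)

theorem tG_inj (D : SzData F s) {a b a' b' : F} (h : tG D a b = tG D a' b') : a = a' ∧ b = b' :=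
  tS_inj D (congrArg Subtype.val h)

theorem wG_sq (D : SzData F s) : wG D * wG D = 1 := Subtype.ext (wS_mul_self D)

theorem wG_hG (D : SzData F s) (c : Fˣ) : wG D * hG D c * wG D = hG D c⁻¹ :=
  Subtype.ext (wS_hS D c)

theorem hG_inj (D : SzData F s) : Function.Injective (hG D) := by
  intro c c' h
  exact hS_inj D (congrArg Subtype.val h)

theorem tS_P0 (D : SzData F s) (a b : F) : tS s a b • P0 F = Paff s a b := by
  rw [← Paff_zero D, tS_aff D, zero_add, zero_add, mul_zero, add_zero]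

theorem mem_U (D : SzData F s) (a b : F) : tG D a b ∈ Usub D := ⟨a, b, rfl⟩

theorem fix_of_conj (D : SzData F s) {g : SzG F s} {a b a₁ b₁ : F} (hab : ¬ (a₁ = 0 ∧ b₁ = 0))
    (h : g * tG D a b * g⁻¹ = tG D a₁ b₁) : (g : SL4 F) • Pinf F = Pinf F := by
  have h3' : (g : SL4 F) * tS s a b * (g : SL4 F)⁻¹ = tS s a₁ b₁ := congrArg Subtype.val h
  apply unip_fix D hab (smul_mem_ov g.2 inf_mem)
  rw [← h3', mul_smul, mul_smul, inv_smul_smul, tS_inf]

theorem fix_zero_aux {w₂ k : SL4 F} (hw : w₂ • Pinf F = P0 F) (hw2 : w₂ * w₂ = 1)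
    (hk : (w₂ * k * w₂) • Pinf F = Pinf F) : k • P0 F = P0 F := by
  rw [mul_smul, mul_smul, hw] at hk
  have h4 : w₂ • w₂ • k • P0 F = w₂ • Pinf F := congrArg (fun p => w₂ • p) hk
  rw [smul_smul, hw2, one_smul, hw] at h4
  exact h4

/-! ### automorphisms preserving the translation subgroup -/

/-- `β` maps translations to translations -/
def PU (D : SzData F s) (β : MulAut (SzG F s)) : Prop := ∀ u ∈ Usub D, β u ∈ Usub D

/-- `β` maps the torus to the torus -/
def PH (D : SzData F s) (β : MulAut (SzG F s)) : Prop :=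
  ∀ c : Fˣ, ∃ c' : Fˣ, β (hG D c) = hG D c'

theorem PU_apply (D : SzData F s) {β : MulAut (SzG F s)} (h : PU D β) (a b : F) :
    ∃ a' b', β (tG D a b) = tG D a' b' := by
  obtain ⟨a', b', h'⟩ := h _ (mem_U D a b)
  exact ⟨a', b', Subtype.ext h'⟩

theorem PU_ne (D : SzData F s) {β : MulAut (SzG F s)} {a b a' b' : F}
    (h : β (tG D a b) = tG D a' b') (hab : ¬ (a = 0 ∧ b = 0)) : ¬ (a' = 0 ∧ b' = 0) := by
  rintro ⟨rfl, rfl⟩
  rw [tG_zero_zero D] at h
  have h1 : tG D a b = 1 := (MulEquiv.map_eq_one_iff β).mp h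
  rw [← tG_zero_zero D] at h1
  exact hab (tG_inj D h1)

theorem PU_surj (D : SzData F s) {β : MulAut (SzG F s)} (h : PU D β) (a' b' : F) :
    ∃ a b, β (tG D a b) = tG D a' b' := by
  choose A B hAB using PU_apply D h
  let f : F × F → F × F := fun p => (A p.1 p.2, B p.1 p.2)
  have hinj : Function.Injective f := by
    rintro ⟨a, b⟩ ⟨c, d⟩ hpq
    have h1 : A a b = A c d := congrArg Prod.fst hpq
    have h2 : B a b = B c d := congrArg Prod.snd hpq
    have h3 : β (tG D a b) = β (tG D c d) := by rw [hAB, hAB, h1, h2]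
    obtain ⟨rfl, rfl⟩ := tG_inj D (β.injective h3)
    rfl
  obtain ⟨⟨a, b⟩, hp⟩ := Finite.injective_iff_surjective.mp hinj (a', b')
  refine ⟨a, b, ?_⟩
  have h1 : A a b = a' := congrArg Prod.fst hp
  have h2 : B a b = b' := congrArg Prod.snd hp
  rw [hAB, h1, h2]

theorem PU_symm (D : SzData F s) {β : MulAut (SzG F s)} (h : PU D β) : PU D β⁻¹ := by
  intro u hu
  obtain ⟨a', b', hu'⟩ := hu
  have hu2 : u = tG D a' b' := Subtype.ext hu'
  obtain ⟨a, b, hab⟩ := PU_surj D h a' b'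
  have h1 : β⁻¹ u = tG D a b := by
    rw [hu2, ← hab]
    exact MulAut.inv_apply_self _ β _
  rw [h1]; exact mem_U D a b

theorem PU_fix (D : SzData F s) {β : MulAut (SzG F s)} (h : PU D β) {g : SzG F s}
    (hg : (g : SL4 F) • Pinf F = Pinf F) : ((β g : SzG F s) : SL4 F) • Pinf F = Pinf F := by
  obtain ⟨a₁, b₁, h1⟩ := U_conj_mem D hg (mem_U D 1 0)
  have h1' : g * tG D 1 0 * g⁻¹ = tG D a₁ b₁ := Subtype.ext h1
  have hne : ¬ (a₁ = 0 ∧ b₁ = 0) := by
    rintro ⟨rfl, rfl⟩
    rw [tG_zero_zero D] at h1'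
    have h2 : tG D (1 : F) 0 = 1 := conj_eq_one_iff.mp h1'
    rw [← tG_zero_zero D] at h2
    exact one_ne_zero (tG_inj D h2).1
  obtain ⟨x, y, hxy⟩ := PU_apply D h 1 0
  obtain ⟨x₁, y₁, hxy₁⟩ := PU_apply D h a₁ b₁
  have hne' := PU_ne D hxy₁ hne
  have h3 : β g * tG D x y * (β g)⁻¹ = tG D x₁ y₁ := by
    rw [← hxy, ← hxy₁, ← h1', map_mul, map_mul, map_inv]
  exact fix_of_conj D hne' h3

theorem PU_fix_iff (D : SzData F s) {β : MulAut (SzG F s)} (h : PU D β) (g : SzG F s) :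
    ((β g : SzG F s) : SL4 F) • Pinf F = Pinf F ↔ (g : SL4 F) • Pinf F = Pinf F := by
  constructor
  · intro hg
    have h1 := PU_fix D (PU_symm D h) hg
    rwa [MulAut.inv_apply_self] at h1
  · exact PU_fix D h

theorem PU_center (D : SzData F s) {β : MulAut (SzG F s)} (hU : PU D β) (b : F) :
    ∃ y, β (tG D 0 b) = tG D 0 y := by
  obtain ⟨x, y, hxy⟩ := PU_apply D hU 0 b
  have h1 : tG D x y * tG D x y = 1 := by
    rw [← hxy, ← map_mul, tG_zero_sq D, map_one]
  rw [tG_sq D, ← tG_zero_zero D] at h1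
  have h2 : x ^ (s + 1) = 0 := (tG_inj D h1).2
  have h3 : x = 0 := (pow_eq_zero_iff (show s + 1 ≠ 0 by omega)).mp h2
  exact ⟨y, by rw [hxy, h3]⟩

theorem PU_conj (D : SzData F s) {β : MulAut (SzG F s)} (h : PU D β) {u₀ : SzG F s}
    (hu₀ : u₀ ∈ Usub D) : PU D (MulAut.conj u₀ * β) := by
  intro u hu
  have h4 : (MulAut.conj u₀ * β) u = u₀ * β u * u₀⁻¹ := by
    rw [MulAut.mul_apply, MulAut.conj_apply]
  rw [h4]
  exact mul_mem (mul_mem hu₀ (h u hu)) (inv_mem hu₀)

theorem PU_conj_h (D : SzData F s) {β : MulAut (SzG F s)} (h : PU D β) (d : Fˣ) :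
    PU D (MulAut.conj (hG D d) * β) := by
  intro u hu
  obtain ⟨a, b, hab⟩ := h u hu
  have hab' : β u = tG D a b := Subtype.ext hab
  have h4 : (MulAut.conj (hG D d) * β) u = hG D d * β u * (hG D d)⁻¹ := by
    rw [MulAut.mul_apply, MulAut.conj_apply]
  rw [h4, hab', hG_conj_tG]
  exact mem_U D _ _

/-! ### normalising an automorphism by inner automorphisms -/

theorem norm1 (D : SzData F s) (α : MulAut (SzG F s)) :
    ∃ g₁ : SzG F s, PU D (MulAut.conj g₁ * α) := by
  obtain ⟨P₀, hP₀⟩ := exists_sylow_U D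
  obtain ⟨k, hk⟩ := sylow_conj D (α • P₀)
  refine ⟨k⁻¹, fun u hu => ?_⟩
  have h1 : u ∈ (P₀ : Subgroup (SzG F s)) := by rw [hP₀]; exact hu
  have h2 : α u ∈ ((α • P₀ : Sylow 2 (SzG F s)) : Subgroup (SzG F s)) := by
    rw [Sylow.pointwise_smul_def]
    exact Subgroup.smul_mem_pointwise_smul u α _ h1
  have h3 := (hk _).mp h2
  have h4 : (MulAut.conj k⁻¹ * α) u = k⁻¹ * α u * k := by
    rw [MulAut.mul_apply, MulAut.conj_apply, inv_inv]
  rw [h4]; exact h3

theorem norm3 (D : SzData F s) (β : MulAut (SzG F s)) (h : PU D β) :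
    ∃ u₁ ∈ Usub D, PU D (MulAut.conj u₁ * β) ∧
      (((MulAut.conj u₁ * β) (wG D) : SzG F s) : SL4 F) • Pinf F = P0 F := by
  have hmem : ((β (wG D) : SzG F s) : SL4 F) • Pinf F ∈ ov F s :=
    smul_mem_ov (β (wG D)).2 inf_mem
  rcases mem_ov.mp hmem with hinf | ⟨x, y, hxy⟩
  · exfalso
    have h1 := (PU_fix_iff D h (wG D)).mp hinf
    have h2 : wS D • Pinf F = Pinf F := h1
    rw [wS_inf D] at h2
    exact P0_ne_inf h2
  · have hu : (tG D x y)⁻¹ ∈ Usub D := inv_mem (mem_U D x y)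
    refine ⟨(tG D x y)⁻¹, hu, PU_conj D h hu, ?_⟩
    have h4 : (MulAut.conj (tG D x y)⁻¹ * β) (wG D) = (tG D x y)⁻¹ * β (wG D) * tG D x y := by
      rw [MulAut.mul_apply, MulAut.conj_apply, inv_inv]
    rw [h4]
    show ((tS s x y)⁻¹ * ((β (wG D) : SzG F s) : SL4 F) * tS s x y) • Pinf F = P0 F
    rw [mul_smul, mul_smul, tS_inf, hxy, inv_smul_eq_iff, tS_P0 D]

theorem norm4 (D : SzData F s) (β : MulAut (SzG F s)) (h : PU D β)
    (hw : ((β (wG D) : SzG F s) : SL4 F) • Pinf F = P0 F) : PH D β := by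
  intro c
  have hw2 : β (wG D) * β (wG D) = 1 := by rw [← map_mul, wG_sq D, map_one]
  have hw2' : ((β (wG D) : SzG F s) : SL4 F) * ((β (wG D) : SzG F s) : SL4 F) = 1 :=
    congrArg Subtype.val hw2
  have h1 : ((β (hG D c) : SzG F s) : SL4 F) • Pinf F = Pinf F :=
    PU_fix D h (show ((hG D c : SzG F s) : SL4 F) • Pinf F = Pinf F from hS_inf c)
  have h2 : ((β (wG D * hG D c * wG D) : SzG F s) : SL4 F) • Pinf F = Pinf F := by
    apply PU_fix D h
    rw [wG_hG D]
    exact hS_inf c⁻¹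
  rw [map_mul, map_mul] at h2
  have h2' : (((β (wG D) : SzG F s) : SL4 F) * ((β (hG D c) : SzG F s) : SL4 F) *
      ((β (wG D) : SzG F s) : SL4 F)) • Pinf F = Pinf F := h2
  have h3 := fix_zero_aux hw hw2' h2'
  obtain ⟨c', hc'⟩ := stab_two D (β (hG D c)).2 h1 h3
  exact ⟨c', Subtype.ext hc'⟩

theorem norm5 (D : SzData F s) (β : MulAut (SzG F s))
    (hw : ((β (wG D) : SzG F s) : SL4 F) • Pinf F = P0 F) :
    ∃ d : Fˣ, (MulAut.conj (hG D d) * β) (wG D) = wG D := by
  have hw2 : β (wG D) * β (wG D) = 1 := by rw [← map_mul, wG_sq D, map_one]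
  have hw2' : ((β (wG D) : SzG F s) : SL4 F) * ((β (wG D) : SzG F s) : SL4 F) = 1 :=
    congrArg Subtype.val hw2
  have hw0 : ((β (wG D) : SzG F s) : SL4 F) • P0 F = Pinf F := by
    rw [← hw, smul_smul, hw2', one_smul]
  have h1 : (wS D * ((β (wG D) : SzG F s) : SL4 F)) • Pinf F = Pinf F := by
    rw [mul_smul, hw, wS_zero D]
  have h2 : (wS D * ((β (wG D) : SzG F s) : SL4 F)) • P0 F = P0 F := by
    rw [mul_smul, hw0, wS_inf D]
  obtain ⟨c, hc⟩ := stab_two D (mul_mem (wS_mem D) (β (wG D)).2) h1 h2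
  have hc' : β (wG D) = wG D * hG D c := by
    apply Subtype.ext
    show ((β (wG D) : SzG F s) : SL4 F) = wS D * hS s c
    rw [← hc, ← mul_assoc, wS_mul_self D, one_mul]
  obtain ⟨d, hd⟩ : ∃ d : Fˣ, d * d = c := by
    obtain ⟨d0, hd0⟩ := D.sqrt (c : F)
    have hd0ne : d0 ≠ 0 := by
      rintro rfl
      rw [zero_pow (show 2 ≠ 0 by norm_num)] at hd0
      exact c.ne_zero hd0.symm
    exact ⟨Units.mk0 d0 hd0ne, Units.ext (by rw [Units.val_mul, Units.val_mk0, ← hd0, sq])⟩
  have hcd : d⁻¹ * (c * d⁻¹) = 1 := by rw [← hd]; group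
  refine ⟨d, ?_⟩
  have e1 : hG D d * wG D = wG D * hG D d⁻¹ := by
    rw [← wG_hG D d, ← mul_assoc, ← mul_assoc, wG_sq D, one_mul]
  have e2 : hG D d * (wG D * hG D c) * (hG D d)⁻¹ =
      (hG D d * wG D) * (hG D c * (hG D d)⁻¹) := by group
  rw [MulAut.mul_apply, MulAut.conj_apply, hc', e2, e1, ← map_inv (hG D), mul_assoc,
    ← map_mul (hG D), ← map_mul (hG D), hcd, map_one, mul_one]

theorem normalize (D : SzData F s) (α : MulAut (SzG F s)) :
    ∃ ι ∈ Cfsg.Inn (SzG F s), PU D (ι * α) ∧ PH D (ι * α) ∧ (ι * α) (wG D) = wG D := by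
  obtain ⟨g₁, h1⟩ := norm1 D α
  obtain ⟨u₁, -, h2U, h2w⟩ := norm3 D (MulAut.conj g₁ * α) h1
  obtain ⟨d, h3w⟩ := norm5 D (MulAut.conj u₁ * (MulAut.conj g₁ * α)) h2w
  have h3U : PU D (MulAut.conj (hG D d) * (MulAut.conj u₁ * (MulAut.conj g₁ * α))) :=
    PU_conj_h D h2U d
  have h3w' : (((MulAut.conj (hG D d) * (MulAut.conj u₁ * (MulAut.conj g₁ * α))) (wG D) :
      SzG F s) : SL4 F) • Pinf F = P0 F := by
    rw [h3w]; exact wS_inf D
  refine ⟨MulAut.conj (hG D d) * MulAut.conj u₁ * MulAut.conj g₁, ?_, ?_⟩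
  · exact mul_mem (mul_mem ⟨_, rfl⟩ ⟨_, rfl⟩) ⟨_, rfl⟩
  · rw [mul_assoc, mul_assoc]
    exact ⟨h3U, norm4 D _ h3U h3w', h3w⟩

/-! ### semilinearity -/

theorem semilin (D : SzData F s) (β : MulAut (SzG F s)) (hU : PU D β) (hH : PH D β) :
    ∃ τ : RingAut F, ∃ f₁ : F, ∀ a : F, ∃ y : F, β (tG D a 0) = tG D (f₁ * τ a) y := by
  choose A Y hA using fun a => PU_apply D hU a 0
  choose ρ hρ using hH
  have hA0 : ∀ a, A a = 0 → a = 0 := by
    intro a ha
    have h1 : tG D a 0 * tG D a 0 = 1 := by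
      apply β.injective
      rw [map_mul, hA, ha, tG_sq D, zero_pow (show s + 1 ≠ 0 by omega), tG_zero_zero D, map_one]
    rw [tG_sq D, ← tG_zero_zero D] at h1
    have h2 : a ^ (s + 1) = 0 := (tG_inj D h1).2
    exact (pow_eq_zero_iff (show s + 1 ≠ 0 by omega)).mp h2
  have hadd : ∀ a c, A (a + c) = A a + A c := by
    intro a c
    obtain ⟨y, hy⟩ := PU_center D hU (a ^ s * c + 0)
    have e : (0 : F) + 0 + a ^ s * c = a ^ s * c := by ring
    have h1 : tG D a 0 * tG D c 0 = tG D (a + c) 0 * tG D 0 (a ^ s * c + 0) := by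
      rw [← tG_split D, tG_mul D, e]
    have h2 := congrArg β h1
    rw [map_mul, map_mul, hA, hA, hA, hy, tG_mul D, tG_mul D] at h2
    have h3 := (tG_inj D h2).1
    rw [add_zero] at h3
    exact h3.symm
  have hequiv : ∀ (c : Fˣ) (a : F), A ((c : F) ^ 2 * a) = ((ρ c : Fˣ) : F) ^ 2 * A a := by
    intro c a
    have h1 : hG D c * tG D a 0 * (hG D c)⁻¹ = tG D ((c : F) ^ 2 * a) 0 := by
      rw [hG_conj_tG, mul_zero]
    have h2 := congrArg β h1
    rw [map_mul, map_mul, map_inv, hρ, hA, hA, hG_conj_tG] at h2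
    exact (tG_inj D h2).1.symm
  have hA1 : A 1 ≠ 0 := fun h => one_ne_zero (hA0 1 h)
  have hAz : A 0 = 0 := by
    have h := hadd 0 0
    rw [add_zero] at h
    linear_combination (-1 : F) * h
  have hmul : ∀ x y : F, A (x * y) * A 1 = A x * A y := by
    intro x y
    by_cases hx : x = 0
    · rw [hx, zero_mul, hAz, zero_mul, zero_mul]
    · obtain ⟨c0, hc0⟩ := D.sqrt x
      have hc0ne : c0 ≠ 0 := by
        rintro rfl
        rw [zero_pow (show 2 ≠ 0 by norm_num)] at hc0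
        exact hx hc0.symm
      have e1 := hequiv (Units.mk0 c0 hc0ne) y
      have e2 := hequiv (Units.mk0 c0 hc0ne) 1
      rw [Units.val_mk0, hc0] at e1 e2
      rw [mul_one] at e2
      rw [e1, e2]; ring
  let τ₀ : F →+* F :=
    { toFun := fun a => A a / A 1
      map_one' := div_self hA1
      map_mul' := fun x y => by
        show A (x * y) / A 1 = A x / A 1 * (A y / A 1)
        rw [div_mul_div_comm, ← hmul x y, mul_div_mul_right _ _ hA1]
      map_zero' := by show A 0 / A 1 = 0; rw [hAz, zero_div]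
      map_add' := fun x y => by
        show A (x + y) / A 1 = A x / A 1 + A y / A 1
        rw [hadd, add_div] }
  have hτinj : Function.Injective τ₀ := τ₀.injective
  have hτbij : Function.Bijective τ₀ := ⟨hτinj, Finite.injective_iff_surjective.mp hτinj⟩
  refine ⟨RingEquiv.ofBijective τ₀ hτbij, A 1, fun a => ⟨Y a, ?_⟩⟩
  have e : A a = A 1 * (RingEquiv.ofBijective τ₀ hτbij) a := by
    show A a = A 1 * (A a / A 1)
    field_simp
  rw [hA, ← e]

/-! ### rigidity -/

theorem rigid (D : SzData F s) (β : MulAut (SzG F s)) (hU : PU D β) (hH : PH D β)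
    (hw : β (wG D) = wG D) (f₁ : F) (hf : ∀ a : F, ∃ y : F, β (tG D a 0) = tG D (f₁ * a) y) :
    β = 1 := by
  choose g hg using hf
  choose ρ hρ using hH
  choose φ hφ using PU_center D hU
  have hf1 : f₁ ≠ 0 := by
    intro h0
    have h1 : tG D (1 : F) 0 * tG D 1 0 = 1 := by
      apply β.injective
      rw [map_mul, hg, h0, zero_mul, tG_sq D, zero_pow (show s + 1 ≠ 0 by omega),
        tG_zero_zero D, map_one]
    rw [tG_sq D, ← tG_zero_zero D, one_pow] at h1
    exact one_ne_zero (tG_inj D h1).2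
  have hsq : ∀ a : F, φ (a ^ (s + 1)) = (f₁ * a) ^ (s + 1) := by
    intro a
    have h1 : β (tG D a 0 * tG D a 0) = β (tG D a 0) * β (tG D a 0) := map_mul _ _ _
    rw [tG_sq D, hφ, hg, tG_sq D] at h1
    exact tG_zero_inj D h1
  have hρ1 : ∀ c : Fˣ, ρ c = c := by
    intro c
    have h1 : hG D c * tG D 1 0 * (hG D c)⁻¹ = tG D ((c : F) ^ 2 * 1) 0 := by
      rw [hG_conj_tG, mul_zero]
    have h2 := congrArg β h1
    rw [map_mul, map_mul, map_inv, hρ, hg, hg, hG_conj_tG] at h2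
    have h3 := (tG_inj D h2).1
    have h4 : ((ρ c : Fˣ) : F) ^ 2 = (c : F) ^ 2 := by
      apply mul_left_cancel₀ hf1
      linear_combination h3
    exact Units.ext (D.sq_inj h4)
  have hkey : ∀ b : F, b ≠ 0 → φ b / φ b ^ s = f₁ * (b / b ^ s) ∧ g (b / b ^ s) = 0 := by
    intro b hb
    have hφb : φ b ≠ 0 := by
      intro h0
      have h1 : tG D 0 b = 1 := by
        apply β.injective
        rw [hφ, h0, tG_zero_zero D, map_one]
      rw [← tG_zero_zero D] at h1
      exact hb (tG_zero_inj D h1)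
    have hk : ((wG D * (tG D (b / b ^ s) 0)⁻¹ * wG D * tG D 0 b * wG D : SzG F s) : SL4 F) •
        Pinf F = Pinf F := by
      show (wS D * (tS s (b / b ^ s) 0)⁻¹ * wS D * tS s 0 b * wS D) • Pinf F = Pinf F
      have hne : ¬ ((0 : F) = 0 ∧ b = 0) := fun h => hb h.2
      have hfz : fz s (0 : F) b = b ^ s := by
        unfold fz; rw [zero_mul, zero_pow (show s + 2 ≠ 0 by omega), zero_add, zero_add]
      have e1 : (tS s (b / b ^ s) 0)⁻¹ • Paff s (b / b ^ s) 0 = P0 F := by
        rw [inv_smul_eq_iff, tS_P0 D]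
      rw [mul_smul, mul_smul, mul_smul, mul_smul, wS_inf D, tS_P0 D, wS_aff D hne, hfz, zero_div,
        e1, wS_zero D]
    have hk2 := PU_fix D hU hk
    rw [map_mul, map_mul, map_mul, map_mul, map_inv, hw, hφ, hg] at hk2
    have hk3 : (wS D * (tS s (f₁ * (b / b ^ s)) (g (b / b ^ s)))⁻¹ * wS D * tS s 0 (φ b) *
        wS D) • Pinf F = Pinf F := hk2
    have hne' : ¬ ((0 : F) = 0 ∧ φ b = 0) := fun h => hφb h.2
    have hfz' : fz s (0 : F) (φ b) = φ b ^ s := by
      unfold fz; rw [zero_mul, zero_pow (show s + 2 ≠ 0 by omega), zero_add, zero_add]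
    rw [mul_smul, mul_smul, mul_smul, mul_smul, wS_inf D, tS_P0 D, wS_aff D hne', hfz',
      zero_div] at hk3
    have h6 : wS D • wS D • (tS s (f₁ * (b / b ^ s)) (g (b / b ^ s)))⁻¹ •
        Paff s (φ b / φ b ^ s) 0 = wS D • Pinf F := congrArg (fun p => wS D • p) hk3
    rw [smul_smul, wS_mul_self D, one_smul, wS_inf D, inv_smul_eq_iff, tS_P0 D] at h6
    obtain ⟨h7, h8⟩ := Paff_inj h6
    exact ⟨h7, h8.symm⟩
  have hf1' : f₁ = 1 := by
    have h1 := (hkey 1 one_ne_zero).1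
    have h2 := hsq 1
    rw [one_pow, mul_one] at h2
    rw [h2, one_pow, div_one, mul_one] at h1
    have h3 : (f₁ ^ (s + 1)) ^ s = f₁ ^ 2 * f₁ ^ s := by
      rw [← pow_mul, show (s + 1) * s = s * s + s by ring, pow_add, pow_mul, D.sq]
    rw [h3] at h1
    have hne : f₁ ^ 2 * f₁ ^ s ≠ 0 := mul_ne_zero (pow_ne_zero _ hf1) (pow_ne_zero _ hf1)
    rw [div_eq_iff hne, pow_succ] at h1
    have h5 : f₁ ^ 2 = 1 := by
      apply mul_left_cancel₀ (mul_ne_zero (pow_ne_zero s hf1) hf1)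
      linear_combination -h1
    exact D.one_of_sq h5
  have hg0 : ∀ a : F, g a = 0 := by
    intro a
    by_cases ha : a = 0
    · have h1 := hg 0
      rw [tG_zero_zero D, map_one, mul_zero, ← tG_zero_zero D] at h1
      rw [ha]
      exact ((tG_inj D h1).2).symm
    · have hb : (a ^ (s + 1))⁻¹ ≠ 0 := inv_ne_zero (pow_ne_zero _ ha)
      have h1 := (hkey _ hb).2
      have h2 : (a ^ (s + 1))⁻¹ / ((a ^ (s + 1))⁻¹) ^ s = a := by
        have h3 : (a ^ (s + 1)) ^ s = a ^ 2 * a ^ s := by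
          rw [← pow_mul, show (s + 1) * s = s * s + s by ring, pow_add, pow_mul, D.sq]
        rw [inv_pow, h3, pow_succ, inv_div_inv,
          div_eq_iff (mul_ne_zero (pow_ne_zero _ ha) ha)]
        ring
      rw [h2] at h1
      exact h1
  have hφ1 : ∀ b : F, φ b = b := by
    intro b
    by_cases hb : b = 0
    · have h1 := hφ 0
      rw [tG_zero_zero D, map_one, ← tG_zero_zero D] at h1
      rw [hb]; exact (tG_zero_inj D h1).symm
    · obtain ⟨a, ha⟩ := D.exists_root hb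
      have h1 := hsq a
      rw [ha, hf1', one_mul, ha] at h1
      exact h1
  have ht : ∀ a b : F, β (tG D a b) = tG D a b := by
    intro a b
    rw [tG_split D a b 0, map_mul, hg, hφ, hg0, hφ1, hf1', one_mul]
  have hh : ∀ c : Fˣ, β (hG D c) = hG D c := fun c => by rw [hρ, hρ1]
  apply MulEquiv.ext
  intro x
  show β x = x
  rcases SzG_cases D x.2 with ⟨a, b, c, hx⟩ | ⟨a, b, a', b', c, hx⟩
  · have hx' : x = tG D a b * hG D c := Subtype.ext hx
    rw [hx', map_mul, ht, hh]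
  · have hx' : x = tG D a b * wG D * (tG D a' b' * hG D c) := Subtype.ext hx
    rw [hx', map_mul, map_mul, map_mul, ht, ht, hh, hw]

/-! ### the automorphism group -/

/-- Every automorphism of `Sz(q)` is inner times a field automorphism. -/
theorem aut_decomp (D : SzData F s) (α : MulAut (SzG F s)) :
    ∃ ι ∈ Cfsg.Inn (SzG F s), ∃ τ : RingAut F, ι * α = fAutHom D τ := by
  obtain ⟨ι, hι, hU, hH, hw⟩ := normalize D α
  obtain ⟨τ, f₁, hτ⟩ := semilin D (ι * α) hU hH
  refine ⟨ι, hι, τ, ?_⟩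
  have e : (fAutHom D τ)⁻¹ = fAutHom D (RingEquiv.symm τ) := (map_inv (fAutHom D) τ).symm
  have hU' : PU D (fAutHom D (RingEquiv.symm τ) * (ι * α)) := by
    intro u hu
    obtain ⟨a, b, hab⟩ := hU u hu
    have hab' : (ι * α) u = tG D a b := Subtype.ext hab
    rw [MulAut.mul_apply, hab', fAutHom_apply, fMap_tG]
    exact mem_U D _ _
  have hH' : PH D (fAutHom D (RingEquiv.symm τ) * (ι * α)) := by
    intro c
    obtain ⟨c', hc'⟩ := hH c
    have h1 : (fAutHom D (RingEquiv.symm τ) * (ι * α)) (hG D c) =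
        fMap D (RingEquiv.symm τ) (hG D c') := by
      rw [MulAut.mul_apply, hc', fAutHom_apply]
    rw [h1, fMap_hG]
    exact ⟨_, rfl⟩
  have hw' : (fAutHom D (RingEquiv.symm τ) * (ι * α)) (wG D) = wG D := by
    rw [MulAut.mul_apply, hw, fAutHom_apply, fMap_wG]
  have hf' : ∀ a : F, ∃ y : F, (fAutHom D (RingEquiv.symm τ) * (ι * α)) (tG D a 0) =
      tG D ((RingEquiv.symm τ) f₁ * a) y := by
    intro a
    obtain ⟨y, hy⟩ := hτ a
    refine ⟨(RingEquiv.symm τ) y, ?_⟩
    rw [MulAut.mul_apply, hy, fAutHom_apply, fMap_tG, map_mul, RingEquiv.symm_apply_apply]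
  have hγ := rigid D _ hU' hH' hw' ((RingEquiv.symm τ) f₁) hf'
  rw [← e] at hγ
  exact (inv_mul_eq_one.mp hγ).symm

/-- A field automorphism inducing an inner automorphism is trivial. -/
theorem fAut_inner (D : SzData F s) (σ : RingAut F) (h : fAutHom D σ ∈ Cfsg.Inn (SzG F s)) :
    σ = 1 := by
  obtain ⟨k, hk⟩ := h
  have hkx : ∀ x : SzG F s, k * x * k⁻¹ = fMap D σ x := by
    intro x
    have h1 : (MulAut.conj k) x = (fAutHom D σ) x := by rw [hk]
    rw [MulAut.conj_apply] at h1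
    exact h1
  have h1 : (k : SL4 F) • Pinf F = Pinf F := by
    have h2 := hkx (tG D 1 0)
    rw [fMap_tG] at h2
    refine fix_of_conj D ?_ h2
    rintro ⟨h3, -⟩
    rw [map_one] at h3
    exact one_ne_zero h3
  have hkw : k * wG D * k⁻¹ = wG D := by rw [hkx, fMap_wG]
  have hkw' : k * wG D = wG D * k := mul_inv_eq_iff_eq_mul.mp hkw
  have h2 : (k : SL4 F) • P0 F = P0 F := by
    have h3 : (k : SL4 F) * wS D = wS D * (k : SL4 F) := congrArg Subtype.val hkw'
    rw [← wS_inf D, smul_smul, h3, mul_smul, h1]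
  obtain ⟨c, hc⟩ := stab_two D k.2 h1 h2
  have hc' : k = hG D c := Subtype.ext hc
  subst hc'
  have h3 : wG D * hG D c * wG D = hG D c := by
    calc wG D * hG D c * wG D = wG D * (hG D c * wG D) := mul_assoc _ _ _
      _ = wG D * (wG D * hG D c) := by rw [hkw']
      _ = hG D c := by rw [← mul_assoc, wG_sq D, one_mul]
  rw [wG_hG D] at h3
  have h4 : c⁻¹ = c := hG_inj D h3
  have h6 : c * c = 1 := by
    calc c * c = c⁻¹ * c := by rw [h4]
      _ = 1 := inv_mul_cancel c
  have h7 : (c : F) * (c : F) = 1 := by rw [← Units.val_mul, h6, Units.val_one]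
  have hc1 : c = 1 := Units.ext (D.one_of_sq (by rw [sq]; exact h7))
  apply RingEquiv.ext
  intro a
  have h5 := hkx (tG D a 0)
  rw [hc1, map_one, one_mul, inv_one, mul_one, fMap_tG] at h5
  exact ((tG_inj D h5).1).symm

/-- `Out(Sz(q))` is in bijection with the automorphism group of the field. -/
theorem card_out_SzG (D : SzData F s) :
    Nat.card (Cfsg.Out (SzG F s)) = Nat.card (RingAut F) := by
  let Φ : RingAut F →* Cfsg.Out (SzG F s) :=
    (QuotientGroup.mk' (Cfsg.Inn (SzG F s))).comp (fAutHom D)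
  have hinj : Function.Injective Φ := by
    rw [injective_iff_map_eq_one]
    intro σ hσ
    have h1 : fAutHom D σ ∈ Cfsg.Inn (SzG F s) := (QuotientGroup.eq_one_iff _).mp hσ
    exact fAut_inner D σ h1
  have hsurj : Function.Surjective Φ := by
    intro x
    obtain ⟨α, rfl⟩ := QuotientGroup.mk_surjective x
    obtain ⟨ι, hι, τ, h⟩ := aut_decomp D α
    refine ⟨τ, ?_⟩
    show ((fAutHom D τ : MulAut (SzG F s)) : Cfsg.Out (SzG F s)) = (α : Cfsg.Out (SzG F s))
    rw [← h, QuotientGroup.mk_mul, (QuotientGroup.eq_one_iff ι).mpr hι, one_mul]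
  exact (Nat.card_congr (Equiv.ofBijective Φ ⟨hinj, hsurj⟩)).symm

/-- The number of automorphisms of a field of order `2 ^ (2m+1)`. -/
theorem card_ringAut (D : SzData F s) {m : ℕ} (hF : Fintype.card F = 2 ^ (2 * m + 1)) :
    Nat.card (RingAut F) = 2 * m + 1 := by
  haveI : CharP F 2 := CharTwo.of_one_ne_zero_of_two_eq_zero one_ne_zero D.two
  haveI : Fact (Nat.Prime 2) := ⟨Nat.prime_two⟩
  letI : Algebra (ZMod 2) F := ZMod.algebra F 2
  have hcomm : ∀ (f : F ≃+* F) (x : ZMod 2),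
      f (algebraMap (ZMod 2) F x) = algebraMap (ZMod 2) F x := by
    intro f x
    have h : (f : F →+* F).comp (algebraMap (ZMod 2) F) = algebraMap (ZMod 2) F :=
      Subsingleton.elim _ _
    exact RingHom.congr_fun h x
  let E : (F ≃ₐ[ZMod 2] F) ≃ RingAut F :=
    { toFun := fun f => f.toRingEquiv
      invFun := fun f => AlgEquiv.ofRingEquiv (f := f) (hcomm f)
      left_inv := fun f => by ext x; rfl
      right_inv := fun f => by ext x; rfl }
  rw [← Nat.card_congr E, IsGalois.card_aut_eq_finrank]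
  have h1 : Fintype.card F = Fintype.card (ZMod 2) ^ Module.finrank (ZMod 2) F :=
    Module.card_eq_pow_finrank
  rw [hF, ZMod.card] at h1
  exact (Nat.pow_right_injective (le_refl 2) h1).symm

/-- Isomorphic groups have outer automorphism groups of the same order. -/
theorem card_out_congr {G G' : Type*} [Group G] [Group G'] (e : G ≃* G') :
    Nat.card (Cfsg.Out G) = Nat.card (Cfsg.Out G') := by
  have h : (Cfsg.Inn G).map (MulAut.congr e : MulAut G →* MulAut G') = Cfsg.Inn G' := by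
    ext φ
    constructor
    · rintro ⟨_, ⟨g, rfl⟩, rfl⟩
      refine ⟨e g, ?_⟩
      apply MulEquiv.ext
      intro x
      simp [MulAut.congr, MulAut.conj_apply]
    · rintro ⟨g', rfl⟩
      refine ⟨MulAut.conj (e.symm g'), ⟨_, rfl⟩, ?_⟩
      apply MulEquiv.ext
      intro x
      simp [MulAut.congr, MulAut.conj_apply]
  exact Nat.card_congr (QuotientGroup.congr (Cfsg.Inn G) (Cfsg.Inn G') (MulAut.congr e) h).toEquiv

/-- The outer automorphism group of the Suzuki group of Lie type has order `2m + 1`. -/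
theorem out_lie {m : ℕ} (hm : 1 ≤ m) (hF : Fintype.card F = 2 ^ (2 * m + 1)) :
    Nat.card (Cfsg.Out ↥(Cfsg.Lie.Sz F (2 ^ (m + 1)))) = 2 * m + 1 := by
  have D := szData hm hF
  rw [← card_out_congr (lieEquiv D), card_out_SzG D, card_ringAut D hF]

end Cfsg.Agent.Helper6.SzOut
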