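import Mathlib
import Cfsg.Prelude.Def_Sz
import Cfsg.Agent.Helper6.SzOut

set_option autoImplicit false

/-!
Subfield subgroups of the Suzuki group `Sz(q)`: every injective homomorphism `Sz(s) → Sz(q)` is, up to
conjugacy, induced by a field embedding; hence subgroups of `Sz(q)` isomorphic to `Sz(s)` are conjugate.
-/

namespace Cfsg.Agent.Helper6.SzSub

open Matrix Cfsg.Agent.Helper6.Sz Cfsg.Agent.Helper6.SzOut
open scoped Pointwise

variable {F : Type*} [Field F] [Fintype F] {s : ℕ} {K : Type*} [Field K] [Fintype K] {r : ℕ}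

/-! ### field embeddings -/

/-- entrywise action of a field embedding on `SL₄` -/
def slMapH (τ : K →+* F) : SL4 K →* SL4 F := Matrix.SpecialLinearGroup.map τ

theorem slMapH_apply (τ : K →+* F) (g : SL4 K) (i j : Fin 4) :
    (slMapH τ g : Matrix (Fin 4) (Fin 4) F) i j = τ ((g : Matrix (Fin 4) (Fin 4) K) i j) := rfl

theorem slMapH_tS (τ : K →+* F) (hτ : ∀ x : K, τ x ^ s = τ x ^ r) (a b : K) :
    slMapH τ (tS r a b) = tS s (τ a) (τ b) := by
  apply Subtype.ext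
  ext i j
  rw [slMapH_apply]
  show τ (tM r a b i j) = tM s (τ a) (τ b) i j
  have h1 := hτ a
  have h2 := hτ b
  fin_cases i <;> fin_cases j <;>
    simp [tM, fz, map_add, map_mul, map_pow, pow_add, pow_one, h1, h2]

theorem slMapH_hS (τ : K →+* F) (hτ : ∀ x : K, τ x ^ s = τ x ^ r) (c : Kˣ) :
    slMapH τ (hS r c) = hS s (Units.map τ.toMonoidHom c) := by
  apply Subtype.ext
  ext i j
  rw [slMapH_apply]
  show τ (hM r (c : K) i j) = hM s (τ (c : K)) i j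
  have h1 := hτ (c : K)
  have h3 : (τ (c : K))⁻¹ ^ s = (τ (c : K))⁻¹ ^ r := by
    rw [← map_inv₀]; exact hτ _
  fin_cases i <;> fin_cases j <;>
    simp [hM, map_pow, map_inv₀, pow_add, h1, h3]

theorem slMapH_wS (D : SzData F s) (DK : SzData K r) (τ : K →+* F) :
    slMapH τ (wS DK) = wS D := by
  apply Subtype.ext
  ext i j
  rw [slMapH_apply]
  show τ (wM K i j) = wM F i j
  fin_cases i <;> fin_cases j <;> simp [wM]

theorem comp_of (hcomp : ∀ y : F, y ^ Fintype.card K = y → y ^ s = y ^ r) (τ : K →+* F) (x : K) :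
    τ x ^ s = τ x ^ r :=
  hcomp _ (by rw [← map_pow, FiniteField.pow_card])

theorem slMapH_mem (D : SzData F s) (DK : SzData K r)
    (hcomp : ∀ y : F, y ^ Fintype.card K = y → y ^ s = y ^ r) (τ : K →+* F) {g : SL4 K}
    (hg : g ∈ SzG K r) : slMapH τ g ∈ SzG F s := by
  have hτ := comp_of hcomp τ
  rcases SzG_cases DK hg with ⟨a, b, c, rfl⟩ | ⟨a, b, a', b', c, rfl⟩
  · rw [map_mul, slMapH_tS τ hτ, slMapH_hS τ hτ]
    exact mul_mem (tS_mem D _ _) (hS_mem D _)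
  · rw [map_mul, map_mul, map_mul, slMapH_tS τ hτ, slMapH_tS τ hτ, slMapH_hS τ hτ,
      slMapH_wS D DK]
    exact mul_mem (mul_mem (tS_mem D _ _) (wS_mem D)) (mul_mem (tS_mem D _ _) (hS_mem D _))

/-- the embedding `Sz(K) → Sz(F)` induced by a field embedding -/
def subMap (D : SzData F s) (DK : SzData K r)
    (hcomp : ∀ y : F, y ^ Fintype.card K = y → y ^ s = y ^ r) (τ : K →+* F) :
    SzG K r →* SzG F s :=
  ((slMapH τ).comp (SzG K r).subtype).codRestrict (SzG F s)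
    (fun g => slMapH_mem D DK hcomp τ g.2)

theorem subMap_tG (D : SzData F s) (DK : SzData K r)
    (hcomp : ∀ y : F, y ^ Fintype.card K = y → y ^ s = y ^ r) (τ : K →+* F) (a b : K) :
    subMap D DK hcomp τ (tG DK a b) = tG D (τ a) (τ b) :=
  Subtype.ext (slMapH_tS τ (comp_of hcomp τ) a b)

theorem subMap_hG (D : SzData F s) (DK : SzData K r)
    (hcomp : ∀ y : F, y ^ Fintype.card K = y → y ^ s = y ^ r) (τ : K →+* F) (c : Kˣ) :
    subMap D DK hcomp τ (hG DK c) = hG D (Units.map τ.toMonoidHom c) :=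
  Subtype.ext (slMapH_hS τ (comp_of hcomp τ) c)

theorem subMap_wG (D : SzData F s) (DK : SzData K r)
    (hcomp : ∀ y : F, y ^ Fintype.card K = y → y ^ s = y ^ r) (τ : K →+* F) :
    subMap D DK hcomp τ (wG DK) = wG D :=
  Subtype.ext (slMapH_wS D DK τ)

theorem subMap_inj (D : SzData F s) (DK : SzData K r)
    (hcomp : ∀ y : F, y ^ Fintype.card K = y → y ^ s = y ^ r) (τ : K →+* F) :
    Function.Injective (subMap D DK hcomp τ) := by
  intro x y h
  apply Subtype.ext; apply Subtype.ext; ext i j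
  have h1 : τ (((x : SL4 K) : Matrix (Fin 4) (Fin 4) K) i j) =
      τ (((y : SL4 K) : Matrix (Fin 4) (Fin 4) K) i j) :=
    congrArg (fun z : SzG F s => ((z : SL4 F) : Matrix (Fin 4) (Fin 4) F) i j) h
  exact τ.injective h1

/-- The images of two field embeddings coincide. -/
theorem range_indep (τ₁ τ₂ : K →+* F) (x : K) : ∃ y : K, τ₁ y = τ₂ x := by
  classical
  obtain ⟨q, hq⟩ : ∃ q : ℕ, q = Fintype.card K := ⟨_, rfl⟩
  have hq1 : 1 < q := by rw [hq]; exact Fintype.one_lt_card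
  have hp0 : (Polynomial.X ^ q - Polynomial.X : Polynomial F) ≠ 0 :=
    FiniteField.X_pow_card_sub_X_ne_zero F hq1
  have hdeg : (Polynomial.X ^ q - Polynomial.X : Polynomial F).natDegree = q :=
    FiniteField.X_pow_card_sub_X_natDegree_eq F hq1
  have hroot : ∀ (τ : K →+* F) (z : K),
      τ z ∈ (Polynomial.X ^ q - Polynomial.X : Polynomial F).roots.toFinset := by
    intro τ z
    rw [Multiset.mem_toFinset, Polynomial.mem_roots hp0, Polynomial.IsRoot.def,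
      Polynomial.eval_sub, Polynomial.eval_pow, Polynomial.eval_X, ← map_pow, hq,
      FiniteField.pow_card, sub_self]
  have hsub : Finset.univ.image τ₁ ⊆
      (Polynomial.X ^ q - Polynomial.X : Polynomial F).roots.toFinset := by
    intro y hy
    obtain ⟨z, -, rfl⟩ := Finset.mem_image.mp hy
    exact hroot τ₁ z
  have hcard : (Finset.univ.image τ₁).card = q := by
    rw [Finset.card_image_of_injective _ τ₁.injective, Finset.card_univ, hq]
  have hle : (Polynomial.X ^ q - Polynomial.X : Polynomial F).roots.toFinset.card ≤ q := by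
    calc (Polynomial.X ^ q - Polynomial.X : Polynomial F).roots.toFinset.card
        ≤ Multiset.card (Polynomial.X ^ q - Polynomial.X : Polynomial F).roots :=
          Multiset.toFinset_card_le _
      _ ≤ (Polynomial.X ^ q - Polynomial.X : Polynomial F).natDegree := Polynomial.card_roots' _
      _ = q := hdeg
  have heq : Finset.univ.image τ₁ =
      (Polynomial.X ^ q - Polynomial.X : Polynomial F).roots.toFinset :=
    Finset.eq_of_subset_of_card_le hsub (by rw [hcard]; exact hle)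
  have h2 := hroot τ₂ x
  rw [← heq] at h2
  obtain ⟨y, -, hy⟩ := Finset.mem_image.mp h2
  exact ⟨y, hy⟩

theorem subMap_range (D : SzData F s) (DK : SzData K r)
    (hcomp : ∀ y : F, y ^ Fintype.card K = y → y ^ s = y ^ r) (τ₁ τ₂ : K →+* F) (x : SzG K r) :
    ∃ x' : SzG K r, subMap D DK hcomp τ₁ x' = subMap D DK hcomp τ₂ x := by
  choose σ hσ using range_indep τ₁ τ₂
  have hσu : ∀ c : Kˣ, ∃ c' : Kˣ,
      Units.map τ₁.toMonoidHom c' = Units.map τ₂.toMonoidHom c := by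
    intro c
    have hne : σ (c : K) ≠ 0 := by
      intro h0
      have h1 := hσ (c : K)
      rw [h0, map_zero] at h1
      exact (map_ne_zero τ₂).mpr c.ne_zero h1.symm
    exact ⟨Units.mk0 _ hne, Units.ext (hσ c)⟩
  rcases SzG_cases DK x.2 with ⟨a, b, c, hx⟩ | ⟨a, b, a', b', c, hx⟩
  · have hx' : x = tG DK a b * hG DK c := Subtype.ext hx
    obtain ⟨c', hc'⟩ := hσu c
    refine ⟨tG DK (σ a) (σ b) * hG DK c', ?_⟩
    rw [hx']
    simp only [map_mul, subMap_tG, subMap_hG, hσ, hc']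
  · have hx' : x = tG DK a b * wG DK * (tG DK a' b' * hG DK c) := Subtype.ext hx
    obtain ⟨c', hc'⟩ := hσu c
    refine ⟨tG DK (σ a) (σ b) * wG DK * (tG DK (σ a') (σ b') * hG DK c'), ?_⟩
    rw [hx']
    simp only [map_mul, subMap_tG, subMap_hG, subMap_wG, hσ, hc']

/-! ### homomorphisms mapping translations to translations -/

/-- conjugate of a homomorphism -/
def cj (g : SzG F s) (ψ : SzG K r →* SzG F s) : SzG K r →* SzG F s :=
  (MulAut.conj g).toMonoidHom.comp ψ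

theorem cj_apply (g : SzG F s) (ψ : SzG K r →* SzG F s) (x : SzG K r) :
    cj g ψ x = g * ψ x * g⁻¹ := rfl

theorem cj_inj (g : SzG F s) {ψ : SzG K r →* SzG F s} (h : Function.Injective ψ) :
    Function.Injective (cj g ψ) := (MulAut.conj g).injective.comp h

/-- `ψ` maps translations to translations -/
def QU (D : SzData F s) (DK : SzData K r) (ψ : SzG K r →* SzG F s) : Prop :=
  ∀ a b : K, ∃ a' b' : F, ψ (tG DK a b) = tG D a' b'

theorem QU_cj (D : SzData F s) (DK : SzData K r) {ψ : SzG K r →* SzG F s} (hU : QU D DK ψ)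
    {u₀ : SzG F s} (hu₀ : u₀ ∈ Usub D) : QU D DK (cj u₀ ψ) := by
  intro a b
  obtain ⟨a', b', h⟩ := hU a b
  have hmem : u₀ * tG D a' b' * u₀⁻¹ ∈ Usub D :=
    mul_mem (mul_mem hu₀ (mem_U D a' b')) (inv_mem hu₀)
  obtain ⟨a'', b'', h2⟩ := hmem
  exact ⟨a'', b'', Subtype.ext (by rw [cj_apply, h]; exact h2)⟩

theorem QU_cj_h (D : SzData F s) (DK : SzData K r) {ψ : SzG K r →* SzG F s} (hU : QU D DK ψ)
    (d : Fˣ) : QU D DK (cj (hG D d) ψ) := by
  intro a b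
  obtain ⟨a', b', h⟩ := hU a b
  exact ⟨_, _, by rw [cj_apply, h, hG_conj_tG]⟩

theorem QU_fix (D : SzData F s) (DK : SzData K r) {ψ : SzG K r →* SzG F s}
    (hinj : Function.Injective ψ) (hU : QU D DK ψ) {g : SzG K r}
    (hg : (g : SL4 K) • Pinf K = Pinf K) : ((ψ g : SzG F s) : SL4 F) • Pinf F = Pinf F := by
  obtain ⟨a₁, b₁, h1⟩ := U_conj_mem DK hg (mem_U DK 1 0)
  have h1' : g * tG DK 1 0 * g⁻¹ = tG DK a₁ b₁ := Subtype.ext h1
  have hne : ¬ (a₁ = 0 ∧ b₁ = 0) := by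
    rintro ⟨rfl, rfl⟩
    rw [tG_zero_zero DK] at h1'
    have h2 : tG DK (1 : K) 0 = 1 := conj_eq_one_iff.mp h1'
    rw [← tG_zero_zero DK] at h2
    exact one_ne_zero (tG_inj DK h2).1
  obtain ⟨x, y, hxy⟩ := hU 1 0
  obtain ⟨x₁, y₁, hxy₁⟩ := hU a₁ b₁
  have hne' : ¬ (x₁ = 0 ∧ y₁ = 0) := by
    rintro ⟨rfl, rfl⟩
    rw [tG_zero_zero D, ← map_one ψ] at hxy₁
    have h3 := hinj hxy₁
    rw [← tG_zero_zero DK] at h3
    exact hne (tG_inj DK h3)
  have h3 : ψ g * tG D x y * (ψ g)⁻¹ = tG D x₁ y₁ := by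
    rw [← hxy, ← hxy₁, ← h1', map_mul, map_mul, map_inv]
  exact fix_of_conj D hne' h3

theorem QU_center (D : SzData F s) (DK : SzData K r) {ψ : SzG K r →* SzG F s}
    (hU : QU D DK ψ) (b : K) : ∃ y, ψ (tG DK 0 b) = tG D 0 y := by
  obtain ⟨x, y, hxy⟩ := hU 0 b
  have h1 : tG D x y * tG D x y = 1 := by
    rw [← hxy, ← map_mul, tG_zero_sq DK, map_one]
  rw [tG_sq D, ← tG_zero_zero D] at h1
  have h2 : x ^ (s + 1) = 0 := (tG_inj D h1).2
  have h3 : x = 0 := (pow_eq_zero_iff (show s + 1 ≠ 0 by omega)).mp h2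
  exact ⟨y, by rw [hxy, h3]⟩

/-! ### normalisation -/

theorem hnorm1 (D : SzData F s) (DK : SzData K r) (ψ : SzG K r →* SzG F s) :
    ∃ g₁ : SzG F s, QU D DK (cj g₁ ψ) := by
  haveI : Fact (Nat.Prime 2) := ⟨Nat.prime_two⟩
  have hUp : IsPGroup 2 (Usub DK) := fun u => ⟨2, tU_pow_four DK u⟩
  have hUp' : IsPGroup 2 ((Usub DK).map ψ) := hUp.map ψ
  obtain ⟨P, hP⟩ := hUp'.exists_le_sylow
  obtain ⟨k, hk⟩ := sylow_conj D P
  refine ⟨k⁻¹, fun a b => ?_⟩
  have h1 : ψ (tG DK a b) ∈ (P : Subgroup (SzG F s)) :=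
    hP (Subgroup.mem_map_of_mem ψ (mem_U DK a b))
  obtain ⟨a', b', h3⟩ := (hk _).mp h1
  exact ⟨a', b', Subtype.ext (by rw [cj_apply, inv_inv]; exact h3)⟩

theorem w_not_fix (D : SzData F s) (DK : SzData K r) {ψ : SzG K r →* SzG F s}
    (hinj : Function.Injective ψ) (hU : QU D DK ψ) :
    ((ψ (wG DK) : SzG F s) : SL4 F) • Pinf F ≠ Pinf F := by
  intro hfix
  obtain ⟨a, b, c, habc⟩ := stab_one D (ψ (wG DK)).2 hfix
  have hw2 : ψ (wG DK) * ψ (wG DK) = 1 := by rw [← map_mul, wG_sq DK, map_one]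
  have hw2' : (tS s a b * hS s c) * (tS s a b * hS s c) = 1 := by
    rw [← habc]; exact congrArg Subtype.val hw2
  obtain ⟨a'', b'', e1⟩ := tS_hS_mul D a b a b c c
  rw [e1] at hw2'
  have hone : (1 : SL4 F) = tS s 0 0 * hS s 1 := by rw [tS_zero D, hS_one, mul_one]
  rw [hone] at hw2'
  obtain ⟨-, -, hcc⟩ := tS_hS_inj D hw2'
  have hc1 : c = 1 := by
    have h7 : (c : F) * (c : F) = 1 := by rw [← Units.val_mul, hcc, Units.val_one]
    exact Units.ext (D.one_of_sq (by rw [sq]; exact h7))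
  have hψw : ψ (wG DK) = tG D a b := by
    apply Subtype.ext
    rw [habc, hc1, hS_one, mul_one]; rfl
  have ha : a = 0 := by
    have h1 : tG D a b * tG D a b = 1 := by rw [← hψw]; exact hw2
    rw [tG_sq D, ← tG_zero_zero D] at h1
    exact (pow_eq_zero_iff (show s + 1 ≠ 0 by omega)).mp (tG_inj D h1).2
  obtain ⟨x, y, hxy⟩ := hU 0 1
  have hcomm : ψ (wG DK * tG DK 0 1) = ψ (tG DK 0 1 * wG DK) := by
    rw [map_mul, map_mul, hψw, hxy, ha, tG_mul D, tG_mul D, zero_pow D.s_ne]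
    ring_nf
  have h5 := hinj hcomm
  have h6 : wG DK * tG DK 0 1 * (wG DK)⁻¹ = tG DK 0 1 := by rw [h5]; group
  have h7 := fix_of_conj DK (fun h => one_ne_zero h.2) h6
  have h8 : wS DK • Pinf K = Pinf K := h7
  rw [wS_inf DK] at h8
  exact P0_ne_inf h8

theorem hnorm3 (D : SzData F s) (DK : SzData K r) {ψ : SzG K r →* SzG F s}
    (hinj : Function.Injective ψ) (hU : QU D DK ψ) :
    ∃ u₁ ∈ Usub D, (((cj u₁ ψ) (wG DK) : SzG F s) : SL4 F) • Pinf F = P0 F := by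
  have hmem : ((ψ (wG DK) : SzG F s) : SL4 F) • Pinf F ∈ ov F s :=
    smul_mem_ov (ψ (wG DK)).2 inf_mem
  rcases mem_ov.mp hmem with hinf | ⟨x, y, hxy⟩
  · exact absurd hinf (w_not_fix D DK hinj hU)
  · refine ⟨(tG D x y)⁻¹, inv_mem (mem_U D x y), ?_⟩
    show ((tS s x y)⁻¹ * ((ψ (wG DK) : SzG F s) : SL4 F) * (tS s x y)⁻¹⁻¹) • Pinf F = P0 F
    rw [inv_inv, mul_smul, mul_smul, tS_inf, hxy, inv_smul_eq_iff, tS_P0 D]

theorem hnorm4 (D : SzData F s) (DK : SzData K r) {ψ : SzG K r →* SzG F s}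
    (hinj : Function.Injective ψ) (hU : QU D DK ψ)
    (hw : ((ψ (wG DK) : SzG F s) : SL4 F) • Pinf F = P0 F) (c : Kˣ) :
    ∃ c' : Fˣ, ψ (hG DK c) = hG D c' := by
  have hw2 : ψ (wG DK) * ψ (wG DK) = 1 := by rw [← map_mul, wG_sq DK, map_one]
  have hw2' : ((ψ (wG DK) : SzG F s) : SL4 F) * ((ψ (wG DK) : SzG F s) : SL4 F) = 1 :=
    congrArg Subtype.val hw2
  have h1 : ((ψ (hG DK c) : SzG F s) : SL4 F) • Pinf F = Pinf F :=
    QU_fix D DK hinj hU (show ((hG DK c : SzG K r) : SL4 K) • Pinf K = Pinf K from hS_inf c)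
  have h2 : ((ψ (wG DK * hG DK c * wG DK) : SzG F s) : SL4 F) • Pinf F = Pinf F := by
    apply QU_fix D DK hinj hU
    rw [wG_hG DK]
    exact hS_inf c⁻¹
  rw [map_mul, map_mul] at h2
  have h2' : (((ψ (wG DK) : SzG F s) : SL4 F) * ((ψ (hG DK c) : SzG F s) : SL4 F) *
      ((ψ (wG DK) : SzG F s) : SL4 F)) • Pinf F = Pinf F := h2
  have h3 := fix_zero_aux hw hw2' h2'
  obtain ⟨c', hc'⟩ := stab_two D (ψ (hG DK c)).2 h1 h3
  exact ⟨c', Subtype.ext hc'⟩

theorem hnorm5 (D : SzData F s) (DK : SzData K r) {ψ : SzG K r →* SzG F s}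
    (hw : ((ψ (wG DK) : SzG F s) : SL4 F) • Pinf F = P0 F) :
    ∃ e : Fˣ, ψ (wG DK) = wG D * hG D e := by
  have hw2 : ψ (wG DK) * ψ (wG DK) = 1 := by rw [← map_mul, wG_sq DK, map_one]
  have hw2' : ((ψ (wG DK) : SzG F s) : SL4 F) * ((ψ (wG DK) : SzG F s) : SL4 F) = 1 :=
    congrArg Subtype.val hw2
  have hw0 : ((ψ (wG DK) : SzG F s) : SL4 F) • P0 F = Pinf F := by
    rw [← hw, smul_smul, hw2', one_smul]
  have h1 : (wS D * ((ψ (wG DK) : SzG F s) : SL4 F)) • Pinf F = Pinf F := by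
    rw [mul_smul, hw, wS_zero D]
  have h2 : (wS D * ((ψ (wG DK) : SzG F s) : SL4 F)) • P0 F = P0 F := by
    rw [mul_smul, hw0, wS_inf D]
  obtain ⟨c, hc⟩ := stab_two D (mul_mem (wS_mem D) (ψ (wG DK)).2) h1 h2
  refine ⟨c, ?_⟩
  apply Subtype.ext
  show ((ψ (wG DK) : SzG F s) : SL4 F) = wS D * hS s c
  rw [← hc, ← mul_assoc, wS_mul_self D, one_mul]

/-! ### semilinearity -/

theorem hsemilin (D : SzData F s) (DK : SzData K r) {ψ : SzG K r →* SzG F s}
    (hinj : Function.Injective ψ) (hU : QU D DK ψ)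
    (hH : ∀ c : Kˣ, ∃ c' : Fˣ, ψ (hG DK c) = hG D c') :
    ∃ τ : K →+* F, ∃ f₁ : F, f₁ ≠ 0 ∧
      ∀ a : K, ∃ y : F, ψ (tG DK a 0) = tG D (f₁ * τ a) y := by
  choose A Y hA using fun a => hU a 0
  choose ρ hρ using hH
  have hA0 : ∀ a, A a = 0 → a = 0 := by
    intro a ha
    have h1 : tG DK a 0 * tG DK a 0 = 1 := by
      apply hinj
      rw [map_mul, hA, ha, tG_sq D, zero_pow (show s + 1 ≠ 0 by omega), tG_zero_zero D, map_one]
    rw [tG_sq DK, ← tG_zero_zero DK] at h1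
    have h2 : a ^ (r + 1) = 0 := (tG_inj DK h1).2
    exact (pow_eq_zero_iff (show r + 1 ≠ 0 by omega)).mp h2
  have hadd : ∀ a c, A (a + c) = A a + A c := by
    intro a c
    obtain ⟨y, hy⟩ := QU_center D DK hU (a ^ r * c + 0)
    have e : (0 : K) + 0 + a ^ r * c = a ^ r * c := by ring
    have h1 : tG DK a 0 * tG DK c 0 = tG DK (a + c) 0 * tG DK 0 (a ^ r * c + 0) := by
      rw [← tG_split DK, tG_mul DK, e]
    have h2 := congrArg ψ h1
    rw [map_mul, map_mul, hA, hA, hA, hy, tG_mul D, tG_mul D] at h2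
    have h3 := (tG_inj D h2).1
    rw [add_zero] at h3
    exact h3.symm
  have hequiv : ∀ (c : Kˣ) (a : K), A ((c : K) ^ 2 * a) = ((ρ c : Fˣ) : F) ^ 2 * A a := by
    intro c a
    have h1 : hG DK c * tG DK a 0 * (hG DK c)⁻¹ = tG DK ((c : K) ^ 2 * a) 0 := by
      rw [hG_conj_tG, mul_zero]
    have h2 := congrArg ψ h1
    rw [map_mul, map_mul, map_inv, hρ, hA, hA, hG_conj_tG] at h2
    exact (tG_inj D h2).1.symm
  have hA1 : A 1 ≠ 0 := fun h => one_ne_zero (hA0 1 h)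
  have hAz : A 0 = 0 := by
    have h := hadd 0 0
    rw [add_zero] at h
    linear_combination (-1 : F) * h
  have hmul : ∀ x y : K, A (x * y) * A 1 = A x * A y := by
    intro x y
    by_cases hx : x = 0
    · rw [hx, zero_mul, hAz, zero_mul, zero_mul]
    · obtain ⟨c0, hc0⟩ := DK.sqrt x
      have hc0ne : c0 ≠ 0 := by
        rintro rfl
        rw [zero_pow (show 2 ≠ 0 by norm_num)] at hc0
        exact hx hc0.symm
      have e1 := hequiv (Units.mk0 c0 hc0ne) y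
      have e2 := hequiv (Units.mk0 c0 hc0ne) 1
      rw [Units.val_mk0, hc0] at e1 e2
      rw [mul_one] at e2
      rw [e1, e2]; ring
  let τ₀ : K →+* F :=
    { toFun := fun a => A a / A 1
      map_one' := div_self hA1
      map_mul' := fun x y => by
        show A (x * y) / A 1 = A x / A 1 * (A y / A 1)
        rw [div_mul_div_comm, ← hmul x y, mul_div_mul_right _ _ hA1]
      map_zero' := by show A 0 / A 1 = 0; rw [hAz, zero_div]
      map_add' := fun x y => by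
        show A (x + y) / A 1 = A x / A 1 + A y / A 1
        rw [hadd, add_div] }
  refine ⟨τ₀, A 1, hA1, fun a => ⟨Y a, ?_⟩⟩
  have e : A a = A 1 * τ₀ a := by
    show A a = A 1 * (A a / A 1)
    field_simp
  rw [hA, ← e]

/-! ### rigidity -/

theorem hrigid (D : SzData F s) (DK : SzData K r)
    (hcomp : ∀ y : F, y ^ Fintype.card K = y → y ^ s = y ^ r)
    (ψ : SzG K r →* SzG F s) (hinj : Function.Injective ψ)
    (hU : QU D DK ψ) (hH : ∀ c : Kˣ, ∃ c' : Fˣ, ψ (hG DK c) = hG D c')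
    (e : Fˣ) (hw : ψ (wG DK) = wG D * hG D e)
    (τ : K →+* F) (hf : ∀ a : K, ∃ y : F, ψ (tG DK a 0) = tG D (τ a) y) :
    ψ = subMap D DK hcomp τ := by
  have hτ := comp_of hcomp τ
  choose Y hY using hf
  choose ρ hρ using hH
  choose φ hφ using QU_center D DK hU
  have hρ1 : ∀ c : Kˣ, ((ρ c : Fˣ) : F) = τ (c : K) := by
    intro c
    have h1 : hG DK c * tG DK 1 0 * (hG DK c)⁻¹ = tG DK ((c : K) ^ 2 * 1) 0 := by
      rw [hG_conj_tG, mul_zero]
    have h2 := congrArg ψ h1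
    rw [map_mul, map_mul, map_inv, hρ, hY, hY, hG_conj_tG] at h2
    have h3 := (tG_inj D h2).1
    rw [map_one, mul_one, mul_one, map_pow] at h3
    exact D.sq_inj h3
  have hsq : ∀ a : K, φ (a ^ (r + 1)) = τ (a ^ (r + 1)) := by
    intro a
    have h1 : ψ (tG DK a 0 * tG DK a 0) = ψ (tG DK a 0) * ψ (tG DK a 0) := map_mul _ _ _
    rw [tG_sq DK, hφ, hY, tG_sq D] at h1
    have h2 := tG_zero_inj D h1
    rw [h2, pow_succ, hτ, ← map_pow τ, ← map_mul τ, ← pow_succ]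
  have hφ1 : ∀ b : K, φ b = τ b := by
    intro b
    by_cases hb : b = 0
    · have h1 := hφ 0
      rw [tG_zero_zero DK, map_one, ← tG_zero_zero D] at h1
      rw [hb, map_zero]; exact (tG_zero_inj D h1).symm
    · obtain ⟨a, ha⟩ := DK.exists_root hb
      have h1 := hsq a
      rw [ha] at h1
      exact h1
  have hYadd : ∀ a c : K, Y (a + c) = Y a + Y c := by
    intro a c
    have e0 : (0 : K) + 0 + a ^ r * c = a ^ r * c := by ring
    have h1 : tG DK a 0 * tG DK c 0 = tG DK (a + c) 0 * tG DK 0 (a ^ r * c + 0) := by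
      rw [← tG_split DK, tG_mul DK, e0]
    have h2 := congrArg ψ h1
    rw [map_mul, map_mul, hY, hY, hY, hφ, hφ1, tG_mul D, tG_mul D] at h2
    have h3 := (tG_inj D h2).2
    rw [mul_zero, add_zero, add_zero, map_mul, map_pow, hτ] at h3
    exact (add_right_cancel h3).symm
  have hYeq : ∀ (c : Kˣ) (a : K), Y ((c : K) ^ 2 * a) = τ (c : K) ^ (2 * s + 2) * Y a := by
    intro c a
    have h1 : hG DK c * tG DK a 0 * (hG DK c)⁻¹ = tG DK ((c : K) ^ 2 * a) 0 := by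
      rw [hG_conj_tG, mul_zero]
    have h2 := congrArg ψ h1
    rw [map_mul, map_mul, map_inv, hρ, hY, hY, hG_conj_tG] at h2
    have h3 := (tG_inj D h2).2
    rw [hρ1] at h3
    exact h3.symm
  have hY0 : Y 0 = 0 := by
    have h := hYadd 0 0
    rw [add_zero] at h
    linear_combination (-1 : F) * h
  have hform : ∀ z : K, Y z = τ z ^ (s + 1) * Y 1 := by
    intro z
    by_cases hz : z = 0
    · rw [hz, hY0, map_zero, zero_pow (show s + 1 ≠ 0 by omega), zero_mul]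
    · obtain ⟨c0, hc0⟩ := DK.sqrt z
      have hc0ne : c0 ≠ 0 := by
        rintro rfl
        rw [zero_pow (show 2 ≠ 0 by norm_num)] at hc0
        exact hz hc0.symm
      have e1 := hYeq (Units.mk0 c0 hc0ne) 1
      rw [Units.val_mk0, mul_one, hc0] at e1
      rw [e1, ← hc0, map_pow]
      ring
  have hY1 : Y 1 = 0 := by
    obtain ⟨x, hx0, hx1⟩ := DK.exists_ne
    have h1 := hYadd x 1
    rw [hform (x + 1), hform x, map_add, map_one, pow_succ, D.add, one_pow] at h1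
    have h2 : (τ x ^ s + τ x) * Y 1 = 0 := by linear_combination h1
    have h3 : τ x ^ s + τ x ≠ 0 := by
      intro h0
      have h4 : τ (x ^ r) = τ x := by
        rw [map_pow, ← hτ]
        linear_combination h0 - τ x * D.two
      exact DK.pow_ne_self hx0 hx1 (τ.injective h4)
    exact (mul_eq_zero.mp h2).resolve_left h3
  have hYz : ∀ a : K, Y a = 0 := fun a => by rw [hform a, hY1, mul_zero]
  have ht : ∀ a b : K, ψ (tG DK a b) = tG D (τ a) (τ b) := by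
    intro a b
    rw [tG_split DK a b 0, map_mul, hY, hφ, hYz, hφ1, add_zero, tG_split D (τ a) (τ b) 0,
      add_zero]
  have hh : ∀ c : Kˣ, ψ (hG DK c) = hG D (Units.map τ.toMonoidHom c) := by
    intro c
    have hu : ρ c = Units.map τ.toMonoidHom c := Units.ext (hρ1 c)
    rw [hρ, hu]
  have hfix : ∀ g : SzG K r, (g : SL4 K) • Pinf K = Pinf K →
      ((ψ g : SzG F s) : SL4 F) • Pinf F = Pinf F := fun g hg => QU_fix D DK hinj hU hg
  have he : e = 1 := by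
    have hk : ((wG DK * (tG DK 1 0)⁻¹ * wG DK * tG DK 0 1 * wG DK : SzG K r) : SL4 K) •
        Pinf K = Pinf K := by
      show (wS DK * (tS r 1 0)⁻¹ * wS DK * tS r 0 1 * wS DK) • Pinf K = Pinf K
      have hne : ¬ ((0 : K) = 0 ∧ (1 : K) = 0) := fun h => one_ne_zero h.2
      have hfz : fz r (0 : K) 1 = 1 := by
        unfold fz
        rw [zero_mul, zero_pow (show r + 2 ≠ 0 by omega), zero_add, zero_add, one_pow]
      have e1 : (tS r (1 : K) 0)⁻¹ • Paff r (1 : K) 0 = P0 K := by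
        rw [inv_smul_eq_iff, tS_P0 DK]
      rw [mul_smul, mul_smul, mul_smul, mul_smul, wS_inf DK, tS_P0 DK, wS_aff DK hne, hfz,
        zero_div, div_one, e1, wS_zero DK]
    have hk2 := hfix _ hk
    rw [map_mul, map_mul, map_mul, map_mul, map_inv, hw, ht, ht, map_one, map_zero] at hk2
    have hk3 : (wS D * hS s e * (tS s 1 0)⁻¹ * (wS D * hS s e) * tS s 0 1 *
        (wS D * hS s e)) • Pinf F = Pinf F := hk2
    obtain ⟨y, hy⟩ : ∃ y : F, y = (e : F) ^ (2 * s + 2) := ⟨_, rfl⟩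
    have hy0 : y ≠ 0 := by rw [hy]; exact pow_ne_zero _ e.ne_zero
    have hne' : ¬ ((0 : F) = 0 ∧ y = 0) := fun h => hy0 h.2
    have hfz' : fz s (0 : F) y = y ^ s := by
      unfold fz; rw [zero_mul, zero_pow (show s + 2 ≠ 0 by omega), zero_add, zero_add]
    have key : ∀ X Y' : F, wS D • Paff s X Y' = Pinf F → X = 0 := by
      intro X Y' h
      by_contra hX
      have hne2 : ¬ (X = 0 ∧ Y' = 0) := fun h => hX h.1
      rw [wS_aff D hne2] at h
      exact Paff_ne_inf _ _ h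
    simp only [mul_smul] at hk3
    rw [hS_inf e, wS_inf D, tS_P0 D, hS_aff D, mul_zero, mul_one, ← hy, wS_aff D hne', hfz',
      zero_div, tS_inv D, tS_aff D, hS_aff D] at hk3
    have hX := key _ _ hk3
    have h5 : y / y ^ s + 1 = 0 := (mul_eq_zero.mp hX).resolve_left (pow_ne_zero _ e.ne_zero)
    have h6 : y / y ^ s = 1 := by linear_combination h5 - D.two
    have h7 : y ^ s = y := by
      have hys : y ^ s ≠ 0 := pow_ne_zero _ hy0
      rw [div_eq_iff hys, one_mul] at h6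
      exact h6.symm
    have h8 : y = 1 := by
      by_contra h1
      exact D.pow_ne_self hy0 h1 h7
    have h9 : ((e : F) ^ (s + 1)) ^ 2 = 1 := by rw [← h8, hy]; ring
    exact Units.ext (D.one_of_pow_succ (D.one_of_sq h9))
  have hw' : ψ (wG DK) = wG D := by rw [hw, he, map_one, mul_one]
  apply MonoidHom.ext
  intro x
  rcases SzG_cases DK x.2 with ⟨a, b, c, hx⟩ | ⟨a, b, a', b', c, hx⟩
  · have hx' : x = tG DK a b * hG DK c := Subtype.ext hx
    rw [hx']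
    simp only [map_mul, ht, hh, subMap_tG, subMap_hG]
  · have hx' : x = tG DK a b * wG DK * (tG DK a' b' * hG DK c) := Subtype.ext hx
    rw [hx']
    simp only [map_mul, ht, hh, hw', subMap_tG, subMap_hG, subMap_wG]

/-- Every injective homomorphism `Sz(K) → Sz(F)` is conjugate to a subfield embedding. -/
theorem hom_conj (D : SzData F s) (DK : SzData K r)
    (hcomp : ∀ y : F, y ^ Fintype.card K = y → y ^ s = y ^ r)
    (ψ : SzG K r →* SzG F s) (hinj : Function.Injective ψ) :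
    ∃ (g : SzG F s) (τ : K →+* F), cj g ψ = subMap D DK hcomp τ := by
  obtain ⟨g₁, h1⟩ := hnorm1 D DK ψ
  have hinj1 := cj_inj g₁ hinj
  obtain ⟨u₁, hu₁, h2w⟩ := hnorm3 D DK hinj1 h1
  have h2U := QU_cj D DK h1 hu₁
  have hinj2 := cj_inj u₁ hinj1
  have h2H := hnorm4 D DK hinj2 h2U h2w
  obtain ⟨e, he⟩ := hnorm5 D DK h2w
  obtain ⟨τ, f₁, hf₁, hτ⟩ := hsemilin D DK hinj2 h2U h2H
  obtain ⟨d0, hd0⟩ := D.sqrt f₁⁻¹
  have hd0ne : d0 ≠ 0 := by
    rintro rfl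
    rw [zero_pow (show 2 ≠ 0 by norm_num)] at hd0
    exact inv_ne_zero hf₁ hd0.symm
  obtain ⟨d, hd⟩ : ∃ d : Fˣ, (d : F) = d0 := ⟨Units.mk0 d0 hd0ne, rfl⟩
  have hinj3 := cj_inj (hG D d) hinj2
  have h3U := QU_cj_h D DK h2U d
  have h3H : ∀ c : Kˣ, ∃ c' : Fˣ, (cj (hG D d) (cj u₁ (cj g₁ ψ))) (hG DK c) = hG D c' := by
    intro c
    obtain ⟨c', hc'⟩ := h2H c
    refine ⟨c', ?_⟩
    rw [cj_apply, hc', ← map_mul (hG D), ← map_inv (hG D), ← map_mul (hG D), mul_comm d c',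
      mul_inv_cancel_right]
  have h3w : (cj (hG D d) (cj u₁ (cj g₁ ψ))) (wG DK) = wG D * hG D (d⁻¹ * (e * d⁻¹)) := by
    have e1 : hG D d * wG D = wG D * hG D d⁻¹ := by
      rw [← wG_hG D d, ← mul_assoc, ← mul_assoc, wG_sq D, one_mul]
    have e2 : hG D d * (wG D * hG D e) * (hG D d)⁻¹ =
        (hG D d * wG D) * (hG D e * (hG D d)⁻¹) := by group
    rw [cj_apply, he, e2, e1, ← map_inv (hG D), mul_assoc, ← map_mul (hG D), ← map_mul (hG D)]
  have h3f : ∀ a : K, ∃ y : F, (cj (hG D d) (cj u₁ (cj g₁ ψ))) (tG DK a 0) = tG D (τ a) y := by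
    intro a
    obtain ⟨y, hy⟩ := hτ a
    refine ⟨(d : F) ^ (2 * s + 2) * y, ?_⟩
    rw [cj_apply, hy, hG_conj_tG, hd, hd0, ← mul_assoc, inv_mul_cancel₀ hf₁, one_mul]
  refine ⟨hG D d * u₁ * g₁, τ, ?_⟩
  have h := hrigid D DK hcomp _ hinj3 h3U h3H _ h3w τ h3f
  rw [← h]
  apply MonoidHom.ext
  intro x
  simp only [cj_apply]
  group

/-- Subgroups of `Sz(F)` isomorphic to `Sz(K)` are conjugate. -/
theorem sub_conj (D : SzData F s) (DK : SzData K r)
    (hcomp : ∀ y : F, y ^ Fintype.card K = y → y ^ s = y ^ r)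
    (S₁ S₂ : Subgroup (SzG F s)) (e₁ : S₁ ≃* SzG K r) (e₂ : S₂ ≃* SzG K r) :
    ∃ g : SzG F s, S₂ = S₁.map (MulAut.conj g).toMonoidHom := by
  obtain ⟨ψ₁, hψ₁⟩ : ∃ ψ₁ : SzG K r →* SzG F s, ψ₁ = S₁.subtype.comp e₁.symm.toMonoidHom :=
    ⟨_, rfl⟩
  obtain ⟨ψ₂, hψ₂⟩ : ∃ ψ₂ : SzG K r →* SzG F s, ψ₂ = S₂.subtype.comp e₂.symm.toMonoidHom :=
    ⟨_, rfl⟩
  have hinj₁ : Function.Injective ψ₁ := by
    rw [hψ₁]; exact S₁.subtype_injective.comp e₁.symm.injective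
  have hinj₂ : Function.Injective ψ₂ := by
    rw [hψ₂]; exact S₂.subtype_injective.comp e₂.symm.injective
  obtain ⟨g₁, τ₁, h₁⟩ := hom_conj D DK hcomp ψ₁ hinj₁
  obtain ⟨g₂, τ₂, h₂⟩ := hom_conj D DK hcomp ψ₂ hinj₂
  have k₁ : ∀ x, g₁ * ψ₁ x * g₁⁻¹ = subMap D DK hcomp τ₁ x := fun x => by rw [← h₁]; rfl
  have k₂ : ∀ x, g₂ * ψ₂ x * g₂⁻¹ = subMap D DK hcomp τ₂ x := fun x => by rw [← h₂]; rfl
  have m₁ : ∀ x, ψ₁ x ∈ S₁ := fun x => by rw [hψ₁]; exact (e₁.symm x).2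
  have m₂ : ∀ x, ψ₂ x ∈ S₂ := fun x => by rw [hψ₂]; exact (e₂.symm x).2
  have s₁ : ∀ z ∈ S₁, ∃ x, ψ₁ x = z := fun z hz => ⟨e₁ ⟨z, hz⟩, by rw [hψ₁]; simp⟩
  have s₂ : ∀ z ∈ S₂, ∃ x, ψ₂ x = z := fun z hz => ⟨e₂ ⟨z, hz⟩, by rw [hψ₂]; simp⟩
  refine ⟨g₂⁻¹ * g₁, ?_⟩
  ext y
  rw [Subgroup.mem_map]
  constructor
  · intro hy
    obtain ⟨x, rfl⟩ := s₂ y hy
    obtain ⟨x', hx'⟩ := subMap_range D DK hcomp τ₁ τ₂ x
    refine ⟨ψ₁ x', m₁ x', ?_⟩
    have e1 : g₁ * ψ₁ x' * g₁⁻¹ = g₂ * ψ₂ x * g₂⁻¹ := by rw [k₁, k₂, hx']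
    show g₂⁻¹ * g₁ * ψ₁ x' * (g₂⁻¹ * g₁)⁻¹ = ψ₂ x
    have e2 : g₂⁻¹ * g₁ * ψ₁ x' * (g₂⁻¹ * g₁)⁻¹ = g₂⁻¹ * (g₁ * ψ₁ x' * g₁⁻¹) * g₂ := by group
    rw [e2, e1]; group
  · rintro ⟨z, hz, rfl⟩
    obtain ⟨x, rfl⟩ := s₁ z hz
    obtain ⟨x', hx'⟩ := subMap_range D DK hcomp τ₂ τ₁ x
    have e1 : g₁ * ψ₁ x * g₁⁻¹ = g₂ * ψ₂ x' * g₂⁻¹ := by rw [k₁, k₂, hx']
    have e3 : (MulAut.conj (g₂⁻¹ * g₁)).toMonoidHom (ψ₁ x) = ψ₂ x' := by
      show g₂⁻¹ * g₁ * ψ₁ x * (g₂⁻¹ * g₁)⁻¹ = ψ₂ x'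
      have e2 : g₂⁻¹ * g₁ * ψ₁ x * (g₂⁻¹ * g₁)⁻¹ = g₂⁻¹ * (g₁ * ψ₁ x * g₁⁻¹) * g₂ := by group
      rw [e2, e1]; group
    rw [e3]; exact m₂ x'

/-! ### arithmetic of the parameters -/

theorem compat_of {m k : ℕ} (hK : Fintype.card K = 2 ^ (2 * k + 1))
    (hdiv : 2 * k + 1 ∣ 2 * m + 1) (y : F) (hy : y ^ Fintype.card K = y) :
    y ^ (2 ^ (m + 1)) = y ^ (2 ^ (k + 1)) := by
  obtain ⟨j, hj⟩ := hdiv
  obtain ⟨i, hi⟩ : ∃ i, m = (2 * k + 1) * i + k := by
    rcases Nat.even_or_odd' j with ⟨i, rfl | rfl⟩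
    · exfalso
      obtain ⟨P, hP⟩ : ∃ P, P = (2 * k + 1) * i := ⟨_, rfl⟩
      have h1 : 2 * m + 1 = 2 * P := by rw [hj, hP]; ring
      omega
    · refine ⟨i, ?_⟩
      obtain ⟨P, hP⟩ : ∃ P, P = (2 * k + 1) * i := ⟨_, rfl⟩
      have h1 : 2 * m + 1 = 2 * P + (2 * k + 1) := by rw [hj, hP]; ring
      rw [← hP]
      omega
  have hpow : ∀ n : ℕ, y ^ ((2 ^ (2 * k + 1)) ^ n) = y := by
    intro n
    induction n with
    | zero => rw [pow_zero, pow_one]
    | succ n ih => rw [pow_succ, pow_mul, ih, ← hK, hy]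
  have hs : 2 ^ (m + 1) = (2 ^ (2 * k + 1)) ^ i * 2 ^ (k + 1) := by
    rw [hi, ← pow_mul, ← pow_add, add_assoc]
  rw [hs, pow_mul, hpow]

theorem exists_embedding (D : SzData F s) (DK : SzData K r) {m k : ℕ}
    (hF : Fintype.card F = 2 ^ (2 * m + 1)) (hK : Fintype.card K = 2 ^ (2 * k + 1))
    (hdiv : 2 * k + 1 ∣ 2 * m + 1) : Nonempty (K →+* F) := by
  haveI : CharP F 2 := CharTwo.of_one_ne_zero_of_two_eq_zero one_ne_zero D.two
  haveI : CharP K 2 := CharTwo.of_one_ne_zero_of_two_eq_zero one_ne_zero DK.two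
  haveI : Fact (Nat.Prime 2) := ⟨Nat.prime_two⟩
  letI : Algebra (ZMod 2) F := ZMod.algebra F 2
  letI : Algebra (ZMod 2) K := ZMod.algebra K 2
  have h1 : Module.finrank (ZMod 2) K = 2 * k + 1 := by
    have h := Module.card_eq_pow_finrank (K := ZMod 2) (V := K)
    rw [hK, ZMod.card] at h
    exact (Nat.pow_right_injective (le_refl 2) h).symm
  have h2 : Module.finrank (ZMod 2) F = 2 * m + 1 := by
    have h := Module.card_eq_pow_finrank (K := ZMod 2) (V := F)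
    rw [hF, ZMod.card] at h
    exact (Nat.pow_right_injective (le_refl 2) h).symm
  obtain ⟨f⟩ := FiniteField.nonempty_algHom_of_finrank_dvd (F := ZMod 2) (K := K) (L := F)
    (by rw [h1, h2]; exact hdiv)
  exact ⟨f.toRingHom⟩

/-- Subfield subgroups of the Suzuki groups: existence and uniqueness up to conjugacy. -/
theorem subfield_main {m k : ℕ} (hm : 1 ≤ m) (hF : Fintype.card F = 2 ^ (2 * m + 1))
    (hk : 1 ≤ k) (hK : Fintype.card K = 2 ^ (2 * k + 1)) (hdiv : 2 * k + 1 ∣ 2 * m + 1) :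
    (∃ S : Subgroup (SzG F (2 ^ (m + 1))), Nonempty (↥S ≃* SzG K (2 ^ (k + 1)))) ∧
    ∀ S₁ S₂ : Subgroup (SzG F (2 ^ (m + 1))), Nonempty (↥S₁ ≃* SzG K (2 ^ (k + 1))) →
      Nonempty (↥S₂ ≃* SzG K (2 ^ (k + 1))) →
      ∃ g : SzG F (2 ^ (m + 1)), S₂ = S₁.map (MulAut.conj g).toMonoidHom := by
  have D := szData hm hF
  have DK := szData hk hK
  have hcomp : ∀ y : F, y ^ Fintype.card K = y → y ^ (2 ^ (m + 1)) = y ^ (2 ^ (k + 1)) :=
    fun y hy => compat_of hK hdiv y hy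
  obtain ⟨τ⟩ := exists_embedding D DK hF hK hdiv
  refine ⟨⟨(subMap D DK hcomp τ).range,
    ⟨(MonoidHom.ofInjective (subMap_inj D DK hcomp τ)).symm⟩⟩, ?_⟩
  rintro S₁ S₂ ⟨e₁⟩ ⟨e₂⟩
  exact sub_conj D DK hcomp S₁ S₂ e₁ e₂

end Cfsg.Agent.Helper6.SzSub
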