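import Mathlib
import Cfsg.Agent.Helper6.SzPart
import Cfsg.Agent.Helper6.SzSub

set_option autoImplicit false

/-!
Subgroups of the Suzuki group `Sz(q)`, part 1: subgroups of odd order are abelian and lie in a cyclic
self-centralising subgroup; a subgroup normalising a non-trivial subgroup of odd order normalises such a
cyclic subgroup.
-/

namespace Cfsg.Agent.Helper6.SzSg

open Matrix Cfsg.Agent.Helper6.Sz Cfsg.Agent.Helper6.SzOut
open scoped Pointwise

/-! ### a counting lemma on centralisers -/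

/-- the non-identity elements commuting with a conjugate of `x` -/
def YC {N : Type*} [Group N] (x : N) : Set N :=
  {y | y ≠ 1 ∧ ∃ g : N, y * (g * x * g⁻¹) = (g * x * g⁻¹) * y}

theorem card_YC {N : Type*} [Group N] [Finite N]
    (h1 : ∀ x y z : N, y ≠ 1 → x * y = y * x → y * z = z * y → x * z = z * x)
    (h2 : ∀ x g : N, x ≠ 1 → (g * x * g⁻¹) * x = x * (g * x * g⁻¹) → g * x = x * g)
    (x : N) (hx : x ≠ 1) :
    (YC x).ncard = (Subgroup.centralizer ({x} : Set N)).index *
      (Nat.card (Subgroup.centralizer ({x} : Set N)) - 1) := by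
  classical
  have hmemC : ∀ k : N, k ∈ Subgroup.centralizer ({x} : Set N) ↔ k * x = x * k :=
    fun k => Subgroup.mem_centralizer_singleton_iff
  let f : (N ⧸ Subgroup.centralizer ({x} : Set N)) ×
      {k : Subgroup.centralizer ({x} : Set N) // k ≠ 1} → YC x := fun t =>
    ⟨t.1.out * (t.2.1 : N) * t.1.out⁻¹, by
      refine ⟨?_, t.1.out, ?_⟩
      · intro h
        apply t.2.2
        apply Subtype.ext
        rw [Subgroup.coe_one]
        exact conj_eq_one_iff.mp h
      · have hk := (hmemC _).mp t.2.1.2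
        calc t.1.out * (t.2.1 : N) * t.1.out⁻¹ * (t.1.out * x * t.1.out⁻¹)
            = t.1.out * ((t.2.1 : N) * x) * t.1.out⁻¹ := by group
          _ = t.1.out * (x * (t.2.1 : N)) * t.1.out⁻¹ := by rw [hk]
          _ = t.1.out * x * t.1.out⁻¹ * (t.1.out * (t.2.1 : N) * t.1.out⁻¹) := by group⟩
  have hinj : Function.Injective f := by
    rintro ⟨q, k, hk1⟩ ⟨q', k', hk1'⟩ h
    have h' : q.out * (k : N) * q.out⁻¹ = q'.out * (k' : N) * q'.out⁻¹ := congrArg Subtype.val h
    have hkx := (hmemC _).mp k.2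
    have hkx' := (hmemC _).mp k'.2
    have hj : (q'.out⁻¹ * q.out) * (k : N) * (q'.out⁻¹ * q.out)⁻¹ = (k' : N) := by
      have e : (q'.out⁻¹ * q.out) * (k : N) * (q'.out⁻¹ * q.out)⁻¹ =
          q'.out⁻¹ * (q.out * (k : N) * q.out⁻¹) * q'.out := by group
      rw [e, h']; group
    have hk'ne : (k' : N) ≠ 1 := fun h0 => hk1' (Subtype.ext h0)
    have hc1 : ((q'.out⁻¹ * q.out) * x * (q'.out⁻¹ * q.out)⁻¹) * (k' : N) =
        (k' : N) * ((q'.out⁻¹ * q.out) * x * (q'.out⁻¹ * q.out)⁻¹) := by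
      rw [← hj]
      calc (q'.out⁻¹ * q.out) * x * (q'.out⁻¹ * q.out)⁻¹ *
            ((q'.out⁻¹ * q.out) * (k : N) * (q'.out⁻¹ * q.out)⁻¹)
          = (q'.out⁻¹ * q.out) * (x * (k : N)) * (q'.out⁻¹ * q.out)⁻¹ := by group
        _ = (q'.out⁻¹ * q.out) * ((k : N) * x) * (q'.out⁻¹ * q.out)⁻¹ := by rw [hkx]
        _ = (q'.out⁻¹ * q.out) * (k : N) * (q'.out⁻¹ * q.out)⁻¹ *
            ((q'.out⁻¹ * q.out) * x * (q'.out⁻¹ * q.out)⁻¹) := by group
    have hc2 := h1 _ _ _ hk'ne hc1 hkx'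
    have hc3 := h2 x (q'.out⁻¹ * q.out) hx hc2
    have hq : (QuotientGroup.mk q'.out : N ⧸ Subgroup.centralizer ({x} : Set N)) =
        QuotientGroup.mk q.out := QuotientGroup.eq.mpr ((hmemC _).mpr hc3)
    rw [QuotientGroup.out_eq', QuotientGroup.out_eq'] at hq
    subst hq
    have hkk : (k : N) = (k' : N) := mul_left_cancel (mul_right_cancel h')
    have hkk' : k = k' := Subtype.ext hkk
    subst hkk'
    rfl
  have hsurj : Function.Surjective f := by
    rintro ⟨y, hy1, g, hyg⟩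
    obtain ⟨h, hh⟩ := QuotientGroup.mk_out_eq_mul (Subgroup.centralizer ({x} : Set N)) g
    have hhx := (hmemC _).mp h.2
    have hconj : (QuotientGroup.mk g : N ⧸ Subgroup.centralizer ({x} : Set N)).out * x *
        (QuotientGroup.mk g : N ⧸ Subgroup.centralizer ({x} : Set N)).out⁻¹ = g * x * g⁻¹ := by
      rw [hh]
      calc g * (h : N) * x * (g * (h : N))⁻¹ = g * ((h : N) * x) * (h : N)⁻¹ * g⁻¹ := by group
        _ = g * (x * (h : N)) * (h : N)⁻¹ * g⁻¹ := by rw [hhx]
        _ = g * x * g⁻¹ := by group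
    generalize (QuotientGroup.mk g : N ⧸ Subgroup.centralizer ({x} : Set N)) = q at hconj
    have hkC : q.out⁻¹ * y * q.out ∈ Subgroup.centralizer ({x} : Set N) := by
      rw [hmemC]
      have e1 : y * (q.out * x * q.out⁻¹) = (q.out * x * q.out⁻¹) * y := by rw [hconj]; exact hyg
      calc q.out⁻¹ * y * q.out * x = q.out⁻¹ * (y * (q.out * x * q.out⁻¹)) * q.out := by group
        _ = q.out⁻¹ * ((q.out * x * q.out⁻¹) * y) * q.out := by rw [e1]
        _ = x * (q.out⁻¹ * y * q.out) := by group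
    refine ⟨⟨q, ⟨⟨q.out⁻¹ * y * q.out, hkC⟩, ?_⟩⟩, ?_⟩
    · intro h0
      apply hy1
      have h0' : q.out⁻¹ * y * q.out = 1 := congrArg Subtype.val h0
      have e : y = q.out * (q.out⁻¹ * y * q.out) * q.out⁻¹ := by group
      rw [e, h0']; group
    · apply Subtype.ext
      show q.out * (q.out⁻¹ * y * q.out) * q.out⁻¹ = y
      group
  have hcard : Nat.card (YC x) = Nat.card (N ⧸ Subgroup.centralizer ({x} : Set N)) *
      Nat.card {k : Subgroup.centralizer ({x} : Set N) // k ≠ 1} := by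
    rw [← Nat.card_prod]
    exact (Nat.card_congr (Equiv.ofBijective f ⟨hinj, hsurj⟩)).symm
  have hsub : Nat.card {k : Subgroup.centralizer ({x} : Set N) // k ≠ 1} =
      Nat.card (Subgroup.centralizer ({x} : Set N)) - 1 := by
    have h1' : ({k : Subgroup.centralizer ({x} : Set N) | k ≠ 1} : Set _) = Set.univ \ {1} := by
      ext k; simp
    have h2' : Nat.card {k : Subgroup.centralizer ({x} : Set N) // k ≠ 1} =
        ({k : Subgroup.centralizer ({x} : Set N) | k ≠ 1} : Set _).ncard :=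
      Nat.card_coe_set_eq _
    rw [h2', h1', Set.ncard_sdiff_singleton_of_mem (Set.mem_univ _), Set.ncard_univ]
  rw [← Nat.card_coe_set_eq, hcard, hsub, Subgroup.index_eq_card]

/-- A finite group in which the centralisers of the non-identity elements are abelian and
self-normalising is abelian. -/
theorem abelian_of_cent {N : Type*} [Group N] [Finite N]
    (h1 : ∀ x y z : N, y ≠ 1 → x * y = y * x → y * z = z * y → x * z = z * x)
    (h2 : ∀ x g : N, x ≠ 1 → (g * x * g⁻¹) * x = x * (g * x * g⁻¹) → g * x = x * g) :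
    ∀ a b : N, a * b = b * a := by
  classical
  by_contra hcon
  push_neg at hcon
  obtain ⟨a, b, hab⟩ := hcon
  have ha1 : a ≠ 1 := by rintro rfl; exact hab (by rw [one_mul, mul_one])
  have key : ∀ x : N, x ≠ 1 → Nat.card N ≤ 2 * (YC x).ncard ∧
      (YC x).ncard + (Subgroup.centralizer ({x} : Set N)).index = Nat.card N := by
    intro x hx
    have hc := card_YC h1 h2 x hx
    have hmul := Subgroup.card_mul_index (Subgroup.centralizer ({x} : Set N))
    have h2c : 1 < Nat.card (Subgroup.centralizer ({x} : Set N)) := by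
      have hne : (Subgroup.centralizer ({x} : Set N)) ≠ ⊥ := by
        intro hbot
        have hxC : x ∈ Subgroup.centralizer ({x} : Set N) :=
          Subgroup.mem_centralizer_singleton_iff.mpr rfl
        rw [hbot, Subgroup.mem_bot] at hxC
        exact hx hxC
      exact (Subgroup.one_lt_card_iff_ne_bot _).mpr hne
    obtain ⟨c', hc'⟩ : ∃ c', Nat.card (Subgroup.centralizer ({x} : Set N)) = c' + 2 :=
      ⟨Nat.card (Subgroup.centralizer ({x} : Set N)) - 2, by omega⟩
    rw [hc'] at hc hmul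
    have e : c' + 2 - 1 = c' + 1 := by omega
    rw [e] at hc
    constructor
    · rw [hc, ← hmul]
      nlinarith [Nat.zero_le ((Subgroup.centralizer ({x} : Set N)).index * c')]
    · rw [hc, ← hmul]; ring
  obtain ⟨ha2, ha3⟩ := key a ha1
  have hidx : 2 ≤ (Subgroup.centralizer ({a} : Set N)).index := by
    have h0 : (Subgroup.centralizer ({a} : Set N)).index ≠ 0 := Subgroup.index_ne_zero_of_finite
    have h1' : (Subgroup.centralizer ({a} : Set N)).index ≠ 1 := by
      intro h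
      rw [Subgroup.index_eq_one] at h
      have hb : b ∈ Subgroup.centralizer ({a} : Set N) := by rw [h]; exact Subgroup.mem_top b
      exact hab (Subgroup.mem_centralizer_singleton_iff.mp hb).symm
    omega
  have hne : ({z : N | z ≠ 1} : Set N).ncard + 1 = Nat.card N := by
    have h1' : ({z : N | z ≠ 1} : Set N) = Set.univ \ {1} := by ext k; simp
    rw [h1', Set.ncard_sdiff_singleton_add_one (Set.mem_univ _), Set.ncard_univ]
  obtain ⟨z, hz1, hzY⟩ : ∃ z : N, z ≠ 1 ∧ z ∉ YC a := by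
    by_contra hall
    push_neg at hall
    have hsub : ({z : N | z ≠ 1} : Set N) ⊆ YC a := fun z hz => hall z hz
    have := Set.ncard_le_ncard hsub (Set.toFinite _)
    omega
  obtain ⟨hz2, hz3⟩ := key z hz1
  have hdisj : Disjoint (YC z) (YC a) := by
    rw [Set.disjoint_left]
    rintro y ⟨hy1, g, hg⟩ ⟨-, g', hg'⟩
    apply hzY
    refine ⟨hz1, g⁻¹ * g', ?_⟩
    have hc := h1 _ _ _ hy1 hg.symm hg'
    calc z * (g⁻¹ * g' * a * (g⁻¹ * g')⁻¹)
        = g⁻¹ * ((g * z * g⁻¹) * (g' * a * g'⁻¹)) * g := by group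
      _ = g⁻¹ * ((g' * a * g'⁻¹) * (g * z * g⁻¹)) * g := by rw [hc]
      _ = (g⁻¹ * g' * a * (g⁻¹ * g')⁻¹) * z := by group
  have hunion : (YC z ∪ YC a).ncard = (YC z).ncard + (YC a).ncard :=
    Set.ncard_union_eq hdisj (Set.toFinite _) (Set.toFinite _)
  have hsub : YC z ∪ YC a ⊆ ({z : N | z ≠ 1} : Set N) := by
    rintro y (hy | hy)
    · exact hy.1
    · exact hy.1
  have := Set.ncard_le_ncard hsub (Set.toFinite _)
  omega

theorem normalizes_cent {G : Type*} [Group G] (x g : G)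
    (h : Subgroup.centralizer ({g * x * g⁻¹} : Set G) = Subgroup.centralizer ({x} : Set G)) :
    g ∈ Subgroup.normalizer ((Subgroup.centralizer ({x} : Set G) : Subgroup G) : Set G) := by
  rw [Subgroup.mem_set_normalizer_iff]
  intro t
  show t ∈ Subgroup.centralizer ({x} : Set G) ↔
    g * t * g⁻¹ ∈ Subgroup.centralizer ({x} : Set G)
  have e : g * t * g⁻¹ ∈ Subgroup.centralizer ({x} : Set G) ↔
      g * t * g⁻¹ ∈ Subgroup.centralizer ({g * x * g⁻¹} : Set G) := by rw [h]
  rw [e, Subgroup.mem_centralizer_singleton_iff, Subgroup.mem_centralizer_singleton_iff]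
  constructor
  · intro h'
    calc g * t * g⁻¹ * (g * x * g⁻¹) = g * (t * x) * g⁻¹ := by group
      _ = g * (x * t) * g⁻¹ := by rw [h']
      _ = g * x * g⁻¹ * (g * t * g⁻¹) := by group
  · intro h'
    have h2 : g * (t * x) * g⁻¹ = g * (x * t) * g⁻¹ := by
      calc g * (t * x) * g⁻¹ = g * t * g⁻¹ * (g * x * g⁻¹) := by group
        _ = g * x * g⁻¹ * (g * t * g⁻¹) := h'
        _ = g * (x * t) * g⁻¹ := by group
    exact mul_left_cancel (mul_right_cancel h2)

variable {F : Type*} [Field F] [Fintype F] {s : ℕ}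

/-! ### wrappers at the level of the group -/

theorem smul_ov (g : SzG F s) {p : Projectivization F (Fin 4 → F)} (hp : p ∈ ov F s) :
    g • p ∈ ov F s := smul_mem_ov g.2 hp

theorem tG_inf (D : SzData F s) (a b : F) : tG D a b • Pinf F = Pinf F := tS_inf a b

theorem tG_aff (D : SzData F s) (a b x y : F) :
    tG D a b • Paff s x y = Paff s (x + a) (y + b + a ^ s * x) := tS_aff D a b x y

theorem tG_zero' (D : SzData F s) (a b : F) : tG D a b • P0 F = Paff s a b := tS_P0 D a b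

theorem hG_inf (D : SzData F s) (c : Fˣ) : hG D c • Pinf F = Pinf F := hS_inf c

theorem hG_zero (D : SzData F s) (c : Fˣ) : hG D c • P0 F = P0 F := hS_zero D c

theorem hG_aff (D : SzData F s) (c : Fˣ) (x y : F) :
    hG D c • Paff s x y = Paff s ((c : F) ^ 2 * x) ((c : F) ^ (2 * s + 2) * y) := hS_aff D c x y

theorem wG_inf (D : SzData F s) : wG D • Pinf F = P0 F := wS_inf D

theorem wG_zero (D : SzData F s) : wG D • P0 F = Pinf F := wS_zero D

theorem wG_aff (D : SzData F s) {x y : F} (h : ¬ (x = 0 ∧ y = 0)) :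
    wG D • Paff s x y = Paff s (y / fz s x y) (x / fz s x y) := wS_aff D h

theorem stabG (D : SzData F s) (g : SzG F s) (h : g • Pinf F = Pinf F) :
    ∃ a b : F, ∃ c : Fˣ, g = tG D a b * hG D c := by
  obtain ⟨a, b, c, hg⟩ := stab_one D g.2 h
  exact ⟨a, b, c, Subtype.ext hg⟩

theorem stab2G (D : SzData F s) (g : SzG F s) (h1 : g • Pinf F = Pinf F)
    (h2 : g • P0 F = P0 F) : ∃ c : Fˣ, g = hG D c := by
  obtain ⟨c, hg⟩ := stab_two D g.2 h1 h2
  exact ⟨c, Subtype.ext hg⟩

theorem swapG (D : SzData F s) (g : SzG F s) (h1 : g • Pinf F = P0 F)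
    (h2 : g • P0 F = Pinf F) : ∃ c : Fˣ, g = wG D * hG D c := by
  obtain ⟨c, hg⟩ := swap_inf D g.2 h1 h2
  exact ⟨c, Subtype.ext hg⟩

theorem fix3G (D : SzData F s) (g : SzG F s) {a b c : Projectivization F (Fin 4 → F)}
    (ha : a ∈ ov F s) (hb : b ∈ ov F s) (hc : c ∈ ov F s) (hab : a ≠ b) (hbc : b ≠ c)
    (hac : a ≠ c) (h1 : g • a = a) (h2 : g • b = b) (h3 : g • c = c) : g = 1 :=
  Subtype.ext (eq_one_of_fix_three D g.2 ha hb hc hab hbc hac h1 h2 h3)

theorem unipFixG (D : SzData F s) {a b : F} (hab : ¬ (a = 0 ∧ b = 0))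
    {p : Projectivization F (Fin 4 → F)} (hp : p ∈ ov F s) (h : tG D a b • p = p) :
    p = Pinf F := unip_fix D hab hp h

theorem centUnipG (D : SzData F s) {a b : F} (hab : ¬ (a = 0 ∧ b = 0)) (e : SzG F s)
    (h : e * tG D a b = tG D a b * e) : ∃ a' b' : F, e = tG D a' b' := by
  obtain ⟨a', b', he⟩ := cent_unip D hab e.2 (congrArg Subtype.val h)
  exact ⟨a', b', Subtype.ext he⟩

theorem centTorusG (D : SzData F s) {c : Fˣ} (hc : c ≠ 1) (e : SzG F s)
    (h : e * hG D c = hG D c * e) : ∃ c' : Fˣ, e = hG D c' := by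
  obtain ⟨c', he⟩ := cent_torus D hc e.2 (congrArg Subtype.val h)
  exact ⟨c', Subtype.ext he⟩

theorem torusFixG (D : SzData F s) {c : Fˣ} (hc : c ≠ 1) {a : Projectivization F (Fin 4 → F)}
    (ha : a ∈ ov F s) (h : hG D c • a = a) : a = Pinf F ∨ a = P0 F := torus_fix D hc ha h

theorem tG_inv' (D : SzData F s) (a b : F) : (tG D a b)⁻¹ = tG D a (b + a ^ (s + 1)) :=
  Subtype.ext (tS_inv D a b)

theorem tG_eq_one (D : SzData F s) {a b : F} (h : tG D a b = 1) : a = 0 ∧ b = 0 := by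
  rw [← tG_zero_zero D] at h
  exact tG_inj D h

theorem fixCasesG (D : SzData F s) (g : SzG F s) {a : Projectivization F (Fin 4 → F)}
    (ha : a ∈ ov F s) (h : g • a = a) :
    ∃ k : SzG F s, (∃ a' b' : F, k * g * k⁻¹ = tG D a' b') ∨
      (∃ c : Fˣ, k * g * k⁻¹ = hG D c) := by
  obtain ⟨k, hk, h' | h'⟩ := fix_cases D g.2 ha h
  · obtain ⟨a', b', e⟩ := h'
    exact ⟨⟨k, hk⟩, Or.inl ⟨a', b', Subtype.ext e⟩⟩
  · obtain ⟨c, e⟩ := h'
    exact ⟨⟨k, hk⟩, Or.inr ⟨c, Subtype.ext e⟩⟩

theorem tG_pow_four (D : SzData F s) (a b : F) : tG D a b ^ 4 = 1 := by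
  apply Subtype.ext
  rw [Subgroup.coe_pow, Subgroup.coe_one]
  exact tS_pow_four D a b

/-! ### the cyclic self-centralising subgroups -/

/-- the cyclic self-centralising subgroups of `Sz(q)` of the three types -/
def Tor3 (s r : ℕ) (T : Subgroup (SzG F s)) : Prop :=
  IsCyclic T ∧ (Nat.card T = Fintype.card F - 1 ∨ Nat.card T = Fintype.card F + 2 * r + 1 ∨
      Nat.card T + 2 * r = Fintype.card F + 1) ∧
    ∀ u ∈ T, u ≠ 1 → Subgroup.centralizer ({u} : Set (SzG F s)) = T

theorem cent_hconj (D : SzData F s) (k : SzG F s) {c : Fˣ} (hc : c ≠ 1) (x : SzG F s)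
    (hx : k * x * k⁻¹ = hG D c) :
    Subgroup.centralizer ({x} : Set (SzG F s)) =
      ((hG D).range).comap (MulAut.conj k).toMonoidHom := by
  ext e
  rw [Subgroup.mem_centralizer_singleton_iff]
  show e * x = x * e ↔ k * e * k⁻¹ ∈ (hG D).range
  constructor
  · intro h
    have h' : (k * e * k⁻¹) * hG D c = hG D c * (k * e * k⁻¹) := by
      rw [← hx]
      calc k * e * k⁻¹ * (k * x * k⁻¹) = k * (e * x) * k⁻¹ := by group
        _ = k * (x * e) * k⁻¹ := by rw [h]
        _ = k * x * k⁻¹ * (k * e * k⁻¹) := by group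
    obtain ⟨c', hc'⟩ := centTorusG D hc _ h'
    exact ⟨c', hc'.symm⟩
  · rintro ⟨c', hc'⟩
    have h' : (k * e * k⁻¹) * (k * x * k⁻¹) = (k * x * k⁻¹) * (k * e * k⁻¹) := by
      rw [hx, ← hc', ← map_mul, ← map_mul, mul_comm]
    have h2 : k * (e * x) * k⁻¹ = k * (x * e) * k⁻¹ := by
      calc k * (e * x) * k⁻¹ = (k * e * k⁻¹) * (k * x * k⁻¹) := by group
        _ = (k * x * k⁻¹) * (k * e * k⁻¹) := h'
        _ = k * (x * e) * k⁻¹ := by group
    exact mul_left_cancel (mul_right_cancel h2)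

theorem tor3_hconj (D : SzData F s) (r : ℕ) (k : SzG F s) :
    Tor3 s r (((hG D).range).comap (MulAut.conj k).toMonoidHom) := by
  have hmemU : ∀ x : SzG F s, x ∈ ((hG D).range).comap (MulAut.conj k).toMonoidHom ↔
      ∃ c' : Fˣ, k * x * k⁻¹ = hG D c' := by
    intro x
    show (k * x * k⁻¹) ∈ (hG D).range ↔ _
    constructor
    · rintro ⟨c', hc'⟩; exact ⟨c', hc'.symm⟩
    · rintro ⟨c', hc'⟩; exact ⟨c', hc'.symm⟩
  have hinjG : Function.Injective (hG D) := hG_inj D
  refine ⟨?_, Or.inl ?_, ?_⟩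
  · haveI : IsCyclic (hG D).range :=
      isCyclic_of_surjective (hG D).rangeRestrict (hG D).rangeRestrict_surjective
    let f : ↥(((hG D).range).comap (MulAut.conj k).toMonoidHom) →* ↥(hG D).range :=
      { toFun := fun x => ⟨k * (x : SzG F s) * k⁻¹, x.2⟩
        map_one' := Subtype.ext (by
          show k * ((1 : ↥(((hG D).range).comap (MulAut.conj k).toMonoidHom)) : SzG F s) * k⁻¹ = 1
          rw [Subgroup.coe_one, mul_one, mul_inv_cancel])
        map_mul' := fun x y => Subtype.ext (by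
          show k * ((x * y : ↥(((hG D).range).comap (MulAut.conj k).toMonoidHom)) : SzG F s) *
              k⁻¹ = k * (x : SzG F s) * k⁻¹ * (k * (y : SzG F s) * k⁻¹)
          rw [Subgroup.coe_mul]; group) }
    have hinj : Function.Injective f := by
      intro x y h
      have h' : k * (x : SzG F s) * k⁻¹ = k * (y : SzG F s) * k⁻¹ := congrArg Subtype.val h
      exact Subtype.ext (mul_left_cancel (mul_right_cancel h'))
    exact isCyclic_of_injective f hinj
  · have e1 : Nat.card (((hG D).range).comap (MulAut.conj k).toMonoidHom) =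
        Nat.card (hG D).range :=
      Nat.card_congr (Equiv.subtypeEquiv (MulAut.conj k).toEquiv (fun x => Iff.rfl))
    have e2 : Nat.card (hG D).range = Nat.card Fˣ :=
      (Nat.card_congr (MonoidHom.ofInjective hinjG).toEquiv).symm
    rw [e1, e2, Nat.card_units, Nat.card_eq_fintype_card]
  · intro u hu hu1
    obtain ⟨c', hc'⟩ := (hmemU u).mp hu
    have hc1 : c' ≠ 1 := by
      rintro rfl
      rw [map_one] at hc'
      exact hu1 (conj_eq_one_iff.mp hc')
    exact cent_hconj D k hc1 u hc'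

/-- The centraliser of an element which is not a `2`-element is one of the cyclic subgroups. -/
theorem tor3_cent (D : SzData F s) {r : ℕ} (hqr : Fintype.card F = 2 * r ^ 2) (x : SzG F s)
    (hx : x ^ 4 ≠ 1) : Tor3 s r (Subgroup.centralizer ({x} : Set (SzG F s))) := by
  by_cases hfp : Fpf s (x : SL4 F)
  · obtain ⟨A₁, A₂, hA₁, hA₂, hc₁, hc₂, -, -, hsub⟩ := tori D hqr
    refine ⟨cent_cyclic_fpf D hfp, ?_, fun u hu hu1 => cent_eq_of_mem D hfp hu hu1⟩
    rcases hsub hfp with h | h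
    · right; left; rw [card_cent_of_xa D hA₁ h, hc₁]
    · right; right; rw [card_cent_of_xa D hA₂ h, hc₂]
  · have hex : ∃ a ∈ ov F s, (x : SL4 F) • a = a := by
      by_contra h
      apply hfp
      intro a ha hfix
      exact h ⟨a, ha, hfix⟩
    obtain ⟨a, ha, hfix⟩ := hex
    obtain ⟨k, h | ⟨c, hc⟩⟩ := fixCasesG D x ha hfix
    · exfalso
      obtain ⟨a', b', hkx⟩ := h
      apply hx
      have h4 : (k * x * k⁻¹) ^ 4 = 1 := by
        rw [hkx]
        exact tG_pow_four D a' b'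
      rw [conj_pow] at h4
      exact conj_eq_one_iff.mp h4
    · have hc1 : c ≠ 1 := by
        rintro rfl
        rw [map_one] at hc
        apply hx
        rw [conj_eq_one_iff.mp hc, one_pow]
      rw [cent_hconj D k hc1 x hc]
      exact tor3_hconj D r k

/-- An element of odd order normalising the centraliser of `x` centralises `x`. -/
theorem comm_of_normalizes (D : SzData F s)
    (h3 : ¬ 3 ∣ Nat.card (SzG F s)) (x : SzG F s) (hx : x ^ 4 ≠ 1) (g : SzG F s)
    (hodd : ¬ 2 ∣ orderOf g)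
    (hg : (g * x * g⁻¹) * x = x * (g * x * g⁻¹)) : g * x = x * g := by
  have hx1 : x ≠ 1 := by rintro rfl; exact hx (one_pow 4)
  by_cases hfp : Fpf s (x : SL4 F)
  · have hyT : g * x * g⁻¹ ∈ Subgroup.centralizer ({x} : Set (SzG F s)) :=
      Subgroup.mem_centralizer_singleton_iff.mpr hg
    have hy1 : g * x * g⁻¹ ≠ 1 := fun h => hx1 (conj_eq_one_iff.mp h)
    have hCy : Subgroup.centralizer ({g * x * g⁻¹} : Set (SzG F s)) =
        Subgroup.centralizer ({x} : Set (SzG F s)) := cent_eq_of_mem D hfp hyT hy1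
    have hgN := normalizes_cent x g hCy
    have hle := norm_le D hfp
    have hpos : 0 < Nat.card (Subgroup.centralizer ({x} : Set (SzG F s))) := Nat.card_pos
    have hninj : ¬ Function.Injective
        (fun p : Fin 5 × (Subgroup.centralizer ({x} : Set (SzG F s))) =>
          (⟨g ^ (p.1 : ℕ) * (p.2 : SzG F s),
            mul_mem (pow_mem hgN _) (Subgroup.le_normalizer p.2.2)⟩ :
            Subgroup.normalizer ((Subgroup.centralizer ({x} : Set (SzG F s)) :
              Subgroup (SzG F s)) : Set (SzG F s)))) := by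
      intro hinj
      have := Nat.card_le_card_of_injective _ hinj
      rw [Nat.card_prod, Nat.card_fin] at this
      omega
    obtain ⟨⟨i, t⟩, ⟨j, t'⟩, heq, hne⟩ := Function.not_injective_iff.mp hninj
    have heq' : g ^ (i : ℕ) * (t : SzG F s) = g ^ (j : ℕ) * (t' : SzG F s) :=
      congrArg Subtype.val heq
    have hij : (i : ℕ) ≠ (j : ℕ) := by
      intro h
      apply hne
      rw [h] at heq'
      have ht : t = t' := Subtype.ext (mul_left_cancel heq')
      rw [Prod.mk.injEq]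
      exact ⟨Fin.ext h, ht⟩
    have hd : ∃ d : ℕ, 1 ≤ d ∧ d ≤ 4 ∧ g ^ d ∈ Subgroup.centralizer ({x} : Set (SzG F s)) := by
      rcases Nat.lt_or_gt_of_ne hij with h | h
      · refine ⟨j - i, by omega, by omega, ?_⟩
        have e : g ^ ((j : ℕ) - (i : ℕ)) = (t : SzG F s) * (t' : SzG F s)⁻¹ := by
          have h1 : g ^ (j : ℕ) = g ^ (i : ℕ) * g ^ ((j : ℕ) - (i : ℕ)) := by
            rw [← pow_add]; congr 1; omega
          rw [h1, mul_assoc] at heq'
          have h2 := mul_left_cancel heq'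
          rw [h2]; group
        rw [e]; exact mul_mem t.2 (inv_mem t'.2)
      · refine ⟨i - j, by omega, by omega, ?_⟩
        have e : g ^ ((i : ℕ) - (j : ℕ)) = (t' : SzG F s) * (t : SzG F s)⁻¹ := by
          have h1 : g ^ (i : ℕ) = g ^ (j : ℕ) * g ^ ((i : ℕ) - (j : ℕ)) := by
            rw [← pow_add]; congr 1; omega
          rw [h1, mul_assoc] at heq'
          have h2 := mul_left_cancel heq'
          rw [← h2]; group
        rw [e]; exact mul_mem t'.2 (inv_mem t.2)
    obtain ⟨d, hd1, hd4, hdT⟩ := hd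
    have hcop : Nat.Coprime d (orderOf g) := by
      have h3' : ¬ 3 ∣ orderOf g := fun h => h3 (h.trans (orderOf_dvd_natCard g))
      have h2c : Nat.Coprime 2 (orderOf g) := (Nat.Prime.coprime_iff_not_dvd Nat.prime_two).mpr hodd
      interval_cases d
      · exact Nat.coprime_one_left _
      · exact h2c
      · exact (Nat.Prime.coprime_iff_not_dvd Nat.prime_three).mpr h3'
      · have h4c : Nat.Coprime (2 ^ 2) (orderOf g) := Nat.Coprime.pow_left 2 h2c
        exact h4c
    obtain ⟨e, he⟩ := exists_pow_eq_self_of_coprime hcop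
    have hgT : g ∈ Subgroup.centralizer ({x} : Set (SzG F s)) := by
      rw [← he]; exact pow_mem hdT e
    exact Subgroup.mem_centralizer_singleton_iff.mp hgT
  · have hex : ∃ a ∈ ov F s, (x : SL4 F) • a = a := by
      by_contra h
      apply hfp
      intro a ha hfix
      exact h ⟨a, ha, hfix⟩
    obtain ⟨a, ha, hfix⟩ := hex
    obtain ⟨k, h | ⟨c, hc⟩⟩ := fixCasesG D x ha hfix
    · exfalso
      obtain ⟨a', b', hkx⟩ := h
      apply hx
      have h4 : (k * x * k⁻¹) ^ 4 = 1 := by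
        rw [hkx]
        exact tG_pow_four D a' b'
      rw [conj_pow] at h4
      exact conj_eq_one_iff.mp h4
    · have hc1 : c ≠ 1 := by
        rintro rfl
        rw [map_one] at hc
        apply hx
        rw [conj_eq_one_iff.mp hc, one_pow]
      have hy : ((k * g * k⁻¹) * hG D c * (k * g * k⁻¹)⁻¹) * hG D c =
          hG D c * ((k * g * k⁻¹) * hG D c * (k * g * k⁻¹)⁻¹) := by
        rw [← hc]
        calc k * g * k⁻¹ * (k * x * k⁻¹) * (k * g * k⁻¹)⁻¹ * (k * x * k⁻¹)
            = k * ((g * x * g⁻¹) * x) * k⁻¹ := by group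
          _ = k * (x * (g * x * g⁻¹)) * k⁻¹ := by rw [hg]
          _ = k * x * k⁻¹ * (k * g * k⁻¹ * (k * x * k⁻¹) * (k * g * k⁻¹)⁻¹) := by group
      obtain ⟨c', hc'⟩ := centTorusG D hc1 _ hy
      have hc'1 : c' ≠ 1 := by
        rintro rfl
        rw [map_one] at hc'
        have h1 : hG D c = 1 := conj_eq_one_iff.mp hc'
        exact hc1 (hG_inj D (h1.trans (map_one _).symm))
      have hf1 : hG D c' • ((k * g * k⁻¹) • Pinf F) = (k * g * k⁻¹) • Pinf F := by
        rw [← hc', mul_smul, mul_smul, inv_smul_smul, hG_inf]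
      have hf2 : hG D c' • ((k * g * k⁻¹) • P0 F) = (k * g * k⁻¹) • P0 F := by
        rw [← hc', mul_smul, mul_smul, inv_smul_smul, hG_zero]
      have h1 := torusFixG D hc'1 (smul_ov (k * g * k⁻¹) inf_mem) hf1
      have h2 := torusFixG D hc'1 (smul_ov (k * g * k⁻¹) (zero_mem D)) hf2
      have hne : (k * g * k⁻¹) • Pinf F ≠ (k * g * k⁻¹) • P0 F :=
        fun h => P0_ne_inf (MulAction.injective (k * g * k⁻¹) h).symm
      rcases h1 with h1 | h1
      · rcases h2 with h2 | h2
        · exact absurd (h1.trans h2.symm) hne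
        · obtain ⟨d, hd⟩ := stab2G D (k * g * k⁻¹) h1 h2
          have hcomm : (k * g * k⁻¹) * hG D c = hG D c * (k * g * k⁻¹) := by
            rw [hd, ← map_mul, ← map_mul, mul_comm]
          rw [← hc] at hcomm
          have h2' : k * (g * x) * k⁻¹ = k * (x * g) * k⁻¹ := by
            calc k * (g * x) * k⁻¹ = k * g * k⁻¹ * (k * x * k⁻¹) := by group
              _ = k * x * k⁻¹ * (k * g * k⁻¹) := hcomm
              _ = k * (x * g) * k⁻¹ := by group
          exact mul_left_cancel (mul_right_cancel h2')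
      · rcases h2 with h2 | h2
        · exfalso
          obtain ⟨d, hd⟩ := swapG D (k * g * k⁻¹) h1 h2
          have hsq : (k * g * k⁻¹) * (k * g * k⁻¹) = 1 := by
            rw [hd]
            calc wG D * hG D d * (wG D * hG D d) = (wG D * hG D d * wG D) * hG D d := by group
              _ = hG D d⁻¹ * hG D d := by rw [wG_hG]
              _ = 1 := by rw [← map_mul, inv_mul_cancel, map_one]
          have hg2 : g ^ 2 = 1 := by
            have e : k * (g ^ 2) * k⁻¹ = 1 := by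
              rw [← hsq, pow_two]; group
            exact conj_eq_one_iff.mp e
          have hdvd : orderOf g ∣ 2 := orderOf_dvd_of_pow_eq_one hg2
          have ho : orderOf g = 1 := by
            rcases (Nat.dvd_prime Nat.prime_two).mp hdvd with h | h
            · exact h
            · exact absurd (by rw [h]) hodd
          have hg1 : g = 1 := orderOf_eq_one_iff.mp ho
          rw [hg1] at h1
          have e : (k * 1 * k⁻¹ : SzG F s) = 1 := by group
          rw [e, one_smul] at h1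
          exact P0_ne_inf h1.symm
        · exact absurd (h1.trans h2.symm) hne

theorem pow_four_ne {N : Subgroup (SzG F s)} (hodd : ¬ 2 ∣ Nat.card N) {x : SzG F s}
    (hx : x ∈ N) (hx1 : x ≠ 1) : ¬ 2 ∣ orderOf x ∧ x ^ 4 ≠ 1 := by
  have ho : ¬ 2 ∣ orderOf x := by
    intro h
    apply hodd
    have h1 : orderOf (⟨x, hx⟩ : N) ∣ Nat.card N := orderOf_dvd_natCard _
    have e : orderOf (⟨x, hx⟩ : N) = orderOf x := (Subgroup.orderOf_coe (⟨x, hx⟩ : N)).symm
    rw [e] at h1
    exact h.trans h1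
  refine ⟨ho, fun h => ?_⟩
  have hd : orderOf x ∣ 4 := orderOf_dvd_of_pow_eq_one h
  have h2c : Nat.Coprime 2 (orderOf x) := (Nat.Prime.coprime_iff_not_dvd Nat.prime_two).mpr ho
  have h4c : Nat.Coprime (2 ^ 2) (orderOf x) := Nat.Coprime.pow_left 2 h2c
  have h1 : orderOf x = 1 := (Nat.coprime_comm.mp h4c).eq_one_of_dvd hd
  exact hx1 (orderOf_eq_one_iff.mp h1)

/-- Subgroups of odd order of `Sz(q)` are abelian. -/
theorem odd_abelian (D : SzData F s) {r : ℕ} (hqr : Fintype.card F = 2 * r ^ 2)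
    (h3 : ¬ 3 ∣ Nat.card (SzG F s)) (N : Subgroup (SzG F s)) (hodd : ¬ 2 ∣ Nat.card N) :
    ∀ a ∈ N, ∀ b ∈ N, a * b = b * a := by
  have hab : ∀ a b : ↥N, a * b = b * a := by
    apply abelian_of_cent
    · intro x y z hy hxy hyz
      have hy1 : (y : SzG F s) ≠ 1 := fun h => hy (Subtype.ext h)
      have hT := tor3_cent D hqr (y : SzG F s) (pow_four_ne hodd y.2 hy1).2
      have hxC : (x : SzG F s) ∈ Subgroup.centralizer ({(y : SzG F s)} : Set (SzG F s)) :=
        Subgroup.mem_centralizer_singleton_iff.mpr (congrArg Subtype.val hxy)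
      have hzC : (z : SzG F s) ∈ Subgroup.centralizer ({(y : SzG F s)} : Set (SzG F s)) :=
        Subgroup.mem_centralizer_singleton_iff.mpr (congrArg Subtype.val hyz).symm
      haveI := hT.1
      letI : CommGroup ↥(Subgroup.centralizer ({(y : SzG F s)} : Set (SzG F s))) :=
        IsCyclic.commGroup
      have hc := congrArg Subtype.val
        (mul_comm (⟨_, hxC⟩ : ↥(Subgroup.centralizer ({(y : SzG F s)} : Set (SzG F s))))
          ⟨_, hzC⟩)
      exact Subtype.ext hc
    · intro x g hx hc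
      have hx1 : (x : SzG F s) ≠ 1 := fun h => hx (Subtype.ext h)
      have hx1' : (g : SzG F s) = 1 ∨ (g : SzG F s) ≠ 1 := em _
      have hgo : ¬ 2 ∣ orderOf (g : SzG F s) := by
        rcases hx1' with h | h
        · rw [h, orderOf_one]; norm_num
        · exact (pow_four_ne hodd g.2 h).1
      have hcomm := comm_of_normalizes D h3 (x : SzG F s) (pow_four_ne hodd x.2 hx1).2
        (g : SzG F s) hgo (congrArg Subtype.val hc)
      exact Subtype.ext hcomm
  intro a ha b hb
  exact congrArg Subtype.val (hab ⟨a, ha⟩ ⟨b, hb⟩)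

/-- A subgroup normalising a non-trivial subgroup of odd order normalises a cyclic
self-centralising subgroup. -/
theorem tor_of_odd_normal (D : SzData F s) {r : ℕ} (hqr : Fintype.card F = 2 * r ^ 2)
    (h3 : ¬ 3 ∣ Nat.card (SzG F s)) (M N : Subgroup (SzG F s)) (hodd : ¬ 2 ∣ Nat.card N)
    (hN : N ≠ ⊥) (hnorm : ∀ g ∈ M, ∀ x ∈ N, g * x * g⁻¹ ∈ N) :
    ∃ T : Subgroup (SzG F s), Tor3 s r T ∧ M ≤ Subgroup.normalizer (T : Set (SzG F s)) := by
  obtain ⟨⟨x, hxN⟩, hx1'⟩ := (Subgroup.ne_bot_iff_exists_ne_one).mp hN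
  have hx1 : x ≠ 1 := fun h => hx1' (Subtype.ext h)
  have hab := odd_abelian D hqr h3 N hodd
  have hT := tor3_cent D hqr x (pow_four_ne hodd hxN hx1).2
  refine ⟨_, hT, ?_⟩
  intro g hg
  have hy := hnorm g hg x hxN
  have hyC : g * x * g⁻¹ ∈ Subgroup.centralizer ({x} : Set (SzG F s)) :=
    Subgroup.mem_centralizer_singleton_iff.mpr (hab _ hy _ hxN)
  have hy1 : g * x * g⁻¹ ≠ 1 := fun h => hx1 (conj_eq_one_iff.mp h)
  exact normalizes_cent x g (hT.2.2 _ hyC hy1)

/-- A subgroup fixing a point of the ovoid normalises a Sylow `2`-subgroup. -/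
theorem sylow_of_fix (D : SzData F s) (M : Subgroup (SzG F s))
    {a : Projectivization F (Fin 4 → F)} (ha : a ∈ ov F s) (hfix : ∀ g ∈ M, g • a = a) :
    ∃ P : Sylow 2 (SzG F s),
      M ≤ Subgroup.normalizer ((P : Subgroup (SzG F s)) : Set (SzG F s)) := by
  haveI : Fact (Nat.Prime 2) := ⟨Nat.prime_two⟩
  obtain ⟨P₀, hP₀⟩ := exists_sylow_U D
  obtain ⟨k, hk, hka⟩ := exists_to_inf D ha
  have hmem : ∀ (Q : Sylow 2 (SzG F s)) (x : SzG F s), x • Q = Q ↔
      x ∈ Subgroup.normalizer ((Q : Subgroup (SzG F s)) : Set (SzG F s)) :=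
    fun Q x => Sylow.smul_eq_iff_mem_normalizer
  refine ⟨(⟨k, hk⟩ : SzG F s)⁻¹ • P₀, ?_⟩
  intro g hg
  rw [← hmem]
  have ha' : ((⟨k, hk⟩ : SzG F s)⁻¹) • Pinf F = a := by
    rw [inv_smul_eq_iff]; exact hka.symm
  have h1 : ((⟨k, hk⟩ : SzG F s) * g * (⟨k, hk⟩ : SzG F s)⁻¹) • P₀ = P₀ := by
    rw [hmem, hP₀, normalizer_U D]
    show ((⟨k, hk⟩ : SzG F s) * g * (⟨k, hk⟩ : SzG F s)⁻¹) • Pinf F = Pinf F
    rw [mul_smul, mul_smul, ha', hfix g hg]
    exact hka
  calc g • (⟨k, hk⟩ : SzG F s)⁻¹ • P₀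
      = (⟨k, hk⟩ : SzG F s)⁻¹ • (((⟨k, hk⟩ : SzG F s) * g * (⟨k, hk⟩ : SzG F s)⁻¹) • P₀) := by
        rw [← mul_smul, ← mul_smul]; congr 1; group
    _ = (⟨k, hk⟩ : SzG F s)⁻¹ • P₀ := by rw [h1]

/-! ### transport along conjugation -/

theorem tor_conj (g : SzG F s) (M T : Subgroup (SzG F s)) (hT : IsCyclic T)
    (hM : M.map (MulAut.conj g).toMonoidHom ≤ Subgroup.normalizer (T : Set (SzG F s))) :
    ∃ T' : Subgroup (SzG F s), IsCyclic T' ∧ Nat.card T' = Nat.card T ∧
      M ≤ Subgroup.normalizer (T' : Set (SzG F s)) := by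
  have hmem : ∀ y : SzG F s, y ∈ T.map (MulAut.conj g⁻¹).toMonoidHom ↔ g * y * g⁻¹ ∈ T := by
    intro y
    constructor
    · rintro ⟨t', ht', rfl⟩
      show g * (g⁻¹ * t' * g⁻¹⁻¹) * g⁻¹ ∈ T
      have e : g * (g⁻¹ * t' * g⁻¹⁻¹) * g⁻¹ = t' := by group
      rw [e]; exact ht'
    · intro h
      exact ⟨g * y * g⁻¹, h, by show g⁻¹ * (g * y * g⁻¹) * g⁻¹⁻¹ = y; group⟩
  refine ⟨T.map (MulAut.conj g⁻¹).toMonoidHom, ?_, ?_, ?_⟩
  · haveI := hT
    exact isCyclic_of_surjective ((MulAut.conj g⁻¹).toMonoidHom.subgroupMap T)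
      ((MulAut.conj g⁻¹).toMonoidHom.subgroupMap_surjective T)
  · exact (Nat.card_congr
      (T.equivMapOfInjective _ (MulAut.conj g⁻¹).injective).toEquiv).symm
  · intro x hx
    have h1 : g * x * g⁻¹ ∈ Subgroup.normalizer (T : Set (SzG F s)) := hM ⟨x, hx, rfl⟩
    rw [Subgroup.mem_set_normalizer_iff] at h1 ⊢
    intro t
    show t ∈ T.map (MulAut.conj g⁻¹).toMonoidHom ↔
      x * t * x⁻¹ ∈ T.map (MulAut.conj g⁻¹).toMonoidHom
    rw [hmem, hmem]
    have h2 := h1 (g * t * g⁻¹)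
    have e : g * x * g⁻¹ * (g * t * g⁻¹) * (g * x * g⁻¹)⁻¹ = g * (x * t * x⁻¹) * g⁻¹ := by
      group
    rw [e] at h2
    exact h2

theorem sub_conj' {H : Type*} [Group H] (g : SzG F s) (M S' : Subgroup (SzG F s))
    (e : S' ≃* H) (hM : M.map (MulAut.conj g).toMonoidHom ≤ S') :
    ∃ S'' : Subgroup (SzG F s), Nonempty (S'' ≃* H) ∧ M ≤ S'' := by
  refine ⟨S'.map (MulAut.conj g⁻¹).toMonoidHom,
    ⟨(S'.equivMapOfInjective _ (MulAut.conj g⁻¹).injective).symm.trans e⟩, ?_⟩
  intro x hx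
  exact ⟨g * x * g⁻¹, hM ⟨x, hx, rfl⟩, by show g⁻¹ * (g * x * g⁻¹) * g⁻¹⁻¹ = x; group⟩

end Cfsg.Agent.Helper6.SzSg
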