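import Mathlib
import Cfsg.Agent.Helper6.SzSg1

set_option autoImplicit false

/-!
Subgroups of the Suzuki group `Sz(q)`, part 2: involutions of a subgroup with different fixed points
are swapped by an involution of the subgroup; subgroups with a unique involution in a Sylow
`2`-subgroup have a normal `2`-complement and normalise a cyclic self-centralising subgroup.
-/

namespace Cfsg.Agent.Helper6.SzSg

open Matrix Cfsg.Agent.Helper6.Sz Cfsg.Agent.Helper6.SzOut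
open scoped Pointwise

/-- In a dihedral group of twice odd order, two reflections are swapped by a reflection. -/
theorem dihedral_swap {G : Type*} [Group G] (t t' : G) (ht : t * t = 1) (ht' : t' * t' = 1)
    {k : ℕ} (hk : (t * t') ^ (2 * k + 1) = 1) :
    ∃ y : G, y ∈ Subgroup.closure ({t, t'} : Set G) ∧ y * y = 1 ∧ y * t * y = t' := by
  have hti : t⁻¹ = t := inv_eq_of_mul_eq_one_right ht
  have ht'i : t'⁻¹ = t' := inv_eq_of_mul_eq_one_right ht'
  have h1 : t * (t * t') * t⁻¹ = (t * t')⁻¹ := by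
    rw [hti, _root_.mul_inv_rev, ht'i, hti, ← mul_assoc, ht, one_mul]
  have hconj : ∀ j : ℕ, t * (t * t') ^ j * t = ((t * t')⁻¹) ^ j := by
    intro j
    rw [← h1, conj_pow, hti]
  have hpp : (t * t') ^ (k + 1) * (t * t') ^ (k + 1) = t * t' := by
    rw [← pow_add, show k + 1 + (k + 1) = 2 * k + 1 + 1 by omega, pow_succ, hk, one_mul]
  have htm : t ∈ Subgroup.closure ({t, t'} : Set G) := Subgroup.subset_closure (by simp)
  have htm' : t' ∈ Subgroup.closure ({t, t'} : Set G) := Subgroup.subset_closure (by simp)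
  refine ⟨t * (t * t') ^ (k + 1), ?_, ?_, ?_⟩
  · exact mul_mem htm (pow_mem (mul_mem htm htm') _)
  · calc t * (t * t') ^ (k + 1) * (t * (t * t') ^ (k + 1))
        = (t * (t * t') ^ (k + 1) * t) * (t * t') ^ (k + 1) := by simp only [mul_assoc]
      _ = 1 := by rw [hconj, inv_pow, inv_mul_cancel]
  · calc t * (t * t') ^ (k + 1) * t * (t * (t * t') ^ (k + 1))
        = t * ((t * t') ^ (k + 1) * ((t * t) * (t * t') ^ (k + 1))) := by simp only [mul_assoc]
      _ = t * ((t * t') ^ (k + 1) * (t * t') ^ (k + 1)) := by rw [ht, one_mul]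
      _ = t' := by rw [hpp, ← mul_assoc, ht, one_mul]

variable {F : Type*} [Field F] [Fintype F] {s : ℕ}

theorem pow_succ_inj (D : SzData F s) {x y : F} (h : x ^ (s + 1) = y ^ (s + 1)) : x = y := by
  by_cases hy : y = 0
  · subst hy
    rw [zero_pow (by omega : s + 1 ≠ 0)] at h
    exact (pow_eq_zero_iff (by omega : s + 1 ≠ 0)).mp h
  · have h1 : (x / y) ^ (s + 1) = 1 := by rw [div_pow, h, div_self (pow_ne_zero _ hy)]
    exact (div_eq_one_iff_eq hy).mp (D.one_of_pow_succ h1)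

theorem unit_pow_inj (D : SzData F s) {c c' : Fˣ}
    (h : (c : F) ^ (2 * s + 2) = (c' : F) ^ (2 * s + 2)) : c = c' := by
  have e : (s + 1) * 2 = 2 * s + 2 := by ring
  have h1 : ((c : F) ^ (s + 1)) ^ 2 = ((c' : F) ^ (s + 1)) ^ 2 := by
    rw [← pow_mul, ← pow_mul, e]; exact h
  exact Units.ext (pow_succ_inj D (D.sq_inj h1))

theorem tG_central (D : SzData F s) (a b z : F) :
    tG D a b * tG D 0 z = tG D 0 z * tG D a b := by
  rw [tG_mul, tG_mul, zero_pow D.s_ne]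
  congr 1 <;> ring

theorem borel_conj (D : SzData F s) (a b : F) (c : Fˣ) (v : F) :
    (tG D a b * hG D c) * tG D 0 v * (tG D a b * hG D c)⁻¹ =
      tG D 0 ((c : F) ^ (2 * s + 2) * v) := by
  rw [mul_inv_eq_iff_eq_mul]
  exact Subtype.ext (conj_center D a b c v)

/-- The product of two involutions of `Sz(q)` with different fixed points has odd order. -/
theorem odd_prod (D : SzData F s) {z : F} (hz : z ≠ 0) (t' : SzG F s) (ht' : t' * t' = 1)
    {p : Projectivization F (Fin 4 → F)} (hp : p ∈ ov F s) (hp1 : p ≠ Pinf F)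
    (hfix : t' • p = p) (honly : ∀ q ∈ ov F s, t' • q = q → q = p) :
    ¬ 2 ∣ orderOf (tG D 0 z * t') := by
  intro h2
  have ht : tG D 0 z * tG D 0 z = 1 := tG_zero_sq D z
  have hti : (tG D 0 z)⁻¹ = tG D 0 z := inv_eq_of_mul_eq_one_right ht
  have ht'i : t'⁻¹ = t' := inv_eq_of_mul_eq_one_right ht'
  have hrinv : (tG D 0 z * t')⁻¹ = t' * tG D 0 z := by rw [_root_.mul_inv_rev, hti, ht'i]
  have h1 : tG D 0 z * (tG D 0 z * t') * (tG D 0 z)⁻¹ = (tG D 0 z * t')⁻¹ := by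
    rw [hrinv, hti, ← mul_assoc, ht, one_mul]
  have h1' : t' * (tG D 0 z * t') * t'⁻¹ = (tG D 0 z * t')⁻¹ := by
    rw [hrinv, ht'i]
    calc t' * (tG D 0 z * t') * t' = t' * tG D 0 z * (t' * t') := by simp only [mul_assoc]
      _ = t' * tG D 0 z := by rw [ht', mul_one]
  generalize tG D 0 z * t' = r at h2 h1 h1'
  obtain ⟨j, hj⟩ := h2
  have hn0 : 0 < orderOf r := orderOf_pos r
  have hj0 : 0 < j := by omega
  have hc1 : r ^ j ≠ 1 := by
    intro h
    have h' := Nat.le_of_dvd hj0 (orderOf_dvd_of_pow_eq_one h)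
    omega
  have hc2 : r ^ j * r ^ j = 1 := by rw [← pow_add, ← two_mul, ← hj, pow_orderOf_eq_one]
  have hcinv : (r ^ j)⁻¹ = r ^ j := inv_eq_of_mul_eq_one_right hc2
  have hct : r ^ j * tG D 0 z = tG D 0 z * r ^ j := by
    have e : tG D 0 z * r ^ j * (tG D 0 z)⁻¹ = r ^ j := by rw [← conj_pow, h1, inv_pow, hcinv]
    calc r ^ j * tG D 0 z = (tG D 0 z * r ^ j * (tG D 0 z)⁻¹) * tG D 0 z := by rw [e]
      _ = tG D 0 z * r ^ j := by group
  have hct' : t' * r ^ j = r ^ j * t' := by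
    have e : t' * r ^ j * t'⁻¹ = r ^ j := by rw [← conj_pow, h1', inv_pow, hcinv]
    calc t' * r ^ j = (t' * r ^ j * t'⁻¹) * t' := by group
      _ = r ^ j * t' := by rw [e]
  obtain ⟨a', b', hc⟩ := centUnipG D (fun h => hz h.2) (r ^ j) hct
  have hab : ¬ (a' = 0 ∧ b' = 0) := by
    rintro ⟨rfl, rfl⟩
    rw [tG_zero_zero D] at hc
    exact hc1 hc
  have hcp : t' • (r ^ j • p) = r ^ j • p := by
    rw [← mul_smul, hct', mul_smul, hfix]
  have hcp' := honly _ (smul_ov _ hp) hcp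
  rw [hc] at hcp'
  exact hp1 (unipFixG D hab hp hcp')

/-- Two involutions of a subgroup with different fixed points are swapped by an involution of the
subgroup. -/
theorem swap_exists (D : SzData F s) (M : Subgroup (SzG F s)) {z₁ z : F} (hz₁ : z₁ ≠ 0)
    (hz : z ≠ 0) (h₁ : tG D 0 z₁ ∈ M) (h : tG D 0 z ∈ M) {g : SzG F s} (hg : g ∈ M)
    (hgp : g • Pinf F ≠ Pinf F) :
    ∃ y ∈ M, y * y = 1 ∧ y * tG D 0 z₁ * y = g * tG D 0 z * g⁻¹ ∧ y • Pinf F = g • Pinf F ∧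
      y • (g • Pinf F) = Pinf F := by
  have ht'M : g * tG D 0 z * g⁻¹ ∈ M := mul_mem (mul_mem hg h) (inv_mem hg)
  have ht'2 : (g * tG D 0 z * g⁻¹) * (g * tG D 0 z * g⁻¹) = 1 := by
    calc g * tG D 0 z * g⁻¹ * (g * tG D 0 z * g⁻¹) = g * (tG D 0 z * tG D 0 z) * g⁻¹ := by group
      _ = 1 := by rw [tG_zero_sq D z]; group
  have hpov : g • Pinf F ∈ ov F s := smul_ov g inf_mem
  have hfix : (g * tG D 0 z * g⁻¹) • (g • Pinf F) = g • Pinf F := by
    rw [mul_smul, mul_smul, inv_smul_smul, tG_inf]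
  have honly : ∀ q ∈ ov F s, (g * tG D 0 z * g⁻¹) • q = q → q = g • Pinf F := by
    intro q hq hq'
    have h1 : tG D 0 z • (g⁻¹ • q) = g⁻¹ • q := by
      rw [eq_inv_smul_iff, ← mul_smul, ← mul_smul]
      exact hq'
    have h2 := unipFixG D (fun h' => hz h'.2) (smul_ov g⁻¹ hq) h1
    rw [inv_smul_eq_iff] at h2
    exact h2
  have hodd := odd_prod D hz₁ (g * tG D 0 z * g⁻¹) ht'2 hpov hgp hfix honly
  obtain ⟨k, hk⟩ : Odd (orderOf (tG D 0 z₁ * (g * tG D 0 z * g⁻¹))) :=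
    Nat.odd_iff.mpr (by omega)
  have hpow : (tG D 0 z₁ * (g * tG D 0 z * g⁻¹)) ^ (2 * k + 1) = 1 := by
    rw [← hk]; exact pow_orderOf_eq_one _
  obtain ⟨y, hyc, hy2, hyt⟩ :=
    dihedral_swap (tG D 0 z₁) (g * tG D 0 z * g⁻¹) (tG_zero_sq D z₁) ht'2 hpow
  have hyM : y ∈ M := by
    have hle : Subgroup.closure ({tG D 0 z₁, g * tG D 0 z * g⁻¹} : Set (SzG F s)) ≤ M := by
      rw [Subgroup.closure_le]
      intro x hx
      rcases hx with hx | hx
      · rw [hx]; exact h₁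
      · rw [Set.mem_singleton_iff.mp hx]; exact ht'M
    exact hle hyc
  have hyinf : y • Pinf F = g • Pinf F := by
    apply honly _ (smul_ov y inf_mem)
    have e : (g * tG D 0 z * g⁻¹) * y = y * tG D 0 z₁ := by
      rw [← hyt]
      calc y * tG D 0 z₁ * y * y = y * tG D 0 z₁ * (y * y) := by simp only [mul_assoc]
        _ = y * tG D 0 z₁ := by rw [hy2, mul_one]
    rw [← mul_smul, e, mul_smul, tG_inf]
  refine ⟨y, hyM, hy2, hyt, hyinf, ?_⟩
  rw [← hyinf, ← mul_smul, hy2, one_smul]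

/-- The stabiliser of `∞` and another point of the orbit is transitive on the involutions fixing
`∞`. -/
theorem trans_inv (D : SzData F s) (M : Subgroup (SzG F s)) {z₁ z₂ : F} (hz₁ : z₁ ≠ 0)
    (hz₂ : z₂ ≠ 0) (h₁ : tG D 0 z₁ ∈ M) (h₂ : tG D 0 z₂ ∈ M) {g : SzG F s} (hg : g ∈ M)
    (hgp : g • Pinf F ≠ Pinf F) :
    ∃ x ∈ M, x • Pinf F = Pinf F ∧ x • (g • Pinf F) = g • Pinf F ∧
      x * tG D 0 z₁ * x⁻¹ = tG D 0 z₂ := by
  obtain ⟨y₁, hy₁M, hy₁2, hy₁t, hy₁a, hy₁b⟩ := swap_exists D M hz₁ hz₁ h₁ h₁ hg hgp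
  obtain ⟨y₂, hy₂M, hy₂2, hy₂t, hy₂a, hy₂b⟩ := swap_exists D M hz₂ hz₁ h₂ h₁ hg hgp
  refine ⟨y₂ * y₁, mul_mem hy₂M hy₁M, ?_, ?_, ?_⟩
  · rw [mul_smul, hy₁a, hy₂b]
  · rw [mul_smul, hy₁b, hy₂a]
  · have hy₁i : y₁⁻¹ = y₁ := inv_eq_of_mul_eq_one_right hy₁2
    have hy₂i : y₂⁻¹ = y₂ := inv_eq_of_mul_eq_one_right hy₂2
    rw [_root_.mul_inv_rev, hy₁i, hy₂i]
    calc y₂ * y₁ * tG D 0 z₁ * (y₁ * y₂) = y₂ * (y₁ * tG D 0 z₁ * y₁) * y₂ := by
          simp only [mul_assoc]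
      _ = y₂ * (y₂ * tG D 0 z₂ * y₂) * y₂ := by rw [hy₁t, ← hy₂t]
      _ = (y₂ * y₂) * tG D 0 z₂ * (y₂ * y₂) := by simp only [mul_assoc]
      _ = tG D 0 z₂ := by rw [hy₂2, one_mul, mul_one]

/-- A subgroup with a unique involution fixing `∞` which does not fix `∞` normalises a cyclic
self-centralising subgroup. -/
theorem uniq_case (D : SzData F s) {r : ℕ} (hqr : Fintype.card F = 2 * r ^ 2)
    (h3 : ¬ 3 ∣ Nat.card (SzG F s)) (M : Subgroup (SzG F s)) {z₀ : F} (hz₀ : z₀ ≠ 0)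
    (h₀ : tG D 0 z₀ ∈ M) (huniq : ∀ z : F, z ≠ 0 → tG D 0 z ∈ M → z = z₀)
    (hnf : ∃ g ∈ M, g • Pinf F ≠ Pinf F) :
    ∃ T : Subgroup (SzG F s), Tor3 s r T ∧ M ≤ Subgroup.normalizer (T : Set (SzG F s)) := by
  haveI : Fact (Nat.Prime 2) := ⟨Nat.prime_two⟩
  have hUab : ∀ a b c d : F, tG D a b ∈ M → tG D c d ∈ M →
      tG D a b * tG D c d = tG D c d * tG D a b := by
    intro a b c d hab hcd
    have hsq : ∀ a b : F, tG D a b ∈ M → a ≠ 0 → a ^ (s + 1) = z₀ := by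
      intro a b h ha
      have h2 : tG D 0 (a ^ (s + 1)) ∈ M := by rw [← tG_sq D a b]; exact mul_mem h h
      exact huniq _ (pow_ne_zero _ ha) h2
    by_cases ha : a = 0
    · subst ha; exact (tG_central D c d b).symm
    by_cases hc : c = 0
    · subst hc; exact tG_central D a b d
    have hac : a = c := pow_succ_inj D ((hsq a b hab ha).trans (hsq c d hcd hc).symm)
    subst hac
    rw [tG_mul, tG_mul]
    congr 1
    ring
  have hne1 : tG D 0 z₀ ≠ 1 := fun h => hz₀ (tG_eq_one D h).2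
  have ht₀2 : (⟨tG D 0 z₀, h₀⟩ : ↥M) * ⟨tG D 0 z₀, h₀⟩ = 1 := Subtype.ext (tG_zero_sq D z₀)
  have hzp : IsPGroup 2 (Subgroup.zpowers (⟨tG D 0 z₀, h₀⟩ : ↥M)) := by
    have hord : orderOf (⟨tG D 0 z₀, h₀⟩ : ↥M) ∣ 2 ^ 1 := by
      rw [pow_one]
      exact orderOf_dvd_of_pow_eq_one (by rw [pow_two]; exact ht₀2)
    obtain ⟨j, -, hj⟩ := (Nat.dvd_prime_pow Nat.prime_two).mp hord
    exact IsPGroup.of_card (n := j) (by rw [Nat.card_zpowers, hj])
  obtain ⟨P, hP⟩ := hzp.exists_le_sylow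
  have ht₀P : (⟨tG D 0 z₀, h₀⟩ : ↥M) ∈ (P : Subgroup ↥M) := hP (Subgroup.mem_zpowers _)
  obtain ⟨P₀, hP₀⟩ := exists_sylow_U D
  have hPU : ∀ y : ↥M, y ∈ (P : Subgroup ↥M) → ∃ a b : F, (y : SzG F s) = tG D a b := by
    intro y hy
    have hPG : IsPGroup 2 ((P : Subgroup ↥M).map M.subtype) := P.isPGroup'.map M.subtype
    obtain ⟨Q, hQ⟩ := hPG.exists_le_sylow
    have ht₀Q : tG D 0 z₀ ∈ (Q : Subgroup (SzG F s)) := hQ ⟨⟨tG D 0 z₀, h₀⟩, ht₀P, rfl⟩
    have ht₀U : tG D 0 z₀ ∈ (P₀ : Subgroup (SzG F s)) := by rw [hP₀]; exact mem_U D 0 z₀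
    have hQP := sylow_unique D hne1 ht₀Q ht₀U
    have hyQ : (y : SzG F s) ∈ (Q : Subgroup (SzG F s)) := hQ ⟨y, hy, rfl⟩
    rw [hQP, hP₀] at hyQ
    obtain ⟨a, b, h⟩ := hyQ
    exact ⟨a, b, Subtype.ext h⟩
  have hNC : Subgroup.normalizer ((P : Subgroup ↥M) : Set ↥M) ≤
      Subgroup.centralizer ((P : Subgroup ↥M) : Set ↥M) := by
    intro x hx
    rw [Subgroup.mem_set_normalizer_iff] at hx
    have h1 : x * ⟨tG D 0 z₀, h₀⟩ * x⁻¹ ∈ (P : Subgroup ↥M) := (hx _).mp ht₀P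
    obtain ⟨a, b, hab⟩ := hPU _ h1
    have hab' : (x : SzG F s) * tG D 0 z₀ * (x : SzG F s)⁻¹ = tG D a b := hab
    have hsq : tG D a b * tG D a b = 1 := by
      rw [← hab']
      calc (x : SzG F s) * tG D 0 z₀ * (x : SzG F s)⁻¹ *
            ((x : SzG F s) * tG D 0 z₀ * (x : SzG F s)⁻¹)
          = (x : SzG F s) * (tG D 0 z₀ * tG D 0 z₀) * (x : SzG F s)⁻¹ := by group
        _ = 1 := by rw [tG_zero_sq D z₀]; group
    rw [tG_sq] at hsq
    have ha0 : a = 0 := (pow_eq_zero_iff (by omega : s + 1 ≠ 0)).mp (tG_eq_one D hsq).2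
    rw [ha0] at hab'
    have habM : tG D 0 b ∈ M := by
      rw [← hab']; exact mul_mem (mul_mem x.2 h₀) (inv_mem x.2)
    have hb0 : b ≠ 0 := by
      intro hb
      rw [hb, tG_zero_zero D] at hab'
      exact hne1 (conj_eq_one_iff.mp hab')
    have hbz := huniq b hb0 habM
    rw [hbz] at hab'
    have hcomm : (x : SzG F s) * tG D 0 z₀ = tG D 0 z₀ * (x : SzG F s) := by
      calc (x : SzG F s) * tG D 0 z₀
          = ((x : SzG F s) * tG D 0 z₀ * (x : SzG F s)⁻¹) * (x : SzG F s) := by group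
        _ = tG D 0 z₀ * (x : SzG F s) := by rw [hab']
    obtain ⟨a', b', hx'⟩ := centUnipG D (fun h => hz₀ h.2) (x : SzG F s) hcomm
    rw [Subgroup.mem_centralizer_iff]
    intro y hy
    obtain ⟨a'', b'', hy'⟩ := hPU y hy
    apply Subtype.ext
    show (y : SzG F s) * (x : SzG F s) = (x : SzG F s) * (y : SzG F s)
    rw [hx', hy']
    exact hUab a'' b'' a' b' (by rw [← hy']; exact y.2) (by rw [← hx']; exact x.2)
  have hcompl := MonoidHom.ker_transferSylow_isComplement' P hNC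
  have hodd : ¬ 2 ∣ Nat.card (MonoidHom.transferSylow P hNC).ker :=
    MonoidHom.not_dvd_card_ker_transferSylow P hNC
  haveI hNn : (MonoidHom.transferSylow P hNC).ker.Normal := MonoidHom.normal_ker _
  have hNbot : (MonoidHom.transferSylow P hNC).ker ≠ ⊥ := by
    intro hbot
    rw [hbot] at hcompl
    have hPtop : (P : Subgroup ↥M) = ⊤ := Subgroup.isComplement'_bot_left.mp hcompl
    obtain ⟨g, hg, hgp⟩ := hnf
    have hgP : (⟨g, hg⟩ : ↥M) ∈ (P : Subgroup ↥M) := by rw [hPtop]; exact Subgroup.mem_top _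
    obtain ⟨a, b, hab⟩ := hPU _ hgP
    apply hgp
    have e : g = tG D a b := hab
    rw [e, tG_inf]
  have hinj : Function.Injective M.subtype := Subgroup.subtype_injective M
  have hcard : Nat.card ((MonoidHom.transferSylow P hNC).ker.map M.subtype) =
      Nat.card (MonoidHom.transferSylow P hNC).ker :=
    (Nat.card_congr
      ((MonoidHom.transferSylow P hNC).ker.equivMapOfInjective _ hinj).toEquiv).symm
  have hodd' : ¬ 2 ∣ Nat.card ((MonoidHom.transferSylow P hNC).ker.map M.subtype) := by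
    rw [hcard]; exact hodd
  have hne' : (MonoidHom.transferSylow P hNC).ker.map M.subtype ≠ ⊥ := by
    intro h
    apply hNbot
    exact (Subgroup.map_eq_bot_iff_of_injective _ hinj).mp h
  have hnorm : ∀ g ∈ M, ∀ x ∈ (MonoidHom.transferSylow P hNC).ker.map M.subtype,
      g * x * g⁻¹ ∈ (MonoidHom.transferSylow P hNC).ker.map M.subtype := by
    intro g hg x hx
    obtain ⟨n, hn, hnx⟩ := hx
    have hc : (⟨g, hg⟩ : ↥M) * n * (⟨g, hg⟩ : ↥M)⁻¹ ∈ (MonoidHom.transferSylow P hNC).ker :=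
      hNn.conj_mem n hn ⟨g, hg⟩
    have he : M.subtype ((⟨g, hg⟩ : ↥M) * n * (⟨g, hg⟩ : ↥M)⁻¹) = g * x * g⁻¹ := by
      rw [← hnx, map_mul, map_mul, map_inv]
      rfl
    exact ⟨_, hc, he⟩
  exact tor_of_odd_normal D hqr h3 M _ hodd' hne' hnorm

end Cfsg.Agent.Helper6.SzSg
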