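import Mathlib
import Cfsg.Agent.Helper6.SzSg2

set_option autoImplicit false

/-!
Subgroups of the Suzuki group `Sz(q)`, part 3: a subgroup containing the inversion `w` and two
involutions fixing `∞` is doubly transitive on the orbit of `∞` and is contained in a subfield
subgroup.
-/

namespace Cfsg.Agent.Helper6.SzSg

open Matrix Cfsg.Agent.Helper6.Sz Cfsg.Agent.Helper6.SzOut Cfsg.Agent.Helper6.SzSub
open scoped Pointwise

variable {F : Type*} [Field F] [Fintype F] {s : ℕ}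

/-- the normalised position of a subgroup -/
structure Nrm (D : SzData F s) (M : Subgroup (SzG F s)) : Prop where
  w : wG D ∈ M
  inv : ∃ z₁ z₂ : F, z₁ ≠ 0 ∧ z₂ ≠ 0 ∧ z₁ ≠ z₂ ∧ tG D 0 z₁ ∈ M ∧ tG D 0 z₂ ∈ M

theorem nrm_trans (D : SzData F s) {M : Subgroup (SzG F s)} (hN : Nrm D M) {z z' : F}
    (hz : z ≠ 0) (hz' : z' ≠ 0) (h : tG D 0 z ∈ M) (h' : tG D 0 z' ∈ M) :
    ∃ c : Fˣ, hG D c ∈ M ∧ z' = (c : F) ^ (2 * s + 2) * z := by
  have hwp : wG D • Pinf F ≠ Pinf F := by rw [wG_inf]; exact P0_ne_inf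
  obtain ⟨x, hxM, hx1, hx2, hx3⟩ := trans_inv D M hz hz' h h' hN.w hwp
  rw [wG_inf] at hx2
  obtain ⟨c, rfl⟩ := stab2G D x hx1 hx2
  refine ⟨c, hxM, ?_⟩
  have e := hG_conj_tG D c 0 z
  rw [hx3, mul_zero] at e
  exact (tG_inj D e).2

theorem nrm_borel (D : SzData F s) {M : Subgroup (SzG F s)} (hN : Nrm D M) {x : SzG F s}
    (hx : x ∈ M) (hfix : x • Pinf F = Pinf F) :
    ∃ a b : F, ∃ c : Fˣ, x = tG D a b * hG D c ∧ tG D a b ∈ M ∧ hG D c ∈ M := by
  obtain ⟨z₁, z₂, hz₁, hz₂, hne, h₁, h₂⟩ := hN.inv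
  obtain ⟨a, b, c, rfl⟩ := stabG D x hfix
  have hconj : tG D 0 ((c : F) ^ (2 * s + 2) * z₁) ∈ M := by
    rw [← borel_conj D a b c z₁]
    exact mul_mem (mul_mem hx h₁) (inv_mem hx)
  have hne0 : (c : F) ^ (2 * s + 2) * z₁ ≠ 0 := mul_ne_zero (pow_ne_zero _ c.ne_zero) hz₁
  obtain ⟨c', hc'M, hc'⟩ := nrm_trans D hN hz₁ hne0 h₁ hconj
  have hcc : c = c' := unit_pow_inj D (mul_right_cancel₀ hz₁ hc')
  subst hcc
  refine ⟨a, b, c, rfl, ?_, hc'M⟩
  have e : tG D a b = (tG D a b * hG D c) * (hG D c)⁻¹ := by group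
  rw [e]
  exact mul_mem hx (inv_mem hc'M)

/-- The translations of the subgroup are transitive on the orbit of `∞` without `∞`. -/
theorem nrm_orbit (D : SzData F s) {M : Subgroup (SzG F s)} (hN : Nrm D M) {g : SzG F s}
    (hg : g ∈ M) (hgp : g • Pinf F ≠ Pinf F) :
    ∃ a b : F, tG D a b ∈ M ∧ g • Pinf F = Paff s a b := by
  obtain ⟨z₁, z₂, hz₁, hz₂, hne, h₁, h₂⟩ := hN.inv
  obtain ⟨x, hxM, hx1, hx2, hx3⟩ := trans_inv D M hz₁ hz₂ h₁ h₂ hg hgp
  obtain ⟨a, b, c, rfl, habM, hcM⟩ := nrm_borel D hN hxM hx1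
  have hc1 : c ≠ 1 := by
    intro hc
    rw [hc, borel_conj D a b 1 z₁, Units.val_one, one_pow, one_mul] at hx3
    exact hne (tG_inj D hx3).2
  let φ : ↥(M ⊓ Usub D) → ↥(M ⊓ Usub D) := fun v =>
    ⟨(v : SzG F s) * (hG D c * (v : SzG F s)⁻¹ * (hG D c)⁻¹),
      Subgroup.mem_inf.mpr
        ⟨mul_mem (Subgroup.mem_inf.mp v.2).1
          (mul_mem (mul_mem hcM (inv_mem (Subgroup.mem_inf.mp v.2).1)) (inv_mem hcM)),
        mul_mem (Subgroup.mem_inf.mp v.2).2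
          (U_conj_mem D (hG_inf D c) (inv_mem (Subgroup.mem_inf.mp v.2).2))⟩⟩
  have hinj : Function.Injective φ := by
    intro v v' h
    have h' : (v : SzG F s) * (hG D c * (v : SzG F s)⁻¹ * (hG D c)⁻¹) =
        (v' : SzG F s) * (hG D c * (v' : SzG F s)⁻¹ * (hG D c)⁻¹) := congrArg Subtype.val h
    have h2 : (v : SzG F s) * hG D c * (v : SzG F s)⁻¹ =
        (v' : SzG F s) * hG D c * (v' : SzG F s)⁻¹ := by
      calc (v : SzG F s) * hG D c * (v : SzG F s)⁻¹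
          = (v : SzG F s) * (hG D c * (v : SzG F s)⁻¹ * (hG D c)⁻¹) * hG D c := by group
        _ = (v' : SzG F s) * (hG D c * (v' : SzG F s)⁻¹ * (hG D c)⁻¹) * hG D c := by rw [h']
        _ = (v' : SzG F s) * hG D c * (v' : SzG F s)⁻¹ := by group
    have hcomm : ((v' : SzG F s)⁻¹ * (v : SzG F s)) * hG D c =
        hG D c * ((v' : SzG F s)⁻¹ * (v : SzG F s)) := by
      calc (v' : SzG F s)⁻¹ * (v : SzG F s) * hG D c
          = (v' : SzG F s)⁻¹ * ((v : SzG F s) * hG D c * (v : SzG F s)⁻¹) * (v : SzG F s) := by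
            group
        _ = (v' : SzG F s)⁻¹ * ((v' : SzG F s) * hG D c * (v' : SzG F s)⁻¹) * (v : SzG F s) := by
            rw [h2]
        _ = hG D c * ((v' : SzG F s)⁻¹ * (v : SzG F s)) := by group
    obtain ⟨c'', hc''⟩ := centTorusG D hc1 _ hcomm
    obtain ⟨a'', b'', hab''⟩ : ∃ a'' b'' : F,
        (v' : SzG F s)⁻¹ * (v : SzG F s) = tG D a'' b'' := by
      have hmemU : (v' : SzG F s)⁻¹ * (v : SzG F s) ∈ Usub D := mul_mem (inv_mem (Subgroup.mem_inf.mp v'.2).2) (Subgroup.mem_inf.mp v.2).2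
      obtain ⟨a'', b'', h⟩ := hmemU
      exact ⟨a'', b'', Subtype.ext h⟩
    have hP : (tG D a'' b'') • P0 F = P0 F := by rw [← hab'', hc'', hG_zero]
    rw [tG_zero', ← Paff_zero D] at hP
    obtain ⟨ha0, hb0⟩ := Paff_inj hP
    rw [ha0, hb0, tG_zero_zero D] at hab''
    exact Subtype.ext (inv_mul_eq_one.mp hab'').symm
  have hsurj : Function.Surjective φ := Finite.injective_iff_surjective.mp hinj
  obtain ⟨v, hv⟩ := hsurj ⟨tG D a b, Subgroup.mem_inf.mpr ⟨habM, mem_U D a b⟩⟩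
  have hv' : (v : SzG F s) * (hG D c * (v : SzG F s)⁻¹ * (hG D c)⁻¹) = tG D a b :=
    congrArg Subtype.val hv
  have hxv : tG D a b * hG D c = (v : SzG F s) * hG D c * (v : SzG F s)⁻¹ := by
    rw [← hv']; group
  obtain ⟨a', b', hva⟩ : ∃ a' b' : F, (v : SzG F s) = tG D a' b' := by
    obtain ⟨a', b', h⟩ := (Subgroup.mem_inf.mp v.2).2
    exact ⟨a', b', Subtype.ext h⟩
  refine ⟨a', b', ?_, ?_⟩
  · rw [← hva]; exact (Subgroup.mem_inf.mp v.2).1
  · have hfixv : (tG D a b * hG D c) • Paff s a' b' = Paff s a' b' := by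
      have e : (tG D a' b')⁻¹ • Paff s a' b' = P0 F := by rw [inv_smul_eq_iff, tG_zero']
      rw [hxv, hva, mul_smul, mul_smul, e, hG_zero, tG_zero']
    by_contra hcon
    have hx1' : tG D a b * hG D c = 1 :=
      fix3G D _ inf_mem (smul_ov g inf_mem) (aff_mem a' b') (Ne.symm hgp) hcon
        (Ne.symm (Paff_ne_inf a' b')) hx1 hx2 hfixv
    rw [hx1', one_mul, inv_one, mul_one] at hx3
    exact hne (tG_inj D hx3).2

theorem nrm_winv (D : SzData F s) {M : Subgroup (SzG F s)} (hN : Nrm D M) {a b : F}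
    (hab : ¬ (a = 0 ∧ b = 0)) (h : tG D a b ∈ M) :
    tG D (b / fz s a b) (a / fz s a b) ∈ M := by
  have hg : wG D * tG D a b * wG D ∈ M := mul_mem (mul_mem hN.w h) hN.w
  have hinf : (wG D * tG D a b * wG D) • Pinf F = Paff s (b / fz s a b) (a / fz s a b) := by
    rw [mul_smul, mul_smul, wG_inf, tG_zero', wG_aff D hab]
  have hne : (wG D * tG D a b * wG D) • Pinf F ≠ Pinf F := by
    rw [hinf]; exact Paff_ne_inf _ _
  obtain ⟨a', b', hM', he⟩ := nrm_orbit D hN hg hne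
  rw [hinf] at he
  obtain ⟨ha', hb'⟩ := Paff_inj he
  rw [ha', hb']
  exact hM'

theorem nrm_zinv (D : SzData F s) {M : Subgroup (SzG F s)} (hN : Nrm D M) {z : F}
    (hz : z ≠ 0) (h : tG D 0 z ∈ M) : tG D (z / z ^ s) 0 ∈ M ∧ tG D 0 z⁻¹ ∈ M := by
  have h1 := nrm_winv D hN (fun h' => hz h'.2) h
  have hf : fz s (0 : F) z = z ^ s := by
    unfold fz
    rw [zero_mul, zero_pow (by omega : s + 2 ≠ 0), zero_add, zero_add]
  rw [hf, zero_div] at h1
  refine ⟨h1, ?_⟩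
  have h2 : tG D 0 ((z / z ^ s) ^ (s + 1)) ∈ M := by
    rw [← tG_sq D (z / z ^ s) 0]
    exact mul_mem h1 h1
  have e : (z / z ^ s) ^ (s + 1) = z⁻¹ := by
    have hzs : z ^ s ≠ 0 := pow_ne_zero _ hz
    rw [div_pow, pow_succ (z ^ s) s, D.sq z, pow_succ z s]
    field_simp
  rw [e] at h2
  exact h2

theorem nrm_zrep (D : SzData F s) {M : Subgroup (SzG F s)} (hN : Nrm D M) {z : F}
    (hz : z ≠ 0) (h : tG D 0 z ∈ M) : ∃ e : Fˣ, hG D e ∈ M ∧ z = (e : F) ^ (s + 1) := by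
  obtain ⟨-, hinv⟩ := nrm_zinv D hN hz h
  obtain ⟨c₁, hc₁M, hc₁⟩ := nrm_trans D hN hz (inv_ne_zero hz) h hinv
  refine ⟨c₁⁻¹, by rw [map_inv]; exact inv_mem hc₁M, ?_⟩
  apply D.sq_inj
  rw [Units.val_inv_eq_inv_val]
  have h1 : z ^ 2 * (c₁ : F) ^ (2 * s + 2) = 1 := by
    have h0 : z * z⁻¹ = 1 := mul_inv_cancel₀ hz
    rw [hc₁] at h0
    rw [← h0]; ring
  rw [← pow_mul, inv_pow, show (s + 1) * 2 = 2 * s + 2 by ring]
  exact eq_inv_of_mul_eq_one_left h1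

theorem nrm_zmem (D : SzData F s) {M : Subgroup (SzG F s)} (hN : Nrm D M) {e : Fˣ}
    (he : hG D e ∈ M) : tG D 0 ((e : F) ^ (s + 1)) ∈ M := by
  obtain ⟨z₁, z₂, hz₁, hz₂, hne, h₁, h₂⟩ := hN.inv
  obtain ⟨c₂, hc₂M, hc₂⟩ := nrm_zrep D hN hz₁ h₁
  obtain ⟨j, hj⟩ := D.two_dvd_card
  have hc'M : hG D ((e * c₂⁻¹) ^ j) ∈ M := by
    rw [map_pow]
    exact pow_mem (by rw [map_mul, map_inv]; exact mul_mem he (inv_mem hc₂M)) j
  have hsq : (((e * c₂⁻¹) ^ j : Fˣ) : F) ^ 2 = (e : F) * (c₂ : F)⁻¹ := by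
    rw [Units.val_pow_eq_pow_val, ← pow_mul, mul_comm j 2, ← hj, FiniteField.pow_card,
      Units.val_mul, Units.val_inv_eq_inv_val]
  have hconj := hG_conj_tG D ((e * c₂⁻¹) ^ j) 0 z₁
  have hmem : tG D ((((e * c₂⁻¹) ^ j : Fˣ) : F) ^ 2 * 0)
      ((((e * c₂⁻¹) ^ j : Fˣ) : F) ^ (2 * s + 2) * z₁) ∈ M := by
    rw [← hconj]; exact mul_mem (mul_mem hc'M h₁) (inv_mem hc'M)
  rw [mul_zero] at hmem
  have e2 : (((e * c₂⁻¹) ^ j : Fˣ) : F) ^ (2 * s + 2) * z₁ = (e : F) ^ (s + 1) := by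
    rw [hc₂, show 2 * s + 2 = 2 * (s + 1) by ring, pow_mul, hsq, mul_pow, inv_pow, mul_assoc,
      inv_mul_cancel₀ (pow_ne_zero _ c₂.ne_zero), mul_one]
  rw [e2] at hmem
  exact hmem

theorem nrm_amem (D : SzData F s) {M : Subgroup (SzG F s)} (hN : Nrm D M) {a b : F}
    (ha : a ≠ 0) (h : tG D a b ∈ M) : ∃ e : Fˣ, hG D e ∈ M ∧ a = (e : F) := by
  have h2 : tG D 0 (a ^ (s + 1)) ∈ M := by rw [← tG_sq D a b]; exact mul_mem h h
  obtain ⟨e, heM, he⟩ := nrm_zrep D hN (pow_ne_zero _ ha) h2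
  exact ⟨e, heM, pow_succ_inj D he⟩

theorem nrm_a0 (D : SzData F s) {M : Subgroup (SzG F s)} (hN : Nrm D M) {e : Fˣ}
    (he : hG D e ∈ M) : tG D (e : F) 0 ∈ M := by
  have hi : hG D e⁻¹ ∈ M := by rw [map_inv]; exact inv_mem he
  have hz := nrm_zmem D hN hi
  have hne : ((e⁻¹ : Fˣ) : F) ^ (s + 1) ≠ 0 := pow_ne_zero _ (Units.ne_zero _)
  obtain ⟨h1, -⟩ := nrm_zinv D hN hne hz
  have e1 : ((e⁻¹ : Fˣ) : F) ^ (s + 1) / (((e⁻¹ : Fˣ) : F) ^ (s + 1)) ^ s = (e : F) := by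
    rw [Units.val_inv_eq_inv_val]
    have he0 : (e : F) ≠ 0 := e.ne_zero
    have h3 : (((e : F)⁻¹) ^ (s + 1)) ^ s = ((e : F)⁻¹) ^ 2 * ((e : F)⁻¹) ^ s := by
      rw [← pow_mul, mul_comm (s + 1) s, pow_mul, pow_succ, D.sq]
    rw [h3, pow_succ]
    field_simp
  rw [e1] at h1
  exact h1

theorem nrm_bmem (D : SzData F s) {M : Subgroup (SzG F s)} (hN : Nrm D M) {a b : F}
    (h : tG D a b ∈ M) : tG D 0 b ∈ M := by
  by_cases ha : a = 0
  · subst ha; exact h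
  · obtain ⟨e, heM, he⟩ := nrm_amem D hN ha h
    have h0 := nrm_a0 D hN heM
    rw [← he] at h0
    have h1 : tG D a b * (tG D a 0)⁻¹ ∈ M := mul_mem h (inv_mem h0)
    have e1 : tG D a b * (tG D a 0)⁻¹ = tG D 0 b := by
      rw [tG_inv', tG_mul, D.add_self, zero_add]
      congr 1
      rw [pow_succ, add_assoc, D.add_self, add_zero]
    rw [e1] at h1
    exact h1

theorem nrm_zc (D : SzData F s) {M : Subgroup (SzG F s)} (hN : Nrm D M) {z : F} (hz : z ≠ 0)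
    (h : tG D 0 z ∈ M) : ∃ e : Fˣ, hG D e ∈ M ∧ z = (e : F) := by
  obtain ⟨e, heM, he⟩ := nrm_zrep D hN hz h
  exact ⟨e ^ (s + 1), by rw [map_pow]; exact pow_mem heM _,
    by rw [he, Units.val_pow_eq_pow_val]⟩

theorem nrm_cz (D : SzData F s) {M : Subgroup (SzG F s)} (hN : Nrm D M) {e : Fˣ}
    (he : hG D e ∈ M) : tG D 0 (e : F) ∈ M := by
  have h1 : hG D (e ^ (s - 1)) ∈ M := by rw [map_pow]; exact pow_mem he _
  have h2 := nrm_zmem D hN h1
  have e1 : (((e ^ (s - 1) : Fˣ)) : F) ^ (s + 1) = (e : F) := by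
    rw [Units.val_pow_eq_pow_val, ← pow_mul]
    have hs := D.four
    have he0 : (e : F) ≠ 0 := e.ne_zero
    have hss : (s - 1) * (s + 1) + 1 = s * s := by
      obtain ⟨s', hs'⟩ : ∃ s', s = s' + 1 := ⟨s - 1, by omega⟩
      rw [hs', Nat.add_sub_cancel]; ring
    have h3 : (e : F) ^ ((s - 1) * (s + 1)) * (e : F) = (e : F) * (e : F) := by
      rw [← pow_succ, hss, pow_mul, D.sq, sq]
    exact mul_right_cancel₀ he0 h3
  rw [e1] at h2
  exact h2

theorem nrm_aE (D : SzData F s) {M : Subgroup (SzG F s)} (hN : Nrm D M) {a b : F}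
    (h : tG D a b ∈ M) : tG D 0 a ∈ M := by
  by_cases ha : a = 0
  · rw [ha, tG_zero_zero D]; exact one_mem M
  · obtain ⟨e, heM, he⟩ := nrm_amem D hN ha h
    rw [he]; exact nrm_cz D hN heM

/-- the subfield attached to a subgroup in normalised position -/
def EF (D : SzData F s) {M : Subgroup (SzG F s)} (hN : Nrm D M) : Subfield F where
  carrier := {x | tG D 0 x ∈ M}
  mul_mem' := by
    intro x y hx hy
    show tG D 0 (x * y) ∈ M
    by_cases hx0 : x = 0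
    · rw [hx0, zero_mul, tG_zero_zero D]; exact one_mem M
    by_cases hy0 : y = 0
    · rw [hy0, mul_zero, tG_zero_zero D]; exact one_mem M
    obtain ⟨e, heM, he⟩ := nrm_zc D hN hx0 hx
    obtain ⟨e', heM', he'⟩ := nrm_zc D hN hy0 hy
    have h1 := nrm_cz D hN (show hG D (e * e') ∈ M by rw [map_mul]; exact mul_mem heM heM')
    rw [Units.val_mul, ← he, ← he'] at h1
    exact h1
  one_mem' := by
    show tG D 0 1 ∈ M
    have h1 := nrm_cz D hN (show hG D 1 ∈ M by rw [map_one]; exact one_mem M)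
    rw [Units.val_one] at h1
    exact h1
  add_mem' := by
    intro x y hx hy
    show tG D 0 (x + y) ∈ M
    rw [← tG_zero_mul D]
    exact mul_mem hx hy
  zero_mem' := by
    show tG D 0 0 ∈ M
    rw [tG_zero_zero D]; exact one_mem M
  neg_mem' := by
    intro x hx
    show tG D 0 (-x) ∈ M
    rw [D.neg]; exact hx
  inv_mem' := by
    intro x hx
    show tG D 0 x⁻¹ ∈ M
    by_cases hx0 : x = 0
    · rw [hx0, _root_.inv_zero, tG_zero_zero D]; exact one_mem M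
    · exact (nrm_zinv D hN hx0 hx).2

theorem mem_EF (D : SzData F s) {M : Subgroup (SzG F s)} (hN : Nrm D M) (x : F) :
    x ∈ EF D hN ↔ tG D 0 x ∈ M := Iff.rfl

/-- A subgroup in normalised position is contained in a subfield subgroup. -/
theorem nrm_main {m : ℕ} (hF : Fintype.card F = 2 ^ (2 * m + 1))
    (D : SzData F (2 ^ (m + 1))) {M : Subgroup (SzG F (2 ^ (m + 1)))} (hN : Nrm D M)
    (hM : M ≠ ⊤) :
    ∃ (K : Type) (_ : Field K) (_ : Fintype K) (k : ℕ), 1 ≤ k ∧ k < m ∧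
      Fintype.card K = 2 ^ (2 * k + 1) ∧ 2 * k + 1 ∣ 2 * m + 1 ∧
      ∃ S : Subgroup (SzG F (2 ^ (m + 1))),
        Nonempty (↥S ≃* ↥(SzG K (2 ^ (k + 1)))) ∧ M ≤ S := by
  classical
  haveI : CharP F 2 := CharTwo.of_one_ne_zero_of_two_eq_zero one_ne_zero D.two
  haveI : Fact (Nat.Prime 2) := ⟨Nat.prime_two⟩
  letI : Fintype (EF D hN) := Fintype.ofFinite _
  haveI : CharP (EF D hN) 2 := Subfield.charP (EF D hN) 2
  obtain ⟨a, -, ha⟩ := FiniteField.card (EF D hN) 2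
  have hpow : Fintype.card F = Fintype.card (EF D hN) ^ Module.finrank (EF D hN) F :=
    Module.card_eq_pow_finrank
  rw [hF, ha, ← pow_mul] at hpow
  have had : 2 * m + 1 = (a : ℕ) * Module.finrank (EF D hN) F :=
    Nat.pow_right_injective (le_refl 2) hpow
  have hodd : Odd ((a : ℕ) * Module.finrank (EF D hN) F) := by rw [← had]; exact ⟨m, rfl⟩
  obtain ⟨k, hk⟩ := (Nat.odd_mul.mp hodd).1
  have hdiv : 2 * k + 1 ∣ 2 * m + 1 := by rw [← hk, had]; exact dvd_mul_right _ _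
  rw [hk] at ha
  obtain ⟨z₁, z₂, hz₁, hz₂, hne, h₁, h₂⟩ := hN.inv
  have hk1 : 1 ≤ k := by
    by_contra hcon
    have hk0 : k = 0 := by omega
    rw [hk0] at ha
    have h3 : 2 < Fintype.card (EF D hN) :=
      Fintype.two_lt_card_iff.mpr ⟨⟨0, (EF D hN).zero_mem⟩, ⟨z₁, (mem_EF D hN z₁).mpr h₁⟩,
        ⟨z₂, (mem_EF D hN z₂).mpr h₂⟩,
        fun h => hz₁ (congrArg Subtype.val h).symm, fun h => hz₂ (congrArg Subtype.val h).symm,
        fun h => hne (congrArg Subtype.val h)⟩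
    rw [ha] at h3
    norm_num at h3
  letI : Fintype (GaloisField 2 (2 * k + 1)) := Fintype.ofFinite _
  have hK : Fintype.card (GaloisField 2 (2 * k + 1)) = 2 ^ (2 * k + 1) := by
    rw [← Nat.card_eq_fintype_card]; exact GaloisField.card 2 (2 * k + 1) (by omega)
  let e : GaloisField 2 (2 * k + 1) ≃+* EF D hN :=
    FiniteField.ringEquivOfCardEq (hK.trans ha.symm)
  let τ : GaloisField 2 (2 * k + 1) →+* F := (EF D hN).subtype.comp e.toRingHom
  have DK : SzData (GaloisField 2 (2 * k + 1)) (2 ^ (k + 1)) := szData hk1 hK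
  have hcomp : ∀ y : F, y ^ Fintype.card (GaloisField 2 (2 * k + 1)) = y →
      y ^ 2 ^ (m + 1) = y ^ 2 ^ (k + 1) := fun y hy => compat_of hK hdiv y hy
  have hτ : ∀ x : F, tG D 0 x ∈ M → ∃ x' : GaloisField 2 (2 * k + 1), τ x' = x := by
    intro x hx
    refine ⟨e.symm ⟨x, (mem_EF D hN x).mpr hx⟩, ?_⟩
    show ((e (e.symm ⟨x, (mem_EF D hN x).mpr hx⟩) : EF D hN) : F) = x
    rw [e.apply_symm_apply]
  have hT : ∀ a b : F, tG D a b ∈ M → tG D a b ∈ (subMap D DK hcomp τ).range := by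
    intro a b h
    obtain ⟨a', ha'⟩ := hτ a (nrm_aE D hN h)
    obtain ⟨b', hb'⟩ := hτ b (nrm_bmem D hN h)
    refine ⟨tG DK a' b', ?_⟩
    rw [subMap_tG, ha', hb']
  have hH : ∀ c : Fˣ, hG D c ∈ M → hG D c ∈ (subMap D DK hcomp τ).range := by
    intro c h
    obtain ⟨c', hc'⟩ := hτ (c : F) (nrm_cz D hN h)
    have hc'0 : c' ≠ 0 := by
      intro h0
      rw [h0, map_zero] at hc'
      exact c.ne_zero hc'.symm
    refine ⟨hG DK (Units.mk0 c' hc'0), ?_⟩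
    rw [subMap_hG]
    congr 1
    exact Units.ext hc'
  have hW : wG D ∈ (subMap D DK hcomp τ).range := ⟨wG DK, subMap_wG D DK hcomp τ⟩
  have hle : M ≤ (subMap D DK hcomp τ).range := by
    intro g hg
    by_cases hfix : g • Pinf F = Pinf F
    · obtain ⟨a, b, c, hgeq, habM, hcM⟩ := nrm_borel D hN hg hfix
      rw [hgeq]
      exact mul_mem (hT a b habM) (hH c hcM)
    · obtain ⟨a, b, habM, hgp⟩ := nrm_orbit D hN hg hfix
      have hg' : wG D * (tG D a b)⁻¹ * g ∈ M := mul_mem (mul_mem hN.w (inv_mem habM)) hg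
      have hfix' : (wG D * (tG D a b)⁻¹ * g) • Pinf F = Pinf F := by
        have e1 : (tG D a b)⁻¹ • Paff (2 ^ (m + 1)) a b = P0 F := by
          rw [inv_smul_eq_iff, tG_zero']
        rw [mul_smul, mul_smul, hgp, e1, wG_zero]
      obtain ⟨a', b', c', hx, habM', hcM'⟩ := nrm_borel D hN hg' hfix'
      have hgeq : g = tG D a b * wG D * (tG D a' b' * hG D c') := by
        rw [← hx]
        calc g = tG D a b * (wG D * wG D) * (tG D a b)⁻¹ * g := by rw [wG_sq D]; group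
          _ = tG D a b * wG D * (wG D * (tG D a b)⁻¹ * g) := by group
      rw [hgeq]
      exact mul_mem (mul_mem (hT a b habM) hW) (mul_mem (hT a' b' habM') (hH c' hcM'))
  have hkm : k < m := by
    by_contra hcon
    have hkm' : k = m := by
      have h1 := Nat.le_of_dvd (by omega) hdiv
      omega
    have hcardE : Fintype.card (EF D hN) = Fintype.card F := by rw [ha, hF, hkm']
    have hsurj : Function.Surjective ((EF D hN).subtype : EF D hN → F) :=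
      ((Fintype.bijective_iff_injective_and_card _).mpr ⟨Subtype.val_injective, hcardE⟩).2
    have hall : ∀ x : F, tG D 0 x ∈ M := by
      intro x
      obtain ⟨y, hy⟩ := hsurj x
      rw [← hy]
      exact (mem_EF D hN _).mp y.2
    have hHall : ∀ c : Fˣ, hG D c ∈ M := by
      intro c
      obtain ⟨e', he'M, he'⟩ := nrm_zc D hN c.ne_zero (hall (c : F))
      have hce : c = e' := Units.ext he'
      rw [hce]; exact he'M
    have hTall : ∀ a b : F, tG D a b ∈ M := by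
      intro a b
      have h1 : tG D a 0 ∈ M := by
        by_cases ha0 : a = 0
        · rw [ha0, tG_zero_zero D]; exact one_mem M
        · have h2 := nrm_a0 D hN (hHall (Units.mk0 a ha0))
          exact h2
      have h2 := mul_mem h1 (hall b)
      rw [tG_mul, add_zero, zero_add, mul_zero, add_zero] at h2
      exact h2
    apply hM
    rw [eq_top_iff]
    intro g _
    rcases SzG_cases D g.2 with ⟨a, b, c, h⟩ | ⟨a, b, a', b', c, h⟩
    · have hg : g = tG D a b * hG D c := Subtype.ext h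
      rw [hg]; exact mul_mem (hTall a b) (hHall c)
    · have hg : g = tG D a b * wG D * (tG D a' b' * hG D c) := Subtype.ext h
      rw [hg]
      exact mul_mem (mul_mem (hTall a b) hN.w) (mul_mem (hTall a' b') (hHall c))
  exact ⟨GaloisField 2 (2 * k + 1), inferInstance, inferInstance, k, hk1, hkm, hK, hdiv,
    (subMap D DK hcomp τ).range,
    ⟨(MonoidHom.ofInjective (subMap_inj D DK hcomp τ)).symm⟩, hle⟩

/-- A subgroup with two involutions fixing `∞` which does not fix `∞` is conjugate to a subgroup in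
normalised position. -/
theorem nrm_reduce (D : SzData F s) (M : Subgroup (SzG F s)) {z₁ z₂ : F} (hz₁ : z₁ ≠ 0)
    (hz₂ : z₂ ≠ 0) (hne : z₁ ≠ z₂) (h₁ : tG D 0 z₁ ∈ M) (h₂ : tG D 0 z₂ ∈ M) {g : SzG F s}
    (hg : g ∈ M) (hgp : g • Pinf F ≠ Pinf F) :
    ∃ k : SzG F s, Nrm D (M.map (MulAut.conj k).toMonoidHom) := by
  obtain ⟨y, hyM, hy2, -, hya, hyb⟩ := swap_exists D M hz₁ hz₁ h₁ h₁ hg hgp
  have hpov : g • Pinf F ∈ ov F s := smul_ov g inf_mem
  rcases mem_ov.mp hpov with hinf | ⟨a₀, b₀, hp⟩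
  · exact absurd hinf hgp
  rw [hp] at hya hyb
  have hu : (tG D a₀ b₀)⁻¹ • Paff s a₀ b₀ = P0 F := by rw [inv_smul_eq_iff, tG_zero']
  have hu' : (tG D a₀ b₀)⁻¹ • Pinf F = Pinf F := by rw [inv_smul_eq_iff, tG_inf]
  have h1 : ((tG D a₀ b₀)⁻¹ * y * tG D a₀ b₀) • Pinf F = P0 F := by
    rw [mul_smul, mul_smul, tG_inf, hya, hu]
  have h2 : ((tG D a₀ b₀)⁻¹ * y * tG D a₀ b₀) • P0 F = Pinf F := by
    rw [mul_smul, mul_smul, tG_zero', hyb, hu']
  obtain ⟨d, hd⟩ := swapG D _ h1 h2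
  obtain ⟨x, hx⟩ := D.sqrt (d : F)
  have hx0 : x ≠ 0 := by
    intro h0
    rw [h0, zero_pow (by norm_num)] at hx
    exact d.ne_zero hx.symm
  have he2 : Units.mk0 x hx0 * Units.mk0 x hx0 = d := by
    apply Units.ext
    rw [Units.val_mul, Units.val_mk0, ← hx, sq]
  have hhw : ∀ c : Fˣ, hG D c * wG D = wG D * hG D c⁻¹ := by
    intro c
    rw [← wG_hG D c]
    calc hG D c * wG D = (wG D * wG D) * hG D c * wG D := by rw [wG_sq D, one_mul]
      _ = wG D * (wG D * hG D c * wG D) := by group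
  refine ⟨hG D (Units.mk0 x hx0) * (tG D a₀ b₀)⁻¹, ⟨?_, ?_⟩⟩
  · refine ⟨y, hyM, ?_⟩
    show hG D (Units.mk0 x hx0) * (tG D a₀ b₀)⁻¹ * y *
      (hG D (Units.mk0 x hx0) * (tG D a₀ b₀)⁻¹)⁻¹ = wG D
    calc hG D (Units.mk0 x hx0) * (tG D a₀ b₀)⁻¹ * y *
          (hG D (Units.mk0 x hx0) * (tG D a₀ b₀)⁻¹)⁻¹
        = hG D (Units.mk0 x hx0) * ((tG D a₀ b₀)⁻¹ * y * tG D a₀ b₀) *
            (hG D (Units.mk0 x hx0))⁻¹ := by group
      _ = hG D (Units.mk0 x hx0) * (wG D * hG D d) * (hG D (Units.mk0 x hx0))⁻¹ := by rw [hd]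
      _ = (hG D (Units.mk0 x hx0) * wG D) * hG D d * (hG D (Units.mk0 x hx0))⁻¹ := by group
      _ = wG D * (hG D (Units.mk0 x hx0)⁻¹ * hG D d * (hG D (Units.mk0 x hx0))⁻¹) := by
          rw [hhw]; group
      _ = wG D := by
          rw [← map_inv (hG D), ← map_mul (hG D), ← map_mul (hG D), ← he2]
          have e1 : (Units.mk0 x hx0)⁻¹ * (Units.mk0 x hx0 * Units.mk0 x hx0) *
              (Units.mk0 x hx0)⁻¹ = 1 := by group
          rw [e1, map_one, mul_one]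
  · have hconj : ∀ z : F, tG D 0 z ∈ M →
        tG D 0 (((Units.mk0 x hx0 : Fˣ) : F) ^ (2 * s + 2) * z) ∈
          M.map (MulAut.conj (hG D (Units.mk0 x hx0) * (tG D a₀ b₀)⁻¹)).toMonoidHom := by
      intro z hz
      refine ⟨tG D 0 z, hz, ?_⟩
      show hG D (Units.mk0 x hx0) * (tG D a₀ b₀)⁻¹ * tG D 0 z *
        (hG D (Units.mk0 x hx0) * (tG D a₀ b₀)⁻¹)⁻¹ = _
      have hc : (tG D a₀ b₀)⁻¹ * tG D 0 z * tG D a₀ b₀ = tG D 0 z := by
        rw [mul_assoc, ← tG_central D a₀ b₀ z, ← mul_assoc, inv_mul_cancel, one_mul]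
      calc hG D (Units.mk0 x hx0) * (tG D a₀ b₀)⁻¹ * tG D 0 z *
            (hG D (Units.mk0 x hx0) * (tG D a₀ b₀)⁻¹)⁻¹
          = hG D (Units.mk0 x hx0) * ((tG D a₀ b₀)⁻¹ * tG D 0 z * tG D a₀ b₀) *
              (hG D (Units.mk0 x hx0))⁻¹ := by group
        _ = hG D (Units.mk0 x hx0) * tG D 0 z * (hG D (Units.mk0 x hx0))⁻¹ := by rw [hc]
        _ = tG D 0 (((Units.mk0 x hx0 : Fˣ) : F) ^ (2 * s + 2) * z) := by
            rw [hG_conj_tG, mul_zero]
    have hpe : ((Units.mk0 x hx0 : Fˣ) : F) ^ (2 * s + 2) ≠ 0 :=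
      pow_ne_zero _ (Units.ne_zero _)
    exact ⟨_, _, mul_ne_zero hpe hz₁, mul_ne_zero hpe hz₂,
      fun h => hne (mul_left_cancel₀ hpe h), hconj z₁ h₁, hconj z₂ h₂⟩

end Cfsg.Agent.Helper6.SzSg
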