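import Mathlib
import Cfsg.Agent.Helper6.SzSg3

set_option autoImplicit false

/-!
Subgroups of the Suzuki group `Sz(q)`, part 4: every proper subgroup normalises a Sylow
`2`-subgroup or a cyclic self-centralising subgroup, or is contained in a subfield subgroup.
-/

namespace Cfsg.Agent.Helper6.SzSg

open Matrix Cfsg.Agent.Helper6.Sz Cfsg.Agent.Helper6.SzOut Cfsg.Agent.Helper6.SzSub
open scoped Pointwise

theorem map_conj_ne_top {G : Type*} [Group G] (g : G) (M : Subgroup G) (hM : M ≠ ⊤) :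
    M.map (MulAut.conj g).toMonoidHom ≠ ⊤ := by
  intro h
  apply hM
  rw [eq_top_iff]
  intro x _
  have hx : g * x * g⁻¹ ∈ M.map (MulAut.conj g).toMonoidHom := by
    rw [h]; exact Subgroup.mem_top _
  obtain ⟨y, hy, hyx⟩ := hx
  have h' : g * y * g⁻¹ = g * x * g⁻¹ := hyx
  have hyx' : y = x := mul_left_cancel (mul_right_cancel h')
  rw [← hyx']; exact hy

variable {F : Type*} [Field F] [Fintype F]

/-- The subgroups of the Suzuki groups. -/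
theorem subgroups_main {m : ℕ} (hm : 1 ≤ m) (hF : Fintype.card F = 2 ^ (2 * m + 1))
    (M : Subgroup (SzG F (2 ^ (m + 1)))) (hM : M ≠ ⊤) :
    (∃ P : Sylow 2 (SzG F (2 ^ (m + 1))),
      M ≤ Subgroup.normalizer
        ((P : Subgroup (SzG F (2 ^ (m + 1)))) : Set (SzG F (2 ^ (m + 1))))) ∨
    (∃ U : Subgroup (SzG F (2 ^ (m + 1))), IsCyclic U ∧
      Nat.card U ∈ ({2 ^ (2 * m + 1) - 1, 2 ^ (2 * m + 1) + 2 ^ (m + 1) + 1,
        2 ^ (2 * m + 1) - 2 ^ (m + 1) + 1} : Set ℕ) ∧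
      M ≤ Subgroup.normalizer (U : Set (SzG F (2 ^ (m + 1))))) ∨
    (∃ (K : Type) (_ : Field K) (_ : Fintype K) (k : ℕ), 1 ≤ k ∧ k < m ∧
      Fintype.card K = 2 ^ (2 * k + 1) ∧ 2 * k + 1 ∣ 2 * m + 1 ∧
      ∃ S : Subgroup (SzG F (2 ^ (m + 1))),
        Nonempty (↥S ≃* ↥(SzG K (2 ^ (k + 1)))) ∧ M ≤ S) := by
  have D := szData hm hF
  have hqr : Fintype.card F = 2 * (2 ^ m) ^ 2 := by rw [hF]; ring
  have h2r : 2 * 2 ^ m = 2 ^ (m + 1) := by ring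
  have hle : 2 ^ (m + 1) ≤ 2 ^ (2 * m + 1) := Nat.pow_le_pow_right (by norm_num) (by omega)
  have h3 : ¬ 3 ∣ Nat.card (SzG F (2 ^ (m + 1))) := by
    rw [card_SzG D, hF]
    have hq3 : 2 ^ (2 * m + 1) % 3 = 2 := by
      rw [pow_succ, pow_mul, Nat.mul_mod, Nat.pow_mod]; norm_num
    have hq1 : 1 ≤ 2 ^ (2 * m + 1) := Nat.one_le_two_pow
    generalize 2 ^ (2 * m + 1) = q at hq3 hq1
    intro hdvd
    have h1 : q ^ 2 % 3 = 1 := by simp [Nat.pow_mod, hq3]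
    have h2 : (q ^ 2 + 1) % 3 = 2 := by omega
    have h3' : (q - 1) % 3 = 1 := by omega
    have h4 : (q ^ 2 * (q ^ 2 + 1) * (q - 1)) % 3 = 2 := by
      rw [Nat.mul_mod, Nat.mul_mod (q ^ 2), h1, h2, h3']
    omega
  have conv : ∀ T : Subgroup (SzG F (2 ^ (m + 1))), Tor3 (2 ^ (m + 1)) (2 ^ m) T →
      Nat.card T ∈ ({2 ^ (2 * m + 1) - 1, 2 ^ (2 * m + 1) + 2 ^ (m + 1) + 1,
        2 ^ (2 * m + 1) - 2 ^ (m + 1) + 1} : Set ℕ) := by
    intro T hT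
    have h := hT.2.1
    rw [hF, h2r] at h
    exact (card_set_iff hle).mp h
  by_cases hfixpt : ∃ a ∈ ov F (2 ^ (m + 1)), ∀ g ∈ M, g • a = a
  · obtain ⟨a, ha, hfix⟩ := hfixpt
    exact Or.inl (sylow_of_fix D M ha hfix)
  right
  have hmove : ∀ a ∈ ov F (2 ^ (m + 1)), ∃ g ∈ M, g • a ≠ a := by
    intro a ha
    by_contra hcon
    apply hfixpt
    refine ⟨a, ha, fun g hg => ?_⟩
    by_contra hne
    exact hcon ⟨g, hg, hne⟩
  by_cases heven : 2 ∣ Nat.card M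
  · haveI : Fact (Nat.Prime 2) := ⟨Nat.prime_two⟩
    obtain ⟨t, ht⟩ := exists_prime_orderOf_dvd_card' (G := ↥M) 2 heven
    have ht1 : (t : SzG F (2 ^ (m + 1))) ≠ 1 := by
      intro h
      have h' : t = 1 := Subtype.ext h
      rw [h', orderOf_one] at ht
      norm_num at ht
    have ht2 : (t : SzG F (2 ^ (m + 1))) * (t : SzG F (2 ^ (m + 1))) = 1 := by
      have h' : t ^ 2 = 1 := by
        have h0 := pow_orderOf_eq_one t
        rw [ht] at h0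
        exact h0
      rw [pow_two] at h'
      exact congrArg Subtype.val h'
    have ht2' : ((t : SzG F (2 ^ (m + 1))) : SL4 F) ^ 2 ^ 1 = 1 := by
      rw [pow_one, pow_two]
      exact congrArg Subtype.val ht2
    have ht1' : ((t : SzG F (2 ^ (m + 1))) : SL4 F) ≠ 1 := fun h => ht1 (Subtype.ext h)
    obtain ⟨k, hk, a, b, hab, hkt⟩ := two_elt_conj D (t : SzG F (2 ^ (m + 1))).2 ht2' ht1'
    have hkt' : (⟨k, hk⟩ : SzG F (2 ^ (m + 1))) * (t : SzG F (2 ^ (m + 1))) *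
        (⟨k, hk⟩ : SzG F (2 ^ (m + 1)))⁻¹ = tG D a b := Subtype.ext hkt
    generalize (⟨k, hk⟩ : SzG F (2 ^ (m + 1))) = k' at hkt'
    have hsq : tG D a b * tG D a b = 1 := by
      rw [← hkt']
      calc k' * (t : SzG F (2 ^ (m + 1))) * k'⁻¹ * (k' * (t : SzG F (2 ^ (m + 1))) * k'⁻¹)
          = k' * ((t : SzG F (2 ^ (m + 1))) * (t : SzG F (2 ^ (m + 1)))) * k'⁻¹ := by group
        _ = 1 := by rw [ht2]; group
    rw [tG_sq] at hsq
    have ha0 : a = 0 := (pow_eq_zero_iff (by omega : 2 ^ (m + 1) + 1 ≠ 0)).mp (tG_eq_one D hsq).2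
    rw [ha0] at hkt'
    have hb0 : b ≠ 0 := fun h => hab ⟨ha0, h⟩
    have hbM' : tG D 0 b ∈ M.map (MulAut.conj k').toMonoidHom := ⟨t, t.2, hkt'⟩
    -- the conjugate subgroup moves `∞`
    obtain ⟨g, hg, hgp⟩ := hmove (k'⁻¹ • Pinf F) (smul_ov k'⁻¹ inf_mem)
    have hg' : k' * g * k'⁻¹ ∈ M.map (MulAut.conj k').toMonoidHom := ⟨g, hg, rfl⟩
    have hgp' : (k' * g * k'⁻¹) • Pinf F ≠ Pinf F := by
      intro h
      apply hgp
      rw [mul_smul, mul_smul, ← eq_inv_smul_iff] at h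
      exact h
    by_cases huniq : ∀ z : F, z ≠ 0 → tG D 0 z ∈ M.map (MulAut.conj k').toMonoidHom → z = b
    · left
      obtain ⟨T, hT, hTle⟩ := uniq_case D hqr h3 (M.map (MulAut.conj k').toMonoidHom) hb0 hbM'
        huniq ⟨_, hg', hgp'⟩
      obtain ⟨T', hT'c, hT'card, hT'le⟩ := tor_conj k' M T hT.1 hTle
      exact ⟨T', hT'c, by rw [hT'card]; exact conv T hT, hT'le⟩
    · right
      push_neg at huniq
      obtain ⟨z, hz0, hzM', hzb⟩ := huniq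
      obtain ⟨k₂, hN⟩ := nrm_reduce D (M.map (MulAut.conj k').toMonoidHom) hb0 hz0
        (Ne.symm hzb) hbM' hzM' hg' hgp'
      have hM'' := map_conj_ne_top k₂ _ (map_conj_ne_top k' M hM)
      obtain ⟨K, iK, iK', k, hk1, hkm, hK, hdiv, S, ⟨e⟩, hS⟩ := nrm_main hF D hN hM''
      obtain ⟨S₂, ⟨e₂⟩, hS₂⟩ := sub_conj' k₂ _ S e hS
      obtain ⟨S₃, ⟨e₃⟩, hS₃⟩ := sub_conj' k' M S₂ e₂ hS₂
      exact ⟨K, iK, iK', k, hk1, hkm, hK, hdiv, S₃, ⟨e₃⟩, hS₃⟩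
  · left
    have hMbot : M ≠ ⊥ := by
      intro hbot
      obtain ⟨g, hg, hgp⟩ := hmove (Pinf F) inf_mem
      rw [hbot, Subgroup.mem_bot] at hg
      rw [hg, one_smul] at hgp
      exact hgp rfl
    obtain ⟨T, hT, hTle⟩ := tor_of_odd_normal D hqr h3 M M heven hMbot
      (fun g hg x hx => mul_mem (mul_mem hg hx) (inv_mem hg))
    exact ⟨T, hT.1, conv T hT, hTle⟩

end Cfsg.Agent.Helper6.SzSg
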