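import Mathlib
import Cfsg.Agent.Helper6.SzSg4

set_option autoImplicit false

/-!
Transitive actions of the Suzuki group `Sz(q)` in which every non-trivial element fixes at most two
points and some element fixes exactly two: the point stabiliser is the normaliser of a Sylow
`2`-subgroup (the doubly transitive action on the ovoid) or a split torus of order `q - 1`.
-/

namespace Cfsg.Agent.Helper6.SzFix

open Matrix Cfsg.Agent.Helper6.Sz Cfsg.Agent.Helper6.SzOut Cfsg.Agent.Helper6.SzSub
  Cfsg.Agent.Helper6.SzSg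
open scoped Pointwise

section generic

variable {G : Type*} [Group G] {Ω : Type*} [MulAction G Ω] [Finite Ω]

/-- among three points fixed by an element with at most two fixed points, two coincide -/
theorem fix3 {g : G} (hfix : Nat.card (MulAction.fixedBy Ω g) ≤ 2) {a b c : Ω}
    (ha : g • a = a) (hb : g • b = b) (hc : g • c = c) : a = b ∨ a = c ∨ b = c := by
  by_contra hcon
  have hab : a ≠ b := fun h => hcon (Or.inl h)
  have hac : a ≠ c := fun h => hcon (Or.inr (Or.inl h))
  have hbc : b ≠ c := fun h => hcon (Or.inr (Or.inr h))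
  have hsub : ({a, b, c} : Set Ω) ⊆ MulAction.fixedBy Ω g := by
    intro x hx
    rcases hx with rfl | rfl | rfl
    · exact ha
    · exact hb
    · exact hc
  have h3 : ({a, b, c} : Set Ω).ncard = 3 :=
    Set.ncard_eq_three.mpr ⟨a, b, c, hab, hac, hbc, rfl⟩
  have hle := Set.ncard_le_ncard hsub (Set.toFinite _)
  rw [Nat.card_coe_set_eq] at hfix
  omega

theorem sq_fix {g : G} (hfix : Nat.card (MulAction.fixedBy Ω g) ≤ 2) (u : G) {α : Ω}
    (h0 : g • α = α) (h1 : g • u • α = u • α) (h2 : g • (u * u) • α = (u * u) • α) :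
    (u * u) • α = α := by
  rcases fix3 hfix h0 h1 h2 with h | h | h
  · rw [mul_smul, ← h, ← h]
  · exact h.symm
  · rw [mul_smul] at h
    have h' : α = u • α := MulAction.injective u h
    rw [mul_smul, ← h', ← h']

omit [Finite Ω] in
theorem card_stab_smul (g : G) (a : Ω) :
    Nat.card (MulAction.stabilizer G (g • a)) = Nat.card (MulAction.stabilizer G a) := by
  rw [MulAction.stabilizer_smul_eq_stabilizer_map_conj]
  exact Subgroup.card_map_of_injective (MulAut.conj g).injective

/-- in a cyclic group, a subgroup contains every element whose order divides its order -/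
theorem cyc_mem {H : Type*} [Group H] [Finite H] (T M : Subgroup H) (hT : IsCyclic T)
    (hMT : M ≤ T) (t : H) (ht : t ∈ T) (hpow : t ^ Nat.card M = 1) : t ∈ M := by
  classical
  haveI := hT
  letI : Fintype T := Fintype.ofFinite _
  letI : Fintype M := Fintype.ofFinite _
  have hpos : 0 < Nat.card M := Nat.card_pos
  have hle := IsCyclic.card_pow_eq_one_le (α := T) hpos
  let f : M → T := fun y => ⟨(y : H), hMT y.2⟩
  have hinj : Function.Injective f := by
    intro y y' h
    exact Subtype.ext (congrArg (fun z : T => (z : H)) h)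
  have hsub : Finset.univ.image f ⊆ Finset.univ.filter (fun a : T => a ^ Nat.card M = 1) := by
    intro y hy
    obtain ⟨y', -, rfl⟩ := Finset.mem_image.mp hy
    rw [Finset.mem_filter]
    refine ⟨Finset.mem_univ _, ?_⟩
    apply Subtype.ext
    rw [Subgroup.coe_pow, Subgroup.coe_one]
    show (y' : H) ^ Nat.card M = 1
    have h1 : y' ^ Nat.card M = 1 := pow_card_eq_one'
    have h2 : ((y' ^ Nat.card M : M) : H) = 1 := by rw [h1]; rfl
    rw [Subgroup.coe_pow] at h2
    exact h2
  have hcard : (Finset.univ.image f).card = Nat.card M := by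
    rw [Finset.card_image_of_injective _ hinj, Finset.card_univ, Nat.card_eq_fintype_card]
  have heq := Finset.eq_of_subset_of_card_le hsub (by rw [hcard]; exact hle)
  have hmem : (⟨t, ht⟩ : T) ∈ Finset.univ.filter (fun a : T => a ^ Nat.card M = 1) := by
    rw [Finset.mem_filter]
    refine ⟨Finset.mem_univ _, ?_⟩
    apply Subtype.ext
    rw [Subgroup.coe_pow, Subgroup.coe_one]
    exact hpow
  rw [← heq] at hmem
  obtain ⟨y, -, hy⟩ := Finset.mem_image.mp hmem
  have hyt : (y : H) = t := congrArg (fun z : T => (z : H)) hy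
  rw [← hyt]
  exact y.2

/-- if the stabiliser of a point lies in a cyclic subgroup `T`, and an element `x` of it has at
most two fixed points, then the normaliser of `T` has order at most twice the stabiliser -/
theorem norm_bound [Finite G] (x : G) (α : Ω) (hx : x • α = α)
    (hfix : Nat.card (MulAction.fixedBy Ω x) ≤ 2) (T : Subgroup G) (hT : IsCyclic T)
    (hMT : MulAction.stabilizer G α ≤ T) :
    Nat.card (Subgroup.normalizer (T : Set G)) ≤ 2 * Nat.card (MulAction.stabilizer G α) := by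
  have hxM : x ∈ MulAction.stabilizer G α := hx
  have hC2 : ∀ h ∈ Subgroup.normalizer (T : Set G), x • (h • α) = h • α := by
    intro h hh
    have hmem : h⁻¹ * x * h ∈ T := (Subgroup.mem_normalizer_iff''.mp hh x).mp (hMT hxM)
    have hxpow : x ^ Nat.card (MulAction.stabilizer G α) = 1 := by
      have h1 : (⟨x, hxM⟩ : MulAction.stabilizer G α) ^ Nat.card (MulAction.stabilizer G α) = 1 :=
        pow_card_eq_one'
      have h2 : (((⟨x, hxM⟩ : MulAction.stabilizer G α) ^ Nat.card (MulAction.stabilizer G α) :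
          MulAction.stabilizer G α) : G) = 1 := by rw [h1]; rfl
      rw [Subgroup.coe_pow] at h2
      exact h2
    have hpow : (h⁻¹ * x * h) ^ Nat.card (MulAction.stabilizer G α) = 1 := by
      have e : h⁻¹ * x * h = h⁻¹ * x * h⁻¹⁻¹ := by rw [inv_inv]
      rw [e, conj_pow, hxpow]
      group
    have hM' : h⁻¹ * x * h ∈ MulAction.stabilizer G α := cyc_mem T _ hT hMT _ hmem hpow
    have hfix' : (h⁻¹ * x * h) • α = α := hM'
    calc x • (h • α) = h • ((h⁻¹ * x * h) • α) := by
          rw [← mul_smul, ← mul_smul]; congr 1; group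
      _ = h • α := by rw [hfix']
  have horb : MulAction.orbit ↥(Subgroup.normalizer (T : Set G)) α ⊆ MulAction.fixedBy Ω x := by
    rintro _ ⟨h, rfl⟩
    exact hC2 (h : G) h.2
  have h1 : (MulAction.orbit ↥(Subgroup.normalizer (T : Set G)) α).ncard ≤ 2 := by
    have := Set.ncard_le_ncard horb (Set.toFinite _)
    rw [Nat.card_coe_set_eq] at hfix
    omega
  have h2 := Subgroup.card_mul_index
    (MulAction.stabilizer ↥(Subgroup.normalizer (T : Set G)) α)
  rw [MulAction.index_stabilizer] at h2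
  have h3 : Nat.card (MulAction.stabilizer ↥(Subgroup.normalizer (T : Set G)) α) ≤
      Nat.card (MulAction.stabilizer G α) := by
    apply Nat.card_le_card_of_injective
      (fun y : MulAction.stabilizer ↥(Subgroup.normalizer (T : Set G)) α =>
        (⟨((y : ↥(Subgroup.normalizer (T : Set G))) : G), y.2⟩ : MulAction.stabilizer G α))
    intro y y' h
    exact Subtype.ext (Subtype.ext (congrArg (fun z : MulAction.stabilizer G α => (z : G)) h))
  calc Nat.card (Subgroup.normalizer (T : Set G))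
      = Nat.card (MulAction.stabilizer ↥(Subgroup.normalizer (T : Set G)) α) *
        (MulAction.orbit ↥(Subgroup.normalizer (T : Set G)) α).ncard := h2.symm
    _ ≤ Nat.card (MulAction.stabilizer G α) * 2 := Nat.mul_le_mul h3 h1
    _ = 2 * Nat.card (MulAction.stabilizer G α) := mul_comm _ _

end generic

variable {F : Type*} [Field F] [Fintype F] {s : ℕ}

theorem three_not_dvd {m : ℕ} (hF : Fintype.card F = 2 ^ (2 * m + 1))
    (D : SzData F (2 ^ (m + 1))) : ¬ 3 ∣ Nat.card (SzG F (2 ^ (m + 1))) := by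
  rw [card_SzG D, hF]
  have hq3 : 2 ^ (2 * m + 1) % 3 = 2 := by
    rw [pow_succ, pow_mul, Nat.mul_mod, Nat.pow_mod]; norm_num
  have hq1 : 1 ≤ 2 ^ (2 * m + 1) := Nat.one_le_two_pow
  generalize 2 ^ (2 * m + 1) = q at hq3 hq1
  intro hdvd
  have h1 : q ^ 2 % 3 = 1 := by simp [Nat.pow_mod, hq3]
  have h2 : (q ^ 2 + 1) % 3 = 2 := by omega
  have h3' : (q - 1) % 3 = 1 := by omega
  have h4 : (q ^ 2 * (q ^ 2 + 1) * (q - 1)) % 3 = 2 := by
    rw [Nat.mul_mod, Nat.mul_mod (q ^ 2), h1, h2, h3']
  omega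

/-- a subgroup of even order contains a conjugate of a central involution of the translation
subgroup -/
theorem exists_inv_conj (D : SzData F s) (M : Subgroup (SzG F s)) (heven : 2 ∣ Nat.card M) :
    ∃ k : SzG F s, ∃ t ∈ M, ∃ b : F, b ≠ 0 ∧ k * t * k⁻¹ = tG D 0 b := by
  haveI : Fact (Nat.Prime 2) := ⟨Nat.prime_two⟩
  obtain ⟨t, ht⟩ := exists_prime_orderOf_dvd_card' (G := ↥M) 2 heven
  have ht1 : (t : SzG F s) ≠ 1 := by
    intro h
    have h' : t = 1 := Subtype.ext h
    rw [h', orderOf_one] at ht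
    norm_num at ht
  have ht2 : (t : SzG F s) * (t : SzG F s) = 1 := by
    have h' : t ^ 2 = 1 := by
      have h0 := pow_orderOf_eq_one t
      rw [ht] at h0
      exact h0
    rw [pow_two] at h'
    exact congrArg Subtype.val h'
  have ht2' : ((t : SzG F s) : SL4 F) ^ 2 ^ 1 = 1 := by
    rw [pow_one, pow_two]
    exact congrArg Subtype.val ht2
  have ht1' : ((t : SzG F s) : SL4 F) ≠ 1 := fun h => ht1 (Subtype.ext h)
  obtain ⟨k, hk, a, b, hab, hkt⟩ := two_elt_conj D (t : SzG F s).2 ht2' ht1'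
  have hkt' : (⟨k, hk⟩ : SzG F s) * (t : SzG F s) * (⟨k, hk⟩ : SzG F s)⁻¹ = tG D a b :=
    Subtype.ext hkt
  generalize (⟨k, hk⟩ : SzG F s) = k' at hkt'
  have hsq : tG D a b * tG D a b = 1 := by
    rw [← hkt']
    calc k' * (t : SzG F s) * k'⁻¹ * (k' * (t : SzG F s) * k'⁻¹)
        = k' * ((t : SzG F s) * (t : SzG F s)) * k'⁻¹ := by group
      _ = 1 := by rw [ht2]; group
  rw [tG_sq] at hsq
  have ha0 : a = 0 := (pow_eq_zero_iff (by omega : s + 1 ≠ 0)).mp (tG_eq_one D hsq).2
  rw [ha0] at hkt'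
  exact ⟨k', t, t.2, b, fun h => hab ⟨ha0, h⟩, hkt'⟩

/-- If a central involution of the translation subgroup fixes a point, the stabiliser of that
point is the stabiliser of the point at infinity of the ovoid. -/
theorem even_case {m : ℕ} (hF : Fintype.card F = 2 ^ (2 * m + 1)) (D : SzData F (2 ^ (m + 1)))
    {Ω : Type*} [MulAction (SzG F (2 ^ (m + 1))) Ω] [Finite Ω]
    (hfix : ∀ g : SzG F (2 ^ (m + 1)), g ≠ 1 → Nat.card (MulAction.fixedBy Ω g) ≤ 2)
    (hntop : ∀ α : Ω, MulAction.stabilizer (SzG F (2 ^ (m + 1))) α ≠ ⊤)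
    (α : Ω) {z₀ : F} (hz₀ : z₀ ≠ 0) (ht : tG D 0 z₀ • α = α) :
    ∀ g : SzG F (2 ^ (m + 1)), g • α = α ↔ g • Pinf F = Pinf F := by
  have ht1 : tG D 0 z₀ ≠ 1 := fun h => hz₀ (tG_eq_one D h).2
  have hft := hfix _ ht1
  -- the centre of the translation subgroup
  have hcomm : ∀ a b : F, tG D 0 z₀ • tG D a b • α = tG D a b • α := by
    intro a b
    rw [← mul_smul, ← tG_central D a b z₀, mul_smul, ht]
  have hZ : ∀ z : F, tG D 0 z • α = α := by
    intro z
    by_cases hz : z = 0
    · rw [hz, tG_zero_zero, one_smul]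
    obtain ⟨a, ha⟩ := D.exists_root hz
    have hu2 : tG D a 0 * tG D a 0 = tG D 0 z := by rw [tG_sq, ha]
    rw [← hu2]
    apply sq_fix hft (tG D a 0) ht (hcomm a 0)
    rw [hu2]
    exact hcomm 0 z
  -- conjugates
  have hB : ∀ h : SzG F (2 ^ (m + 1)), h • Pinf F = Pinf F →
      tG D 0 z₀ • h • α = h • α := by
    intro h hh
    have hh' : h⁻¹ • Pinf F = Pinf F := by rw [inv_smul_eq_iff, hh]
    obtain ⟨a, b, c, habc⟩ := stabG D h⁻¹ hh'
    obtain ⟨z', hconj⟩ : ∃ z' : F, h⁻¹ * tG D 0 z₀ * h = tG D 0 z' := by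
      have e := borel_conj D a b c z₀
      rw [← habc, inv_inv] at e
      exact ⟨_, e⟩
    calc tG D 0 z₀ • h • α = h • ((h⁻¹ * tG D 0 z₀ * h) • α) := by
          rw [← mul_smul, ← mul_smul]; congr 1; group
      _ = h • α := by rw [hconj, hZ]
  -- the torus
  have hH : ∀ c : Fˣ, hG D c • α = α := by
    intro c
    obtain ⟨d, hd⟩ : ∃ d : Fˣ, d * d = c := by
      obtain ⟨d0, hd0⟩ := D.sqrt (c : F)
      have hd0ne : d0 ≠ 0 := by
        rintro rfl
        rw [zero_pow (show 2 ≠ 0 by norm_num)] at hd0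
        exact c.ne_zero hd0.symm
      exact ⟨Units.mk0 d0 hd0ne, Units.ext (by rw [Units.val_mul, Units.val_mk0, ← hd0, sq])⟩
    rw [← hd, map_mul]
    apply sq_fix hft (hG D d) ht (hB _ (hG_inf D d))
    apply hB
    rw [mul_smul, hG_inf, hG_inf]
  have hHinv : ∀ c : Fˣ, (hG D c)⁻¹ • α = α := fun c => inv_smul_eq_iff.mpr (hH c).symm
  -- one translation outside the centre
  obtain ⟨a₁, b₁, ha₁, hab₁⟩ : ∃ a₁ b₁ : F, a₁ ≠ 0 ∧ tG D a₁ b₁ • α = α := by
    obtain ⟨ε, hε0, hε1⟩ := D.exists_ne
    rcases fix3 hft ht (hB _ (tG_inf D 1 0)) (hB _ (tG_inf D ε 0)) with h | h | h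
    · exact ⟨1, 0, one_ne_zero, h.symm⟩
    · exact ⟨ε, 0, hε0, h.symm⟩
    · have h' : ((tG D ε 0)⁻¹ * tG D 1 0) • α = α := by
        rw [mul_smul, h, inv_smul_smul]
      rw [tG_inv', tG_mul] at h'
      refine ⟨ε + 1, _, ?_, h'⟩
      intro h0
      apply hε1
      linear_combination h0 - D.two
  -- all translations
  have hU : ∀ a b : F, tG D a b • α = α := by
    intro a b
    by_cases ha : a = 0
    · rw [ha]; exact hZ b
    obtain ⟨c0, hc0⟩ := D.sqrt (a / a₁)
    have hc0ne : c0 ≠ 0 := by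
      rintro rfl
      rw [zero_pow (show 2 ≠ 0 by norm_num)] at hc0
      exact (div_ne_zero ha ha₁) hc0.symm
    obtain ⟨b', h1⟩ : ∃ b' : F, tG D a b' • α = α := by
      have e := hG_conj_tG D (Units.mk0 c0 hc0ne) a₁ b₁
      rw [Units.val_mk0, hc0, div_mul_cancel₀ a ha₁] at e
      have h1 : tG D a (c0 ^ (2 * 2 ^ (m + 1) + 2) * b₁) • α = α := by
        rw [← e, mul_smul, mul_smul, hHinv, hab₁, hH]
      exact ⟨_, h1⟩
    rw [tG_split D a b b', mul_smul, hZ, h1]
  have hBle : ∀ g : SzG F (2 ^ (m + 1)), g • Pinf F = Pinf F → g • α = α := by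
    intro g hg
    obtain ⟨a, b, c, rfl⟩ := stabG D g hg
    rw [mul_smul, hH, hU]
  intro g
  refine ⟨fun hg => ?_, hBle g⟩
  by_contra hgp
  obtain ⟨ε, hε0, hε1⟩ := D.exists_ne
  have hz₂0 : ε * z₀ ≠ 0 := mul_ne_zero hε0 hz₀
  have hz₂ : z₀ ≠ ε * z₀ := by
    intro h
    apply hε1
    have h' : ε * z₀ = 1 * z₀ := by rw [one_mul]; exact h.symm
    exact mul_right_cancel₀ hz₀ h'
  obtain ⟨k, hN⟩ := nrm_reduce D (MulAction.stabilizer (SzG F (2 ^ (m + 1))) α) hz₀ hz₂0 hz₂
    (hZ z₀) (hZ (ε * z₀)) hg hgp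
  have hM'' := map_conj_ne_top k _ (hntop α)
  obtain ⟨K, iK, iK', k', hk1, hkm, hK, hdiv, S, ⟨e⟩, hS⟩ := nrm_main hF D hN hM''
  have DK : SzData K (2 ^ (k' + 1)) := szData hk1 hK
  have hcardS : Nat.card S = Nat.card (SzG K (2 ^ (k' + 1))) := Nat.card_congr e.toEquiv
  have hUle : (Usub D).map (MulAut.conj k).toMonoidHom ≤ S := by
    refine le_trans (Subgroup.map_mono ?_) hS
    rintro u ⟨a, b, hu⟩
    have hu' : u = tG D a b := Subtype.ext hu
    rw [hu']
    exact hU a b
  have hdvd : Nat.card (Usub D) ∣ Nat.card S := by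
    have h1 : Nat.card ((Usub D).map (MulAut.conj k).toMonoidHom) = Nat.card (Usub D) :=
      Subgroup.card_map_of_injective (MulAut.conj k).injective
    rw [← h1]
    exact Subgroup.card_dvd_of_le hUle
  rw [card_U, hcardS, card_SzG DK, hF, hK] at hdvd
  have hn2 : (2 ^ (2 * k' + 1)) ^ 2 = 2 * (2 ^ (2 * k') * 2 ^ (2 * k' + 1)) := by
    rw [pow_succ]; ring
  have hn1 : 2 ^ (2 * k' + 1) = 2 * 2 ^ (2 * k') := by rw [pow_succ]; ring
  have hpos : 1 ≤ 2 ^ (2 * k') := Nat.one_le_two_pow
  have hodd : ¬ 2 ∣ ((2 ^ (2 * k' + 1)) ^ 2 + 1) * (2 ^ (2 * k' + 1) - 1) := by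
    intro h
    rcases (Nat.Prime.dvd_mul Nat.prime_two).mp h with h | h
    · rw [hn2] at h; omega
    · rw [hn1] at h; omega
  have hcop : Nat.Coprime ((2 ^ (2 * m + 1)) ^ 2)
      (((2 ^ (2 * k' + 1)) ^ 2 + 1) * (2 ^ (2 * k' + 1) - 1)) := by
    rw [← pow_mul]
    exact Nat.Coprime.pow_left _ ((Nat.Prime.coprime_iff_not_dvd Nat.prime_two).mpr hodd)
  rw [mul_assoc] at hdvd
  have hdvd' := hcop.dvd_of_dvd_mul_right hdvd
  rw [← pow_mul, ← pow_mul] at hdvd'
  have hle := (Nat.pow_dvd_pow_iff_le_right (by norm_num : 1 < 2)).mp hdvd'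
  omega

/-- Transitive actions of `Sz(q)` of fixity two. -/
theorem fix_two {m : ℕ} (hm : 1 ≤ m) (hF : Fintype.card F = 2 ^ (2 * m + 1))
    {Ω : Type*} [MulAction (SzG F (2 ^ (m + 1))) Ω] [Finite Ω]
    (htr : ∀ a b : Ω, ∃ g : SzG F (2 ^ (m + 1)), g • a = b)
    (hfix : ∀ g : SzG F (2 ^ (m + 1)), g ≠ 1 → Nat.card (MulAction.fixedBy Ω g) ≤ 2)
    (hex : ∃ g : SzG F (2 ^ (m + 1)), g ≠ 1 ∧ Nat.card (MulAction.fixedBy Ω g) = 2) :
    (Nat.card Ω = Fintype.card F ^ 2 + 1 ∧
      ∀ a b c d : Ω, a ≠ b → c ≠ d → ∃ g : SzG F (2 ^ (m + 1)), g • a = c ∧ g • b = d) ∨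
    (Nat.card Ω = Fintype.card F ^ 2 * (Fintype.card F ^ 2 + 1) ∧
      ∀ α : Ω, Nat.card (MulAction.stabilizer (SzG F (2 ^ (m + 1))) α) =
        Fintype.card F - 1) := by
  have D := szData hm hF
  have hqr : Fintype.card F = 2 * (2 ^ m) ^ 2 := by rw [hF]; ring
  have h3 := three_not_dvd hF D
  obtain ⟨g₀, hg₀1, hg₀⟩ := hex
  have hne : (MulAction.fixedBy Ω g₀).Nonempty := by
    rw [← Set.ncard_pos (Set.toFinite _), ← Nat.card_coe_set_eq, hg₀]; norm_num
  obtain ⟨α₀, hα₀⟩ := hne
  have hα₀' : g₀ • α₀ = α₀ := hα₀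
  -- stabilisers are proper
  have hntop : ∀ α : Ω, MulAction.stabilizer (SzG F (2 ^ (m + 1))) α ≠ ⊤ := by
    intro α htop
    have hall : ∀ b : Ω, b = α := by
      intro b
      obtain ⟨g, hg⟩ := htr α b
      have hgm : g ∈ MulAction.stabilizer (SzG F (2 ^ (m + 1))) α := by
        rw [htop]; exact Subgroup.mem_top g
      rw [← hg]; exact hgm
    haveI hsub : Subsingleton Ω := ⟨fun a b => (hall a).trans (hall b).symm⟩
    have hle : Nat.card (MulAction.fixedBy Ω g₀) ≤ 1 :=
      Finite.card_le_one_iff_subsingleton.mpr inferInstance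
    omega
  have horb : ∀ α : Ω, MulAction.orbit (SzG F (2 ^ (m + 1))) α = Set.univ := by
    intro α
    ext b
    simp only [Set.mem_univ, iff_true]
    obtain ⟨g, hg⟩ := htr α b
    exact ⟨g, hg⟩
  have hindex : ∀ α : Ω, Nat.card (MulAction.stabilizer (SzG F (2 ^ (m + 1))) α) * Nat.card Ω =
      Nat.card (SzG F (2 ^ (m + 1))) := by
    intro α
    have h := Subgroup.card_mul_index (MulAction.stabilizer (SzG F (2 ^ (m + 1))) α)
    rw [MulAction.index_stabilizer, horb α, Set.ncard_univ] at h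
    exact h
  have hcard : ∀ α : Ω, Nat.card (MulAction.stabilizer (SzG F (2 ^ (m + 1))) α) =
      Nat.card (MulAction.stabilizer (SzG F (2 ^ (m + 1))) α₀) := by
    intro α
    obtain ⟨g, rfl⟩ := htr α₀ α
    exact card_stab_smul g α₀
  by_cases heven : 2 ∣ Nat.card (MulAction.stabilizer (SzG F (2 ^ (m + 1))) α₀)
  · left
    obtain ⟨k, t, htM, b, hb0, hkt⟩ := exists_inv_conj D _ heven
    have htα : t • α₀ = α₀ := htM
    have ht : tG D 0 b • (k • α₀) = k • α₀ := by
      rw [← hkt, mul_smul, mul_smul, inv_smul_smul, htα]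
    generalize k • α₀ = α at ht
    have hMB := even_case hF D hfix hntop α hb0 ht
    have hstab : MulAction.stabilizer (SzG F (2 ^ (m + 1))) α =
        MulAction.stabilizer (SzG F (2 ^ (m + 1))) (Pinf F) := by
      ext g; exact hMB g
    constructor
    · have h1 := hindex α
      have h2 := Subgroup.card_mul_index (MulAction.stabilizer (SzG F (2 ^ (m + 1))) (Pinf F))
      rw [MulAction.index_stabilizer, orbit_inf D] at h2
      have h2' : (ov F (2 ^ (m + 1))).ncard = Fintype.card F ^ 2 + 1 := by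
        rw [← Nat.card_coe_set_eq, card_ov]
      rw [h2', ← hstab] at h2
      have hpos : 0 < Nat.card (MulAction.stabilizer (SzG F (2 ^ (m + 1))) α) := Nat.card_pos
      exact Nat.eq_of_mul_eq_mul_left hpos (h1.trans h2.symm)
    · intro a b c d hab hcd
      obtain ⟨x, rfl⟩ := htr α a
      obtain ⟨y, rfl⟩ := htr α b
      obtain ⟨x', rfl⟩ := htr α c
      obtain ⟨y', rfl⟩ := htr α d
      have key : ∀ u v : SzG F (2 ^ (m + 1)), u • α = v • α ↔ u • Pinf F = v • Pinf F := by
        intro u v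
        rw [← inv_smul_eq_iff, ← mul_smul, hMB, mul_smul, inv_smul_eq_iff]
      have h1 : x • Pinf F ≠ y • Pinf F := fun h => hab ((key x y).mpr h)
      have h2 : x' • Pinf F ≠ y' • Pinf F := fun h => hcd ((key x' y').mpr h)
      obtain ⟨g, hg, hga, hgb⟩ := two_trans D (smul_ov x inf_mem) (smul_ov y inf_mem)
        (smul_ov x' inf_mem) (smul_ov y' inf_mem) h1 h2
      refine ⟨⟨g, hg⟩, ?_, ?_⟩
      · rw [← mul_smul, key, mul_smul]; exact hga
      · rw [← mul_smul, key, mul_smul]; exact hgb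
  · right
    suffices hq : ∃ α : Ω, Nat.card (MulAction.stabilizer (SzG F (2 ^ (m + 1))) α) =
        Fintype.card F - 1 by
      obtain ⟨α₁, hq⟩ := hq
      rw [hcard α₁] at hq
      refine ⟨?_, fun α => by rw [hcard α, hq]⟩
      have h1 := hindex α₀
      rw [hq, card_SzG D] at h1
      have hpos : 0 < Fintype.card F - 1 := by have := D.eight_le; omega
      apply Nat.eq_of_mul_eq_mul_left hpos
      rw [h1]; ring
    have hg₀M : g₀ ∈ MulAction.stabilizer (SzG F (2 ^ (m + 1))) α₀ := hα₀'
    by_cases hfp : Fpf (2 ^ (m + 1)) (g₀ : SL4 F)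
    · exfalso
      obtain ⟨A₁, A₂, hA₁, hA₂, hc₁, hc₂, hn₁, hn₂, hsub⟩ := tori D hqr
      have main : ∀ A : Subgroup (SzG F (2 ^ (m + 1))), IsTor (2 ^ (m + 1)) A →
          Nat.card (Subgroup.normalizer (A : Set (SzG F (2 ^ (m + 1))))) = 4 * Nat.card A →
          g₀ ∈ XA A → False := by
        rintro A hA hn ⟨-, k, hk⟩
        have hx' : (k * g₀ * k⁻¹) • (k • α₀) = k • α₀ := by
          rw [mul_smul, mul_smul, inv_smul_smul, hα₀']
        have hx'1 : k * g₀ * k⁻¹ ≠ 1 := fun h => hg₀1 (conj_eq_one_iff.mp h)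
        have hodd' : ¬ 2 ∣ Nat.card (MulAction.stabilizer (SzG F (2 ^ (m + 1))) (k • α₀)) := by
          rw [hcard]; exact heven
        have hC : Subgroup.centralizer ({k * g₀ * k⁻¹} : Set (SzG F (2 ^ (m + 1)))) = A :=
          tor_TI D hA _ hk hx'1
        have hab := odd_abelian D hqr h3 _ hodd'
        have hle : MulAction.stabilizer (SzG F (2 ^ (m + 1))) (k • α₀) ≤ A := by
          intro y hy
          rw [← hC, Subgroup.mem_centralizer_singleton_iff]
          exact hab y hy _ hx'
        have hb := norm_bound (k * g₀ * k⁻¹) (k • α₀) hx' (hfix _ hx'1) A (tor_cyclic D hA) hle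
        have h5 := Subgroup.card_le_of_le hle
        have hpos : 0 < Nat.card A := Nat.card_pos
        omega
      rcases hsub hfp with h | h
      · exact main A₁ hA₁ hn₁ h
      · exact main A₂ hA₂ hn₂ h
    · have hex : ∃ a ∈ ov F (2 ^ (m + 1)), g₀ • a = a := by
        by_contra h
        apply hfp
        intro a ha hfix'
        exact h ⟨a, ha, hfix'⟩
      obtain ⟨a, ha, hfixa⟩ := hex
      have hx4 := (pow_four_ne heven hg₀M hg₀1).2
      obtain ⟨k, h | ⟨c, hc⟩⟩ := fixCasesG D g₀ ha hfixa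
      · exfalso
        obtain ⟨a', b', hkx⟩ := h
        apply hx4
        have h4 : (k * g₀ * k⁻¹) ^ 4 = 1 := by
          rw [hkx]
          exact tG_pow_four D a' b'
        rw [conj_pow] at h4
        exact conj_eq_one_iff.mp h4
      · have hc1 : c ≠ 1 := by
          rintro rfl
          rw [map_one] at hc
          exact hg₀1 (conj_eq_one_iff.mp hc)
        have hx' : hG D c • (k • α₀) = k • α₀ := by
          rw [← hc, mul_smul, mul_smul, inv_smul_smul, hα₀']
        have hx'1 : hG D c ≠ 1 := by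
          rw [← hc]
          exact fun h => hg₀1 (conj_eq_one_iff.mp h)
        have hodd' : ¬ 2 ∣ Nat.card (MulAction.stabilizer (SzG F (2 ^ (m + 1))) (k • α₀)) := by
          rw [hcard]; exact heven
        have hC : Subgroup.centralizer ({hG D c} : Set (SzG F (2 ^ (m + 1)))) = (hG D).range := by
          ext e
          rw [Subgroup.mem_centralizer_singleton_iff]
          constructor
          · intro h
            obtain ⟨c', hc'⟩ := centTorusG D hc1 e h
            exact ⟨c', hc'.symm⟩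
          · rintro ⟨c', rfl⟩
            rw [← map_mul, ← map_mul, mul_comm]
        have hab := odd_abelian D hqr h3 _ hodd'
        have hle : MulAction.stabilizer (SzG F (2 ^ (m + 1))) (k • α₀) ≤ (hG D).range := by
          intro y hy
          rw [← hC, Subgroup.mem_centralizer_singleton_iff]
          exact hab y hy _ hx'
        have hcyc : IsCyclic (hG D).range :=
          isCyclic_of_surjective (hG D).rangeRestrict (hG D).rangeRestrict_surjective
        have hb := norm_bound (hG D c) (k • α₀) hx' (hfix _ hx'1) (hG D).range hcyc hle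
        have hcardH : Nat.card (hG D).range = Fintype.card F - 1 := by
          rw [← Nat.card_congr (MonoidHom.ofInjective (hG_inj D)).toEquiv, Nat.card_units,
            Nat.card_eq_fintype_card]
        have hwinv : (wG D)⁻¹ = wG D := inv_eq_of_mul_eq_one_right (wG_sq D)
        have hw : wG D ∈ Subgroup.normalizer
            (((hG D).range : Subgroup (SzG F (2 ^ (m + 1)))) : Set (SzG F (2 ^ (m + 1)))) := by
          rw [Subgroup.mem_normalizer_iff]
          intro h
          constructor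
          · rintro ⟨c', rfl⟩
            rw [hwinv, wG_hG]
            exact ⟨_, rfl⟩
          · rintro ⟨c', hc'⟩
            rw [hwinv] at hc'
            have e : h = wG D * hG D c' * wG D := by
              rw [hc']
              calc h = (wG D * wG D) * h * (wG D * wG D) := by rw [wG_sq]; group
                _ = wG D * (wG D * h * wG D) * wG D := by group
            rw [e, wG_hG]
            exact ⟨_, rfl⟩
        have hwn : wG D ∉ (hG D).range := by
          rintro ⟨c', hc'⟩
          have h := wG_inf D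
          rw [← hc', hG_inf] at h
          exact P0_ne_inf h.symm
        have hlt : (hG D).range <
            Subgroup.normalizer
              (((hG D).range : Subgroup (SzG F (2 ^ (m + 1)))) : Set (SzG F (2 ^ (m + 1)))) :=
          lt_of_le_of_ne Subgroup.le_normalizer (fun h => hwn (by rw [h]; exact hw))
        obtain ⟨j, hj⟩ := Subgroup.card_dvd_of_le hlt.le
        have hne' : Nat.card (hG D).range ≠ Nat.card (Subgroup.normalizer
            (((hG D).range : Subgroup (SzG F (2 ^ (m + 1)))) : Set (SzG F (2 ^ (m + 1))))) := by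
          intro h
          exact hlt.ne (Subgroup.eq_of_le_of_card_ge hlt.le h.ge)
        have hposN : 0 < Nat.card (Subgroup.normalizer
            (((hG D).range : Subgroup (SzG F (2 ^ (m + 1)))) : Set (SzG F (2 ^ (m + 1))))) :=
          Nat.card_pos
        have hj2 : 2 ≤ j := by
          by_contra hcon
          have hj01 : j = 0 ∨ j = 1 := by omega
          rcases hj01 with rfl | rfl
          · rw [mul_zero] at hj; omega
          · rw [mul_one] at hj; exact hne' hj.symm
        have h5 := Subgroup.card_le_of_le hle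
        have h6 : 2 * Nat.card (hG D).range ≤ Nat.card (Subgroup.normalizer
            (((hG D).range : Subgroup (SzG F (2 ^ (m + 1)))) : Set (SzG F (2 ^ (m + 1))))) := by
          rw [hj]; nlinarith
        refine ⟨k • α₀, ?_⟩
        omega

end Cfsg.Agent.Helper6.SzFix
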